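import Cfsg.Agent.Lib.TC.D.HND.F9

namespace Cfsg.Agent.Lib.TC.D.HND.All

open Cfsg.Agent.Lib.TC.D.HND.Sys Cfsg.Agent.Lib.TC.D.HND.Fa

set_option maxRecDepth 100000

/-- All the statements of a list. -/
def AllF (F : List Nat → List Nat → Prop) : List (List Nat × List Nat) → Prop
  | [] => True
  | x :: l => F x.1 x.2 ∧ AllF F l

theorem AllF_mem {F : List Nat → List Nat → Prop} {l : List (List Nat × List Nat)} (h : AllF F l) :
    ∀ x ∈ l, F x.1 x.2 := by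
  induction l with
  | nil => simp
  | cons a l ih =>
    intro x hx
    rcases List.mem_cons.1 hx with rfl | hx
    · exact h.1
    · exact ih h.2 x hx

/-- The statements that are needed. -/
def lit : List (List Nat × List Nat) :=
  [([],[]),
   ([],[]),
   ([],[]),
   ([],[]),
   ([],[]),
   ([],[]),
   ([],[]),
   ([],[]),
   ([],[]),
   ([],[]),
   ([],[]),
   ([],[]),
   ([],[]),
   ([],[]),
   ([],[]),
   ([0],[0]),
   ([0],[0]),
   ([0],[0]),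
   ([0],[0]),
   ([0],[0]),
   ([0],[0]),
   ([0],[0]),
   ([0],[0]),
   ([0],[0]),
   ([0],[0]),
   ([0],[0]),
   ([0],[0]),
   ([7,151],[0,27]),
   ([0,27],[0,27]),
   ([0,27],[0,27]),
   ([54,2],[0,27]),
   ([0,27],[0,27]),
   ([0,27],[0,27]),
   ([0,27],[0,27]),
   ([0,27],[0,27]),
   ([0,27],[0,27]),
   ([0,27],[0,27]),
   ([0,27],[0,27]),
   ([0,5],[0,5]),
   ([0,5],[0,5]),
   ([0,5],[0,5]),
   ([0,5],[0,5]),
   ([6,4],[0,5]),
   ([0,5],[0,5]),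
   ([0,5],[0,5]),
   ([0,5],[0,5]),
   ([0,5],[0,5]),
   ([0,5],[0,5]),
   ([0,5],[0,5]),
   ([0,5],[0,5]),
   ([0,5],[0,5]),
   ([0,5],[0,5]),
   ([0,5],[0,5]),
   ([0,5],[0,5]),
   ([0,99],[0,99]),
   ([0,99],[0,99]),
   ([0,99],[0,99]),
   ([99,0],[0,99]),
   ([0,99],[0,99]),
   ([0,99],[0,99]),
   ([0,99],[0,99]),
   ([0,99],[0,99]),
   ([0,99],[0,99]),
   ([0,99],[0,99]),
   ([3,2],[0,6]),
   ([4,5],[0,6]),
   ([0,6],[0,6]),
   ([0,6],[0,6]),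
   ([86,279],[0,6]),
   ([0,6],[0,6]),
   ([0,6],[0,6]),
   ([0,6],[0,6]),
   ([0,6],[0,6]),
   ([0,6],[0,6]),
   ([0,6],[0,6]),
   ([0,6],[0,6]),
   ([0,6],[0,6]),
   ([0,6],[0,6]),
   ([0,6],[0,6]),
   ([0,6],[0,6]),
   ([257,79,54],[0,5,7]),
   ([22,79,4],[0,5,7]),
   ([0,5,7],[0,5,7]),
   ([0,5,7],[0,5,7]),
   ([0,5,7],[0,5,7]),
   ([0,5,7],[0,5,7]),
   ([17,5,110],[0,5,7]),
   ([0,5,7],[0,5,7]),
   ([0,5,7],[0,5,7]),
   ([0,5,7],[0,5,7]),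
   ([0,5,7],[0,5,7]),
   ([0,5,7],[0,5,7]),
   ([0,5,7],[0,5,7]),
   ([0,5,7],[0,5,7]),
   ([22,37,4,120],[0,5,7,24]),
   ([257,37,54,120],[0,5,7,24]),
   ([257,37,54,120],[0,5,7,24]),
   ([9,33,60,4],[0,5,7,24]),
   ([1,3,12,14],[0,5,7,24]),
   ([531,206,136,21],[0,5,7,24]),
   ([11,45,201,108],[0,5,7,24]),
   ([120,165,25,22],[0,5,7,24]),
   ([577,578,132,418],[0,5,7,24]),
   ([60,12,9,257],[0,5,7,24]),
   ([268,1041,282,686],[0,5,7,24]),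
   ([120,165,25,22],[0,5,7,24]),
   ([60,12,9,257],[0,5,7,24]),
   ([75,269,490,41],[0,5,7,24]),
   ([256,474,173,411],[0,5,7,24]),
   ([120,165,25,22],[0,5,7,24]),
   ([60,12,9,257],[0,5,7,24]),
   ([256,474,173,411],[0,5,7,24]),
   ([120,165,25,22],[0,5,7,24]),
   ([60,12,9,257],[0,5,7,24]),
   ([60,12,9,257],[0,5,7,24]),
   ([350,142,29],[0,27,21]),
   ([350,142,29],[0,27,21]),
   ([254,447,29],[0,27,21]),
   ([77,233,168],[0,27,21]),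
   ([727,1274,914],[0,27,21]),
   ([555,666,880],[0,27,21]),
   ([0],[0]),
   ([0,0],[1]),
   ([0,1],[2]),
   ([0,2],[4]),
   ([0,3],[4]),
   ([0,4],[]),
   ([0,5],[0,5]),
   ([0,6],[0,6]),
   ([0,9],[5,0]),
   ([0,17],[2,22]),
   ([0,27],[0,27]),
   ([0,99],[0,99]),
   ([0,27,0],[257,33]),
   ([0,27,1],[54]),
   ([0,27,2],[12,33]),
   ([0,27,3],[27,110,6]),
   ([0,27,4],[54,1]),
   ([0,27,5],[7,1]),
   ([0,27,8],[472,393]),
   ([0,27,11],[216,1]),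
   ([0,27,13],[348,27,60]),
   ([0,27,18],[257,174,2]),
   ([0,27,19],[10,33]),
   ([0,27,21],[0,27,21]),
   ([0,27,23],[22,169]),
   ([0,27,28],[2,29,257]),
   ([0,27,29],[22,165]),
   ([0,27,31],[308,298,233]),
   ([0,5,0],[6]),
   ([0,5,1],[6,0]),
   ([0,5,2],[5]),
   ([0,5,4],[4,6]),
   ([0,5,7],[0,5,7]),
   ([0,5,10],[120,165,22]),
   ([0,5,12],[120,165]),
   ([0,5,22],[79,0]),
   ([0,5,36],[83,2]),
   ([0,5,38],[3]),
   ([0,5,44],[116,99,32]),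
   ([0,5,45],[0,254]),
   ([0,5,57],[3,59]),
   ([0,5,65],[38,64]),
   ([0,99,0],[99,1]),
   ([0,99,1],[99,2]),
   ([0,99,2],[99,4]),
   ([0,99,3],[26,65]),
   ([0,99,4],[99]),
   ([0,99,5],[123,421]),
   ([0,99,6],[140,122,496]),
   ([0,99,7],[236,4]),
   ([0,99,9],[559,124,75]),
   ([0,99,10],[358,327,390]),
   ([0,99,12],[252,61]),
   ([0,99,21],[303,778,863]),
   ([0,99,22],[507,33]),
   ([0,99,31],[11,778,142]),
   ([0,99,35],[1354,1003,303]),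
   ([0,99,50],[52,265]),
   ([0,6,0],[1,3]),
   ([0,6,1],[3]),
   ([0,6,7],[5,17,2]),
   ([0,6,10],[120,1]),
   ([0,5,7,0],[22,79]),
   ([0,5,7,1],[5,22]),
   ([0,5,7,2],[3,27]),
   ([0,5,7,3],[4,6,22]),
   ([0,5,7,4],[110,27,51]),
   ([0,5,7,5],[110,12]),
   ([0,5,7,6],[33,110]),
   ([0,5,7,8],[489,209]),
   ([0,5,7,9],[33,4]),
   ([0,5,7,11],[8,110,29]),
   ([0,5,7,13],[18,274]),
   ([0,5,7,14],[10,51,2]),
   ([0,5,7,15],[4,6,22]),
   ([0,5,7,18],[51,66]),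
   ([0,5,7,21],[513,72,201]),
   ([0,5,7,23],[7,174,276]),
   ([0,5,7,24],[0,5,7,24]),
   ([0,5,7,25],[2,9,10]),
   ([0,5,7,28],[12,77]),
   ([0,5,7,31],[555,510,192]),
   ([0,5,7,35],[67,182]),
   ([0,5,7,36],[5,72,84]),
   ([0,5,7,38],[164,3]),
   ([0,5,7,52],[1315,1328,651]),
   ([0,5,7,56],[68,175,118]),
   ([0,5,7,57],[81,10]),
   ([0,5,7,59],[173,54]),
   ([0,5,7,73],[408,402,1318]),
   ([0,5,7,80],[1139,1276,1135]),
   ([0,5,7,100],[417,198,714]),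
   ([0,5,7,24,0],[25,33,120]),
   ([0,5,7,24,98],[158,338,536,514]),
   ([0,27,21,0],[31,365]),
   ([0,27,21,1],[182,447,566]),
   ([0,27,21,8],[22,47,33]),
   ([0,27,21,11],[301,513,367]),
   ([0,27,21,13],[376,590,596]),
   ([0,27,21,20],[1098,245]),
   ([0,27,21,36],[1107,996,829])]

theorem all {F : List Nat → List Nat → Prop} (S : Sys F) : AllF F lit :=
  ⟨f3304 S,
   f3304 S,
   f3304 S,
   f3304 S,
   f4216 S,
   f3304 S,
   f4269 S,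
   f4272 S,
   f3304 S,
   f3304 S,
   f3304 S,
   f4289 S,
   f3304 S,
   f3304 S,
   f3304 S,
   f1 S,
   f1 S,
   f4301 S,
   f4353 S,
   f4356 S,
   f4301 S,
   f4301 S,
   f4301 S,
   f4373 S,
   f4301 S,
   f4301 S,
   f4301 S,
   f187 S,
   f213 S,
   f240 S,
   f562 S,
   f4385 S,
   f4385 S,
   f4385 S,
   f4385 S,
   f4404 S,
   f4385 S,
   f4385 S,
   f37 S,
   f62 S,
   f91 S,
   f116 S,
   f148 S,
   f4411 S,
   f4411 S,
   f4411 S,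
   f4411 S,
   f4411 S,
   f4425 S,
   f4433 S,
   f4411 S,
   f4441 S,
   f4444 S,
   f4411 S,
   f286 S,
   f322 S,
   f355 S,
   f911 S,
   f4450 S,
   f4458 S,
   f4463 S,
   f4489 S,
   f4492 S,
   f4450 S,
   f132 S,
   f154 S,
   f393 S,
   f417 S,
   f646 S,
   f4544 S,
   f4550 S,
   f4555 S,
   f4499 S,
   f4564 S,
   f4499 S,
   f4573 S,
   f4576 S,
   f4499 S,
   f4584 S,
   f4590 S,
   f450 S,
   f703 S,
   f758 S,
   f811 S,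
   f4598 S,
   f4592 S,
   f4605 S,
   f4610 S,
   f4592 S,
   f4592 S,
   f4592 S,
   f4621 S,
   f4592 S,
   f4628 S,
   f1183 S,
   f1207 S,
   f1227 S,
   f1296 S,
   f1392 S,
   f1443 S,
   f1490 S,
   f4874 S,
   f4880 S,
   f4886 S,
   f4892 S,
   f4874 S,
   f4886 S,
   f4916 S,
   f4922 S,
   f4874 S,
   f4886 S,
   f4922 S,
   f4874 S,
   f4886 S,
   f4886 S,
   f590 S,
   f619 S,
   f672 S,
   f1067 S,
   f1129 S,
   f5186 S,
   f1 S,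
   f3 S,
   f1492 S,
   f118 S,
   f134 S,
   f1498 S,
   f16 S,
   f125 S,
   f33 S,
   f1533 S,
   f167 S,
   f267 S,
   f1540 S,
   f1550 S,
   f1598 S,
   f445 S,
   f1605 S,
   f1615 S,
   f1649 S,
   f1660 S,
   f1699 S,
   f1722 S,
   f1726 S,
   f574 S,
   f1758 S,
   f1795 S,
   f557 S,
   f1827 S,
   f1837 S,
   f1844 S,
   f1851 S,
   f1858 S,
   f423 S,
   f1862 S,
   f1866 S,
   f1875 S,
   f551 S,
   f848 S,
   f1883 S,
   f1917 S,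
   f1590 S,
   f1924 S,
   f1943 S,
   f1964 S,
   f1986 S,
   f2004 S,
   f2014 S,
   f2046 S,
   f2051 S,
   f2059 S,
   f2064 S,
   f2073 S,
   f2082 S,
   f2088 S,
   f2127 S,
   f2132 S,
   f2139 S,
   f2177 S,
   f2188 S,
   f2197 S,
   f2231 S,
   f2243 S,
   f2253 S,
   f2273 S,
   f2288 S,
   f1161 S,
   f2295 S,
   f2319 S,
   f2344 S,
   f2383 S,
   f2408 S,
   f2416 S,
   f2453 S,
   f2458 S,
   f2508 S,
   f2541 S,
   f2552 S,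
   f2558 S,
   f1168 S,
   f2594 S,
   f2624 S,
   f2661 S,
   f2696 S,
   f2735 S,
   f2773 S,
   f2815 S,
   f2851 S,
   f2883 S,
   f2906 S,
   f2937 S,
   f2965 S,
   f3009 S,
   f3037 S,
   f3057 S,
   f3089 S,
   f3114 S,
   f3152 S,
   f3190 S,
   f3229 S,
   f3267 S,
   f3303 S, trivial⟩

end Cfsg.Agent.Lib.TC.D.HND.All
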