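import Cfsg.Agent.Lib.TC.D.HND.Sys

namespace Cfsg.Agent.Lib.TC.D.HND.Fa

open Cfsg.Agent.Lib.TC.D.HND.Sys

set_option maxRecDepth 100000

variable {F : List Nat → List Nat → Prop} (S : Sys F)

include S

theorem f1 : F [0] [0] := S.refl [0] (by decide +kernel)
theorem f3 : F [0,0] [1] := S.pw0C [] 1 1 (by decide +kernel)
theorem f10 : F [0,0,7] [1,7] := S.appC (f3 S) 7 (by decide +kernel)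
theorem f16 : F [0,5] [0,5] := S.refl [0,5] (by decide +kernel)
theorem f19 : F [1,7] [0,0,7] := S.symm (f10 S)
theorem f20 : F [0,0,3] [3,4] := S.rel0C [0] (by decide +kernel)
theorem f21 : F [0,0,7] [7,4] := S.mapC (f20 S) [2] (by decide +kernel)
theorem f22 : F [1,7] [7,4] := S.trans (f19 S) (f21 S)
theorem f28 : F [0,0,3] [3,4] := S.rel0C [0] (by decide +kernel)
theorem f29 : F [3,4] [0,0,3] := S.symm (f28 S)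
theorem f30 : F [0,0,3] [1,3] := S.appC (f3 S) 3 (by decide +kernel)
theorem f32 : F [3,4] [1,3] := S.trans (f29 S) (f30 S)
theorem f33 : F [0,9] [5,0] := S.mapC (f32 S) [4] (by decide +kernel)
theorem f34 : F [0,22] [10,0] := S.mapC (f33 S) [3,0,3,3,1] (by decide +kernel)
theorem f35 : F [7,4] [1,7] := S.mapC (f34 S) [3,4,2] (by decide +kernel)
theorem f36 : F [1,7] [1,7] := S.trans (f22 S) (f35 S)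
theorem f37 : F [0,5] [0,5] := S.mapC (f36 S) [3,4,2,0,2,2,1,2,4,0,0,0] (by decide +kernel)
theorem f38 : F [0,0,127] [1,127] := S.appC (f3 S) 127 (by decide +kernel)
theorem f48 : F [1,127] [0,0,127] := S.symm (f38 S)
theorem f49 : F [0,0,3] [3,4] := S.rel0C [0] (by decide +kernel)
theorem f50 : F [0,0,127] [127,4] := S.mapC (f49 S) [1,3,3,0,2] (by decide +kernel)
theorem f51 : F [1,127] [127,4] := S.trans (f48 S) (f50 S)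
theorem f59 : F [0,130] [89,0] := S.mapC (f33 S) [3,3,3,3,0,3,1] (by decide +kernel)
theorem f60 : F [127,4] [1,127] := S.mapC (f59 S) [3,1,2,2,0,4,1,3,3,0,2] (by decide +kernel)
theorem f61 : F [1,127] [1,127] := S.trans (f51 S) (f60 S)
theorem f62 : F [0,5] [0,5] := S.mapC (f61 S) [3,1,2,2,0,4,1,3,3,0,2,0,2,1,2,2,2,2,4,0,0,0] (by decide +kernel)
theorem f63 : F [0,0,463] [1,463] := S.appC (f3 S) 463 (by decide +kernel)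
theorem f75 : F [1,463] [0,0,463] := S.symm (f63 S)
theorem f76 : F [0,0,3] [3,4] := S.rel0C [0] (by decide +kernel)
theorem f77 : F [0,0,463] [463,4] := S.mapC (f76 S) [3,3,1,3,0,2] (by decide +kernel)
theorem f78 : F [1,463] [463,4] := S.trans (f75 S) (f77 S)
theorem f88 : F [0,460] [600,0] := S.mapC (f33 S) [3,3,0,3,3,3,1,3,3] (by decide +kernel)
theorem f89 : F [463,4] [1,463] := S.mapC (f88 S) [3,1,2,0,2,2,4,3,3,1,3,0,2] (by decide +kernel)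
theorem f90 : F [1,463] [1,463] := S.trans (f78 S) (f89 S)
theorem f91 : F [0,5] [0,5] := S.mapC (f90 S) [3,1,2,0,2,2,4,3,3,1,3,0,2,2,2,0,2,2,2,1,2,2,4,0,0,0] (by decide +kernel)
theorem f92 : F [0,0,373] [1,373] := S.appC (f3 S) 373 (by decide +kernel)
theorem f102 : F [1,373] [0,0,373] := S.symm (f92 S)
theorem f103 : F [0,0,3] [3,4] := S.rel0C [0] (by decide +kernel)
theorem f104 : F [0,0,373] [373,4] := S.mapC (f103 S) [2,2,1,2,0,2] (by decide +kernel)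
theorem f105 : F [1,373] [373,4] := S.trans (f102 S) (f104 S)
theorem f113 : F [0,370] [520,0] := S.mapC (f33 S) [3,3,0,3,1,3,3] (by decide +kernel)
theorem f114 : F [373,4] [1,373] := S.mapC (f113 S) [3,1,3,0,3,3,4,2,2,1,2,0,2] (by decide +kernel)
theorem f115 : F [1,373] [1,373] := S.trans (f105 S) (f114 S)
theorem f116 : F [0,5] [0,5] := S.mapC (f115 S) [3,1,3,0,3,3,4,2,2,1,2,0,2,2,2,0,2,1,2,2,4,0,0,0] (by decide +kernel)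
theorem f118 : F [0,2] [4] := S.pw0C [] 1 3 (by decide +kernel)
theorem f124 : F [0,2,5] [4,5] := S.appC (f118 S) 5 (by decide +kernel)
theorem f125 : F [0,6] [0,6] := S.refl [0,6] (by decide +kernel)
theorem f127 : F [4,5] [0,2,5] := S.symm (f124 S)
theorem f128 : F [1,0,3] [5,4] := S.rel0C [1] (by decide +kernel)
theorem f129 : F [0,2,5] [9,1] := S.mapC (f128 S) [1] (by decide +kernel)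
theorem f130 : F [4,5] [9,1] := S.trans (f127 S) (f129 S)
theorem f132 : F [3,2] [0,6] := S.mapC (f130 S) [0,4,1] (by decide +kernel)
theorem f134 : F [0,3] [4] := S.rel0C [] (by decide +kernel)
theorem f142 : F [0,3,3] [4,3] := S.appC (f134 S) 3 (by decide +kernel)
theorem f143 : F [4,3] [6,4] := S.mapC (f33 S) [1,1] (by decide +kernel)
theorem f144 : F [0,3,3] [6,4] := S.trans (f142 S) (f143 S)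
theorem f145 : F [6,4] [0,3,3] := S.symm (f144 S)
theorem f146 : F [3,0,0] [3,1] := S.pw0C [3] 1 1 (by decide +kernel)
theorem f147 : F [0,3,3] [0,5] := S.mapC (f146 S) [4] (by decide +kernel)
theorem f148 : F [6,4] [0,5] := S.trans (f145 S) (f147 S)
theorem f149 : F [0,3,5] [4,5] := S.appC (f134 S) 5 (by decide +kernel)
theorem f151 : F [4,5] [0,3,5] := S.symm (f149 S)
theorem f152 : F [3,0,1] [3,2] := S.pw0C [3] 1 2 (by decide +kernel)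
theorem f153 : F [0,3,5] [0,6] := S.mapC (f152 S) [4] (by decide +kernel)
theorem f154 : F [4,5] [0,6] := S.trans (f151 S) (f153 S)
theorem f155 : F [0,3,122] [4,122] := S.appC (f134 S) 122 (by decide +kernel)
theorem f167 : F [0,27] [0,27] := S.refl [0,27] (by decide +kernel)
theorem f170 : F [4,122] [0,3,122] := S.symm (f155 S)
theorem f171 : F [57,0,3] [122,4] := S.rel0C [57] (by decide +kernel)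
theorem f172 : F [0,3,122] [59,9] := S.mapC (f171 S) [1,3,0,3,4] (by decide +kernel)
theorem f173 : F [4,122] [59,9] := S.trans (f170 S) (f172 S)
theorem f187 : F [7,151] [0,27] := S.mapC (f173 S) [4,2,1,2,0,4,1,3,0,3,4,2,2,2,0,2,1,2,2,0,2,2,2,1] (by decide +kernel)
theorem f200 : F [15,0,3] [39,4] := S.rel0C [15] (by decide +kernel)
theorem f201 : F [0,5,35] [254,6] := S.mapC (f200 S) [0,3,4] (by decide +kernel)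
theorem f212 : F [257,6] [257,6] := S.mapC (f167 S) [4,3,1,4,0,2,4] (by decide +kernel)
theorem f213 : F [0,27] [0,27] := S.mapC (f212 S) [4,3,1,4,0,2,4] (by decide +kernel)
theorem f238 : F [0,47] [0,47] := S.mapC (f167 S) [3,3,0,3,1,3,3] (by decide +kernel)
theorem f239 : F [254,6] [254,6] := S.mapC (f238 S) [4,1,2,4,3,0,4] (by decide +kernel)
theorem f240 : F [0,27] [0,27] := S.mapC (f239 S) [4,1,2,4,3,0,4,2,2,0,2,1,2,2] (by decide +kernel)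
theorem f257 : F [112,0,3] [242,4] := S.rel0C [112] (by decide +kernel)
theorem f258 : F [0,27,160] [507,33] := S.mapC (f257 S) [0,2,4,2,4] (by decide +kernel)
theorem f267 : F [0,99] [0,99] := S.refl [0,99] (by decide +kernel)
theorem f284 : F [0,326] [0,326] := S.mapC (f267 S) [3,0,3,3,3,1,3,0,3,3,1] (by decide +kernel)
theorem f285 : F [428,33] [428,33] := S.mapC (f284 S) [4,3,4,2,2,1,4,0,3,3,4,2,4] (by decide +kernel)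
theorem f286 : F [0,99] [0,99] := S.mapC (f285 S) [4,3,4,2,2,1,4,0,3,3,4,2,4,0,2,2,1,2,0,2,2,2,1,2] (by decide +kernel)
theorem f320 : F [0,292] [0,292] := S.mapC (f267 S) [0,3,3,3,1,3,3,0,3,1,3,3,3] (by decide +kernel)
theorem f321 : F [804,33] [804,33] := S.mapC (f320 S) [4,3,4,3,3,1,4,0,2,2,4,2,4] (by decide +kernel)
theorem f322 : F [0,99] [0,99] := S.mapC (f321 S) [4,3,4,3,3,1,4,0,2,2,4,2,4,2,2,2,0,2,1,2,2,0,2,2,2,1] (by decide +kernel)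
theorem f353 : F [0,365] [0,365] := S.mapC (f267 S) [0,3,3,3,1,3,0,3,1,3,0,3,1,3,3] (by decide +kernel)
theorem f354 : F [101,33] [101,33] := S.mapC (f353 S) [4,3,4,2,1,2,4,3,0,3,4,2,4] (by decide +kernel)
theorem f355 : F [0,99] [0,99] := S.mapC (f354 S) [4,3,4,2,1,2,4,3,0,3,4,2,4,2,2,0,2,1,2,0,2,1,2,0,2,2,2,1] (by decide +kernel)
theorem f363 : F [102,0,3] [224,4] := S.rel0C [102] (by decide +kernel)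
theorem f364 : F [0,27,173] [10,33] := S.mapC (f363 S) [2,0,4,2,4] (by decide +kernel)
theorem f391 : F [0,393] [0,393] := S.mapC (f125 S) [0,3,3,3,1,3,0,3,3,1,3,0,3,1] (by decide +kernel)
theorem f392 : F [10,33] [10,33] := S.mapC (f391 S) [4,3,4,1,2,2,4,3,3,0,4,2,4] (by decide +kernel)
theorem f393 : F [0,6] [0,6] := S.mapC (f392 S) [4,3,4,1,2,2,4,3,3,0,4,2,4,0,2,1,2,0,2,2,1,2,0,2,2,2,1] (by decide +kernel)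
theorem f415 : F [0,983] [0,983] := S.mapC (f125 S) [0,3,3,1,3,3,3,0,3,1,3] (by decide +kernel)
theorem f416 : F [10,33] [10,33] := S.mapC (f415 S) [4,3,4,0,3,0,2,2,2,0,4,1,3,3,3,1,2,1,4,2,4] (by decide +kernel)
theorem f417 : F [0,6] [0,6] := S.mapC (f416 S) [4,3,4,0,3,0,2,2,2,0,4,1,3,3,3,1,2,1,4,2,4,2,0,2,1,2,2,2,0,2,2,1] (by decide +kernel)
theorem f419 : F [46,0,3] [18,4] := S.rel0C [46] (by decide +kernel)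
theorem f420 : F [0,27,6] [257,33] := S.mapC (f419 S) [0,4,2,4] (by decide +kernel)
theorem f422 : F [0,27,6,120] [257,33,120] := S.appC (f420 S) 120 (by decide +kernel)
theorem f423 : F [0,5,7] [0,5,7] := S.refl [0,5,7] (by decide +kernel)
theorem f425 : F [257,33,120] [0,27,6,120] := S.symm (f422 S)
theorem f426 : F [86,703,0,3] [182,987,4] := S.rel0C [86,703] (by decide +kernel)
theorem f427 : F [0,27,6,120] [151,22,5] := S.mapC (f426 S) [3,3,3,1,3,1,3,3,0,3,3,4] (by decide +kernel)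
theorem f428 : F [257,33,120] [151,22,5] := S.trans (f425 S) (f427 S)
theorem f431 : F [0,27] [7,151] := S.symm (f187 S)
theorem f432 : F [0,27,51] [7,151,51] := S.appC (f431 S) 51 (by decide +kernel)
theorem f433 : F [6,24,0,0] [6,24,1] := S.pw0C [6,24] 1 1 (by decide +kernel)
theorem f434 : F [0,27,6,6] [0,27,3] := S.mapC (f433 S) [1,4] (by decide +kernel)
theorem f435 : F [0,27,3] [0,27,6,6] := S.symm (f434 S)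
theorem f436 : F [0,27,6,6] [257,33,6] := S.appC (f420 S) 6 (by decide +kernel)
theorem f440 : F [0,5] [6,4] := S.symm (f148 S)
theorem f441 : F [0,5,27] [6,4,27] := S.appC (f440 S) 27 (by decide +kernel)
theorem f443 : F [257,33,6] [27,110,6] := S.mapC (f441 S) [4,3,4,1,4,0,4,2,4] (by decide +kernel)
theorem f444 : F [0,27,6,6] [27,110,6] := S.trans (f436 S) (f443 S)
theorem f445 : F [0,27,3] [27,110,6] := S.trans (f435 S) (f444 S)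
theorem f446 : F [7,151,51] [151,17,79] := S.mapC (f445 S) [0,3,3,3,1,3,3,0,3,1,3,3,3,1,1,4,2,1,2,0,4,1,3,0,3,4,2,2,2,0,2,1,2,2,0,2,2,2,1] (by decide +kernel)
theorem f447 : F [0,27,51] [151,17,79] := S.trans (f432 S) (f446 S)
theorem f448 : F [151,22,5] [0,10,3] := S.mapC (f447 S) [4,2,2,1,2,2,0,2,0,2,2,2,4,3,3,3,1,3,1,3,3,0,3,3,4] (by decide +kernel)
theorem f449 : F [257,33,120] [0,10,3] := S.trans (f428 S) (f448 S)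
theorem f450 : F [257,79,54] [0,5,7] := S.mapC (f449 S) [4,2,2,1,2,2,0,2,0,2,2,2,4,3,3,3,1,3,1,3,3,0,3,3,4,0,3,3,3,1,3,3,0,3,1,3,3,3,4,2,1,2,0,4,1,3,0,3,4,0,0,2,2,2,0,2,1,2,2,0,2,2,2,1,4,3,4,1,4,0,4,2,4,0,0,3,3,0,3,1,3,3,3,1,3,0,3,3,4,2,2,1,2,0,2,0,0,0,2,0,2,1,2,0,2,2,1] (by decide +kernel)
theorem f454 : F [0,27,19] [10,33] := S.mapC (f364 S) [4,3,1,2,0,3,4,2,4,3,1,2,0,3,3,1,2,0,3,3,1,2,0,3,3,1,2,0,3,3,1,2,0,3,4,2,2,4,3,1,2,0,3,3,1,2,0,3,4,2,4,3,1,2,0,3,4,3,4,2,1,3,0,2,2,1,3,0,2,4,3,3,4,3,1,2,0,3,4,2,2,4,3,1,2,0,3,3,1,2,0,3,4,2,4,3,1,2,0,3,3,1,2,0,3,3,1,2,0,3,3,1,2,0,3,4,2,2,4,3,1,2,0,3,3,1,2,0,3,4,2,4,3,1,2,0,3,4,2,2,4,3,1,2,0,3,3,1,2,0,3,4,2] (by decide +kernel)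
theorem f455 : F [0,27,19,410] [10,33,410] := S.appC (f454 S) 410 (by decide +kernel)
theorem f457 : F [3,2] [0,6] := S.mapC (f132 S) [4,2,1,3,0,2,2,1,3,0,2,2,1,3,0,2,4,3,4,2,1,3,0,2,2,1,3,0,2,4,3,3,4,2,1,3,0,2,4,2,2,4,3,1,2,0,3,3,1,2,0,3,4,2,4,3,1,2,0,3,3,1,2,0,3,4,3,4,2,1,3,0,2,2,1,3,0,2,4,3,3,4,2,1,3,0,2,2,1,3,0,2,4,3,4,2,1,3,0,2,2,1,3,0,2,4,3,3,4,2,1,3,0,2,2,1,3,0,2,2,1,3,0,2,4,3,4,2,1,3,0,2,2,1,3,0,2,4,3,3,4,2,1,3,0,2,2,1,3,0,2,2,1,3,0,2,4,3,4,2,1,3,0,2,2,1,3,0,2,4,3,3,3,4,2,1,3,0,2,2,1,3,0,2,4,3,3] (by decide +kernel)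
theorem f458 : F [3,2] [0,6] := S.mapC (f457 S) [3,4,2,1,3,0,2,2,1,3,0,2,4,3,3,4,2,1,3,0,2,4,3,4,2,1,3,0,2,2,1,3,0,2,4,3,3,4,2,1,3,0,2,4,3,4,2,1,3,0,2,2,1,3,0,2,4,3,3,4,2,1,3,0,2,4,3,4,2,1,3,0,2,2,1,3,0,2,4,3,3,3,4,2,1,3,0,2,2,1,3,0,2,4,3,3,4,3,1,2,0,3,4,2,2,4,3,1,2,0,3,3,1,2,0,3,4,2,4,2,1,3,0,2,2,1,3,0,2,2,1,3,0,2,4,3,4,2,1,3,0,2,2,1,3,0,2,4,3,3,4,2,1,3,0,2,4,2,2,4,3,1,2,0,3,3,1,2,0,3,4,2,4,3,1,2,0,3,3,1,2,0,3,4,3,4,2,1,3,0,2,2,1,3,0,2,4,3,3,4,2,1,3,0,2,2,1,3,0,2,2,1,3,0,2,2,1,3,0,2,4,3,4,2,1,3,0,2,2,1,3,0,2,4,3,3,4,2,1,3,0,2,4] (by decide +kernel)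
theorem f459 : F [3,2] [0,6] := S.mapC (f458 S) [3,4,2,1,3,0,2,2,1,3,0,2,4,3,3,4,2,1,3,0,2,4,3,4,2,1,3,0,2,2,1,3,0,2,4,3,3,4,2,1,3,0,2,4,3,4,2,1,3,0,2,2,1,3,0,2,4,3,3,4,2,1,3,0,2,4,3,4,2,1,3,0,2,2,1,3,0,2,4,3,3,3,4,2,1,3,0,2,2,1,3,0,2,4,3,3,4,3,1,2,0,3,4,2,2,4,3,1,2,0,3,3,1,2,0,3,4,2,4,2,1,3,0,2,2,1,3,0,2,2,1,3,0,2,4,3,4,2,1,3,0,2,2,1,3,0,2,4,3,3,4,2,1,3,0,2,4,2,2,4,3,1,2,0,3,3,1,2,0,3,4,2,4,3,1,2,0,3,3,1,2,0,3,4,3,4,2,1,3,0,2,2,1,3,0,2,4,3,3,4,2,1,3,0,2,2,1,3,0,2,2,1,3,0,2,2,1,3,0,2,4,3,4,2,1,3,0,2,2,1,3,0,2,4,3,3,4,2,1,3,0,2,4] (by decide +kernel)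
theorem f460 : F [3,2] [0,6] := S.mapC (f459 S) [4,2,1,3,0,2,2,1,3,0,2,2,1,3,0,2,4,3,4,2,1,3,0,2,2,1,3,0,2,4,3,3,4,2,1,3,0,2,4,2,2,4,3,1,2,0,3,3,1,2,0,3,4,2,4,3,1,2,0,3,3,1,2,0,3,4,3,4,2,1,3,0,2,2,1,3,0,2,4,3,3,4,2,1,3,0,2,2,1,3,0,2,4,3,4,2,1,3,0,2,2,1,3,0,2,4,3,3,4,2,1,3,0,2,2,1,3,0,2,2,1,3,0,2,4,3,4,2,1,3,0,2,2,1,3,0,2,4,3,3,4,2,1,3,0,2,2,1,3,0,2,2,1,3,0,2,4,3,4,2,1,3,0,2,2,1,3,0,2,4,3,3,3,4,2,1,3,0,2,2,1,3,0,2,4,3,3] (by decide +kernel)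
theorem f461 : F [3,2] [0,6] := S.mapC (f460 S) [3,4,2,1,3,0,2,2,1,3,0,2,4,3,3,4,2,1,3,0,2,4,3,4,2,1,3,0,2,2,1,3,0,2,4,3,3,4,2,1,3,0,2,4,3,4,2,1,3,0,2,2,1,3,0,2,4,3,3,4,2,1,3,0,2,4,3,4,2,1,3,0,2,2,1,3,0,2,4,3,3,3,4,2,1,3,0,2,2,1,3,0,2,4,3,3,4,3,1,2,0,3,4,2,2,4,3,1,2,0,3,3,1,2,0,3,4,2,4,2,1,3,0,2,2,1,3,0,2,2,1,3,0,2,4,3,4,2,1,3,0,2,2,1,3,0,2,4,3,3,4,2,1,3,0,2,4,2,2,4,3,1,2,0,3,3,1,2,0,3,4,2,4,3,1,2,0,3,3,1,2,0,3,4,3,4,2,1,3,0,2,2,1,3,0,2,4,3,3,4,2,1,3,0,2,2,1,3,0,2,2,1,3,0,2,2,1,3,0,2,4,3,4,2,1,3,0,2,2,1,3,0,2,4,3,3,4,2,1,3,0,2,4] (by decide +kernel)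
theorem f467 : F [0,6] [3,2] := S.mapC (f461 S) [3,1,2,0,3,3,1,2,0,3,3,1,2,0,3,3,1,2,0,3,4,2,2,4,3,1,2,0,3,3,1,2,0,3,4,2,4,3,1,2,0,3,4,3,4,2,1,3,0,2,2,1,3,0,2,4,3,3,4,3,1,2,0,3,4,2,2,4,3,1,2,0,3,3,1,2,0,3,4,2,4,3,1,2,0,3,3,1,2,0,3,3,1,2,0,3,4,3,4,2,1,3,0,2,2,1,3,0,2,4,3,3,4,2,1,3,0,2,4,2,2,4,3,1,2,0,3,3,1,2,0,3,4,2,4,3,1,2,0,3,4,2,2,4,3,1,2,0,3,3,1,2,0,3,4,2,4,3,1,2,0,3,4,2,2,4,3,1,2,0,3,3,1,2,0,3,4,2,4,3,1,2,0,3,4,2,2,4,3,1,2,0,3,3,1,2,0,3,4,2] (by decide +kernel)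
theorem f468 : F [3,2] [0,6] := S.symm (f467 S)
theorem f469 : F [3,2] [0,6] := S.mapC (f468 S) [3,4,2,1,3,0,2,2,1,3,0,2,4,3,3,4,2,1,3,0,2,2,1,3,0,2,2,1,3,0,2,2,1,3,0,2,2,1,3,0,2,4,3,4,2,1,3,0,2,2,1,3,0,2,4,3,3,4,2,1,3,0,2,4,2,2,4,3,1,2,0,3,3,1,2,0,3,4,2,4,3,1,2,0,3,3,1,2,0,3,4,3,4,2,1,3,0,2,2,1,3,0,2,4,3,3,4,2,1,3,0,2,2,1,3,0,2,2,1,3,0,2,4,3,4,2,1,3,0,2,2,1,3,0,2,4,3,3,4,2,1,3,0,2,4,3,4,2,1,3,0,2,2,1,3,0,2,4,3,3,4,2,1,3,0,2,2,1,3,0,2,4] (by decide +kernel)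
theorem f470 : F [0,6] [3,2] := S.symm (f469 S)
theorem f471 : F [0,6,521] [3,2,521] := S.appC (f470 S) 521 (by decide +kernel)
theorem f473 : F [14,0,3] [37,4] := S.rel0C [14] (by decide +kernel)
theorem f474 : F [0,6,31] [254,5] := S.mapC (f473 S) [1,3,4] (by decide +kernel)
theorem f492 : F [3,2,521] [187,1] := S.mapC (f474 S) [3,4,2,1,3,0,2,2,1,3,0,2,4,3,3,4,2,1,3,0,2,4,3,4,2,1,3,0,2,2,1,3,0,2,4,3,3,4,2,1,3,0,2,2,1,3,0,2,2,1,3,0,2,2,1,3,0,2,4,3,4,2,1,3,0,2,2,1,3,0,2,4,3,3,4,2,1,3,0,2,4,2,2,4,3,1,2,0,3,3,1,2,0,3,4,2,4,3,1,2,0,3,4,3,4,2,1,3,0,2,2,1,3,0,2,4,3,3,3,4,2,1,3,0,2,2,1,3,0,2,4,3,3,4,2,1,3,0,2,4,3,4,2,1,3,0,2,2,1,3,0,2,4,3,3,4,2,1,3,0,2] (by decide +kernel)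
theorem f493 : F [0,6,521] [187,1] := S.trans (f471 S) (f492 S)
theorem f494 : F [10,33,410] [151,22] := S.mapC (f493 S) [4,2,1,3,0,2,2,1,3,0,2,2,1,3,0,2,4,3,4,2,1,3,0,2,2,1,3,0,2,4,3,3,4,2,1,3,0,2,4,2,2,4,3,1,2,0,3,3,1,2,0,3,4,2,4,3,1,2,0,3,3,1,2,0,3,4,3,4,2,1,3,0,2,2,1,3,0,2,4,3,3,4,2,1,3,0,2,2,1,3,0,2,2,1,3,0,2,2,1,3,0,2,2,1,3,0,2,4,3,4,2,1,3,0,2,2,1,3,0,2,4,3,3,4,2,1,3,0,2,2,1,3,0,2,2,1,3,0,2,2,1,3,0,2,2,1,3,0,2,4,3,3,3,4,2,1,3,0,2,2,1,3,0,2,4,2,0,4,2] (by decide +kernel)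
theorem f495 : F [0,27,19,410] [151,22] := S.trans (f455 S) (f494 S)
theorem f496 : F [151,22] [0,27,19,410] := S.symm (f495 S)
theorem f497 : F [63,312,0,3] [134,144,4] := S.rel0C [63,312] (by decide +kernel)
theorem f498 : F [0,27,19,410] [10,257,18] := S.mapC (f497 S) [3,3,3,4,3,1] (by decide +kernel)
theorem f499 : F [151,22] [10,257,18] := S.trans (f496 S) (f498 S)
theorem f501 : F [7,151] [0,27] := S.mapC (f187 S) [0,3,1,4,2,1,4,0,3,4,0,0,3,3,0,3,1,3,3,3,1,3,0,3,3,4,2,2,1,2,0,2,0,0,0,2,0,2,1,2,0,2,2,1,1,1,1,4,1,1,3,3,3,0,3,1,3,3,3,1,1,1,3,1,2,0,2,2,4,3,3,1,3,0,2,2,2,0,2,2,2,1,2,2,4,0,0,0,4,1,2,4,3,0,4,2,2,0,2,1,2,2] (by decide +kernel)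
theorem f502 : F [7,151] [0,27] := S.mapC (f501 S) [3,4,2,1,3,0,2,2,1,3,0,2,4,3,3,4,2,1,3,0,2,4,3,4,2,1,3,0,2,2,1,3,0,2,4,3,3,4,2,1,3,0,2,2,1,3,0,2,2,1,3,0,2,2,1,3,0,2,4,3,4,2,1,3,0,2,2,1,3,0,2,4,3,3,4,2,1,3,0,2,4,2,2,4,3,1,2,0,3,3,1,2,0,3,4,2,4,2,1,3,0,2,4,3,4,2,1,3,0,2,2,1,3,0,2,4,3,3,4,2,1,3,0,2,2,1,3,0,2,2,1,3,0,2,2,1,3,0,2,2,1,3,0,2,4,3,4,2,1,3,0,2,4] (by decide +kernel)
theorem f504 : F [0,27] [7,151] := S.symm (f502 S)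
theorem f505 : F [0,27,409] [7,151,409] := S.appC (f504 S) 409 (by decide +kernel)
theorem f506 : F [0,262,0,3] [3,507,4] := S.rel0C [0,262] (by decide +kernel)
theorem f507 : F [0,27,0,28] [28,110,4] := S.mapC (f506 S) [1,3,0] (by decide +kernel)
theorem f508 : F [28,110,4] [0,27,0,28] := S.symm (f507 S)
theorem f510 : F [0,27] [7,151] := S.mapC (f187 S) [0,3,3,3,1,3,3,0,3,1,3,3,3,4,2,1,2,0,4,1,3,0,3,4,0,0,2,2,2,0,2,1,2,2,0,2,2,2,1] (by decide +kernel)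
theorem f511 : F [7,151] [0,27] := S.symm (f510 S)
theorem f512 : F [0,27] [7,151] := S.symm (f511 S)
theorem f513 : F [0,27,0] [7,151,0] := S.appC (f512 S) 0 (by decide +kernel)
theorem f515 : F [856,0,3] [711,4] := S.rel0C [856] (by decide +kernel)
theorem f516 : F [0,27,7] [165,33] := S.mapC (f515 S) [3,3,0,3,4,3,3,4,3,3,4,3,4] (by decide +kernel)
theorem f522 : F [0,22] [10,0] := S.mapC (f33 S) [3,0,3,3,1] (by decide +kernel)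
theorem f523 : F [165,33] [54,165] := S.mapC (f522 S) [4,2,4,2,2,4,2,2,4,2,1,2,2,4,3,3,0,3,4,3,3,4,3,3,4,3,4] (by decide +kernel)
theorem f524 : F [0,27,7] [54,165] := S.trans (f516 S) (f523 S)
theorem f525 : F [7,151,0] [257,33] := S.mapC (f524 S) [0,3,3,3,1,3,3,0,3,1,3,3,3,4,2,1,2,0,4,1,3,0,3,4,0,0,2,2,2,0,2,1,2,2,0,2,2,2,1] (by decide +kernel)
theorem f526 : F [0,27,0] [257,33] := S.trans (f513 S) (f525 S)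
theorem f527 : F [0,27,0,28] [257,33,28] := S.appC (f526 S) 28 (by decide +kernel)
theorem f530 : F [0,5] [6,4] := S.symm (f148 S)
theorem f531 : F [0,5,122] [6,4,122] := S.appC (f530 S) 122 (by decide +kernel)
theorem f532 : F [0,9,124] [5,0,124] := S.appC (f33 S) 124 (by decide +kernel)
theorem f533 : F [5,0,124] [0,9,124] := S.symm (f532 S)
theorem f534 : F [59,0,3] [124,4] := S.rel0C [59] (by decide +kernel)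
theorem f535 : F [0,9,124] [59,3] := S.mapC (f534 S) [1,3,1,3,4] (by decide +kernel)
theorem f536 : F [5,0,124] [59,3] := S.trans (f533 S) (f535 S)
theorem f551 : F [0,5,36] [83,2] := S.mapC (f536 S) [4,0,0,0] (by decide +kernel)
theorem f552 : F [6,4,122] [57,9] := S.mapC (f551 S) [1,1,1,4,1,1] (by decide +kernel)
theorem f553 : F [0,5,122] [57,9] := S.trans (f531 S) (f552 S)
theorem f554 : F [257,33,28] [260,17] := S.mapC (f553 S) [1,1,1,4,3,0,3,3,1,4,2,4,2,2,4,2,2,4,2,1,2,2,4,3,3,0,3,4,3,3,4,3,3,4,3,4,0,3,3,3,1,3,3,0,3,1,3,3,3,4,2,1,2,0,4,1,3,0,3,4,0,0,2,2,2,0,2,1,2,2,0,2,2,2,1] (by decide +kernel)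
theorem f555 : F [0,27,0,28] [260,17] := S.trans (f527 S) (f554 S)
theorem f556 : F [28,110,4] [260,17] := S.trans (f508 S) (f555 S)
theorem f557 : F [0,27,29] [22,165] := S.mapC (f556 S) [1,2,0,4,1,3,0] (by decide +kernel)
theorem f558 : F [7,151,409] [4,33] := S.mapC (f557 S) [3,4,2,1,3,0,2,2,1,3,0,2,4,3,3,4,2,1,3,0,2,4,3,4,2,1,3,0,2,2,1,3,0,2,4,3,3,4,2,1,3,0,2,4,3,4,2,1,3,0,2,2,1,3,0,2,4,3,3,4,2,1,3,0,2,2,1,3,0,2,4,3,4,2,1,3,0,2,2,1,3,0,2,4,3,3,4,2,1,3,0,2,4,3,4,2,1,3,0,2,2,1,3,0,2,4,3,3,3,4,2,1,3,0,2,2,1,3,0,2,4,3,3,4,3,1,2,0,3,4,2,2,4,3,1,2,0,3,3,1,2,0,3,4,2,4,2,1,3,0,2,2,1,3,0,2,2,1,3,0,2,4,3,4,2,1,3,0,2,2,1,3,0,2,4,3,3,3,3,4,2,1,3,0,2,2] (by decide +kernel)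
theorem f559 : F [0,27,409] [4,33] := S.trans (f505 S) (f558 S)
theorem f560 : F [10,257,18] [12,110] := S.mapC (f559 S) [0,2,4,2,2,2,4,3,3,3,4,3,1] (by decide +kernel)
theorem f561 : F [151,22] [12,110] := S.trans (f499 S) (f560 S)
theorem f562 : F [54,2] [0,27] := S.mapC (f561 S) [3,4,0,2,4,2,1,3,0,2,2,1,3,0,2,4,3,4,2,1,3,0,2,2,1,3,0,2,4,3,3,4,3,1,2,0,3,4,2,2,4,3,1,2,0,3,3,1,2,0,3,4,2,4,3,1,2,0,3,4,3,4,2,1,3,0,2,2,1,3,0,2,4,3,3,4,3,1,2,0,3,4,2,2,4,3,1,2,0,3,3,1,2,0,3,4,2,4,3,1,2,0,3,3,1,2,0,3,3,1,2,0,3,3,1,2,0,3,4,2,2,4,3,1,2,0,3,3,1,2,0,3,4,2,4,3,1,2,0,3,4,2,2,4,3,1,2,0,3,3,1,2,0,3,4,2] (by decide +kernel)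
theorem f563 : F [0,27,29,152] [22,165,152] := S.appC (f557 S) 152 (by decide +kernel)
theorem f565 : F [7,151] [0,27] := S.mapC (f187 S) [0,3,1,4,2,1,4,0,3,4,0,0,3,3,0,3,1,3,3,3,1,3,0,3,3,4,2,2,1,2,0,2,0,0,0,2,0,2,1,2,0,2,2,1,1,1,1,4,1,1,3,3,3,0,3,1,3,3,3,1,1,1,3,1,2,0,2,2,4,3,3,1,3,0,2,2,2,0,2,2,2,1,2,2,4,0,0,0,4,1,2,4,3,0,4,2,2,0,2,1,2,2] (by decide +kernel)
theorem f566 : F [7,151] [0,27] := S.mapC (f565 S) [0,3,1,4,2,1,4,0,3,4,0,0,3,3,0,3,1,3,3,3,1,3,0,3,3,4,2,2,1,2,0,2,0,0,0,2,0,2,1,2,0,2,2,1,1,1,1,4,1,1,3,3,3,0,3,1,3,3,3,1,1,1,3,1,2,0,2,2,4,3,3,1,3,0,2,2,2,0,2,2,2,1,2,2,4,0,0,0,4,1,2,4,3,0,4,2,2,0,2,1,2,2] (by decide +kernel)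
theorem f567 : F [7,151] [0,27] := S.mapC (f566 S) [0,3,1,4,2,1,4,0,3,4,0,0,3,3,0,3,1,3,3,3,1,3,0,3,3,4,2,2,1,2,0,2,0,0,0,2,0,2,1,2,0,2,2,1,1,1,1,4,1,1,3,3,3,0,3,1,3,3,3,1,1,1,3,1,2,0,2,2,4,3,3,1,3,0,2,2,2,0,2,2,2,1,2,2,4,0,0,0,4,1,2,4,3,0,4,2,2,0,2,1,2,2] (by decide +kernel)
theorem f568 : F [7,151] [0,27] := S.mapC (f567 S) [3,4,2,1,3,0,2,2,1,3,0,2,4,3,3,4,2,1,3,0,2,4,3,4,2,1,3,0,2,2,1,3,0,2,4,3,3,4,2,1,3,0,2,2,1,3,0,2,2,1,3,0,2,2,1,3,0,2,4,3,4,2,1,3,0,2,2,1,3,0,2,4,3,3,4,2,1,3,0,2,4,2,2,4,3,1,2,0,3,3,1,2,0,3,4,2,4,2,1,3,0,2,4,3,4,2,1,3,0,2,2,1,3,0,2,4,3,3,4,2,1,3,0,2,2,1,3,0,2,2,1,3,0,2,2,1,3,0,2,2,1,3,0,2,4,3,4,2,1,3,0,2,4] (by decide +kernel)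
theorem f569 : F [257,12] [54,2] := S.mapC (f568 S) [3,4,2,1,3,0,2,2,1,3,0,2,4,3,3,4,2,1,3,0,2,4,3,4,2,1,3,0,2,2,1,3,0,2,4,3,3,4,2,1,3,0,2,4,3,4,2,1,3,0,2,2,1,3,0,2,4,3,3,4,2,1,3,0,2,2,1,3,0,2,4,3,4,2,1,3,0,2,2,1,3,0,2,4,3,3,4,2,1,3,0,2,4,3,4,2,1,3,0,2,2,1,3,0,2,4,3,3,3,4,2,1,3,0,2,2,1,3,0,2,4,3,3,4,3,1,2,0,3,4,2,2,4,3,1,2,0,3,3,1,2,0,3,4,2,4,2,1,3,0,2,2,1,3,0,2,2,1,3,0,2,4,3,4,2,1,3,0,2,2,1,3,0,2,4,3,3,4,2,1,3,0,2,4,3,4,2,1,3,0,2,2,1,3,0,2,2,1,3,0,2,4,3,4,2,1,3,0,2,4,2,1,1,4,2,4] (by decide +kernel)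
theorem f570 : F [257,12] [0,27] := S.trans (f569 S) (f562 S)
theorem f572 : F [0,27] [257,12] := S.symm (f570 S)
theorem f573 : F [0,27,1156] [257,12,1156] := S.appC (f572 S) 1156 (by decide +kernel)
theorem f574 : F [0,27,21] [0,27,21] := S.refl [0,27,21] (by decide +kernel)
theorem f576 : F [22,165,152] [17,1,152] := S.mapC (f573 S) [3,3,3,0,3,3,1,3,0,3,3,1,3,3,4,2,0,2,0,4,1,3,1,3,4,1,1,1,1,1,4,3,0,3,3,1,4,2,4,2,2,4,2,2,4,2,1,2,2,4,3,3,0,3,4,3,3,4,3,3,4,3,4,0,3,3,3,1,3,3,0,3,1,3,3,3,4,2,1,2,0,4,1,3,0,3,4,0,0,2,2,2,0,2,1,2,2,0,2,2,2,1,1,2,0,4,1,3,0] (by decide +kernel)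
theorem f577 : F [0,27,29,152] [17,1,152] := S.trans (f563 S) (f576 S)
theorem f578 : F [17,1,152] [0,27,29,152] := S.symm (f577 S)
theorem f579 : F [25,863,0,3] [60,1238,4] := S.rel0C [25,863] (by decide +kernel)
theorem f580 : F [0,27,29,152] [589,1127,28] := S.mapC (f579 S) [1,3,4,3,0] (by decide +kernel)
theorem f581 : F [17,1,152] [589,1127,28] := S.trans (f578 S) (f580 S)
theorem f590 : F [350,142,29] [0,27,21] := S.mapC (f581 S) [1,2,4,2,0,4,1,3,4,3,0,2,2,4,3,1,2,0,3,4,2,2,2,4,3,1,2,0,3,4,2,2,4,3,1,2,0,3,3,1,2,0,3,4,2,2,2,4,3,1,2,0,3,3,1,2,0,3,4,2,4,3,1,2,0,3,3,1,2,0,3,3,1,2,0,3,4,2,2,4,3,1,2,0,3,3,1,2,0,3,4,2,4,3,1,2,0,3,4,2,2,4,3,1,2,0,3,3,1,2,0,3,4,2] (by decide +kernel)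
theorem f591 : F [0,27,29,222] [22,165,222] := S.appC (f557 S) 222 (by decide +kernel)
theorem f593 : F [7,151] [0,27] := S.mapC (f187 S) [0,3,1,4,2,1,4,0,3,4,0,0,3,3,0,3,1,3,3,3,1,3,0,3,3,4,2,2,1,2,0,2,0,0,0,2,0,2,1,2,0,2,2,1,1,1,1,4,1,1,3,3,3,0,3,1,3,3,3,1,1,1,3,1,2,0,2,2,4,3,3,1,3,0,2,2,2,0,2,2,2,1,2,2,4,0,0,0,4,1,2,4,3,0,4,2,2,0,2,1,2,2] (by decide +kernel)
theorem f594 : F [7,151] [0,27] := S.mapC (f593 S) [3,4,2,1,3,0,2,2,1,3,0,2,4,3,3,4,2,1,3,0,2,4,3,4,2,1,3,0,2,2,1,3,0,2,4,3,3,4,2,1,3,0,2,2,1,3,0,2,2,1,3,0,2,2,1,3,0,2,4,3,4,2,1,3,0,2,2,1,3,0,2,4,3,3,4,2,1,3,0,2,4,2,2,4,3,1,2,0,3,3,1,2,0,3,4,2,4,2,1,3,0,2,4,3,4,2,1,3,0,2,2,1,3,0,2,4,3,3,4,2,1,3,0,2,2,1,3,0,2,2,1,3,0,2,2,1,3,0,2,2,1,3,0,2,4,3,4,2,1,3,0,2,4] (by decide +kernel)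
theorem f595 : F [7,151] [0,27] := S.mapC (f594 S) [3,4,2,1,3,0,2,2,1,3,0,2,4,3,3,4,2,1,3,0,2,4,3,4,2,1,3,0,2,2,1,3,0,2,4,3,3,4,2,1,3,0,2,2,1,3,0,2,2,1,3,0,2,2,1,3,0,2,4,3,4,2,1,3,0,2,2,1,3,0,2,4,3,3,4,2,1,3,0,2,4,2,2,4,3,1,2,0,3,3,1,2,0,3,4,2,4,2,1,3,0,2,4,3,4,2,1,3,0,2,2,1,3,0,2,4,3,3,4,2,1,3,0,2,2,1,3,0,2,2,1,3,0,2,2,1,3,0,2,2,1,3,0,2,4,3,4,2,1,3,0,2,4] (by decide +kernel)
theorem f596 : F [7,151] [0,27] := S.mapC (f595 S) [0,3,1,4,2,1,4,0,3,4,0,0,3,3,0,3,1,3,3,3,1,3,0,3,3,4,2,2,1,2,0,2,0,0,0,2,0,2,1,2,0,2,2,1,1,1,1,4,1,1,3,3,3,0,3,1,3,3,3,1,1,1,3,1,2,0,2,2,4,3,3,1,3,0,2,2,2,0,2,2,2,1,2,2,4,0,0,0,4,1,2,4,3,0,4,2,2,0,2,1,2,2] (by decide +kernel)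
theorem f597 : F [257,12] [54,2] := S.mapC (f596 S) [3,4,2,1,3,0,2,2,1,3,0,2,4,3,3,4,2,1,3,0,2,4,3,4,2,1,3,0,2,2,1,3,0,2,4,3,3,4,2,1,3,0,2,4,3,4,2,1,3,0,2,2,1,3,0,2,4,3,3,4,2,1,3,0,2,2,1,3,0,2,4,3,4,2,1,3,0,2,2,1,3,0,2,4,3,3,4,2,1,3,0,2,4,3,4,2,1,3,0,2,2,1,3,0,2,4,3,3,3,4,2,1,3,0,2,2,1,3,0,2,4,3,3,4,3,1,2,0,3,4,2,2,4,3,1,2,0,3,3,1,2,0,3,4,2,4,2,1,3,0,2,2,1,3,0,2,2,1,3,0,2,4,3,4,2,1,3,0,2,2,1,3,0,2,4,3,3,4,2,1,3,0,2,4,3,4,2,1,3,0,2,2,1,3,0,2,2,1,3,0,2,4,3,4,2,1,3,0,2,4,2,1,1,4,2,4] (by decide +kernel)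
theorem f598 : F [257,12] [0,27] := S.trans (f597 S) (f562 S)
theorem f600 : F [0,27] [257,12] := S.symm (f598 S)
theorem f601 : F [0,27,582] [257,12,582] := S.appC (f600 S) 582 (by decide +kernel)
theorem f603 : F [22,165,222] [17,1,222] := S.mapC (f601 S) [3,3,3,0,3,3,1,3,0,3,3,1,3,3,4,2,0,2,0,4,1,3,1,3,4,1,1,1,1,1,4,3,0,3,3,1,4,2,4,2,2,4,2,2,4,2,1,2,2,4,3,3,0,3,4,3,3,4,3,3,4,3,4,0,3,3,3,1,3,3,0,3,1,3,3,3,4,2,1,2,0,4,1,3,0,3,4,0,0,2,2,2,0,2,1,2,2,0,2,2,2,1,1,2,0,4,1,3,0] (by decide +kernel)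
theorem f604 : F [0,27,29,222] [17,1,222] := S.trans (f591 S) (f603 S)
theorem f605 : F [17,1,222] [0,27,29,222] := S.symm (f604 S)
theorem f606 : F [22,590,0,3] [54,314,4] := S.rel0C [22,590] (by decide +kernel)
theorem f607 : F [0,27,29,222] [589,505,28] := S.mapC (f606 S) [3,1,4,3,0] (by decide +kernel)
theorem f608 : F [17,1,222] [589,505,28] := S.trans (f605 S) (f607 S)
theorem f619 : F [350,142,29] [0,27,21] := S.mapC (f608 S) [4,1,2,4,0,2,4,0,3,4,3,1,2,0,3,4,2,4,3,1,2,0,3,3,1,2,0,3,3,1,2,0,3,4,2,4,3,1,2,0,3,4,2,2,4,3,1,2,0,3,3,1,2,0,3,4,2,4,3,1,2,0,3,3,1,2,0,3,3,1,2,0,3,3,1,2,0,3,3,1,2,0,3,4,2,2,4,3,1,2,0,3,3,1,2,0,3,4,2,4,2,1,3,0,2,2,1,3,0,2,4,3,4,2,1,3,0,2,2,1,3,0,2,4,3,3,4,3,1,2,0,3,4,2,2,4,3,1,2,0,3,3,1,2,0,3,4,2,4,3,1,2,0,3,3,1,2,0,3,3,1,2,0,3,3,1,2,0,3,4,2,2,4,3,1,2,0,3,3,1,2,0,3,4,2,4,3,1,2,0,3,4,2,2,4,3,1,2,0,3,3,1,2,0,3,4,2]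 (by decide +kernel)
theorem f620 : F [0,27,29,381] [22,165,381] := S.appC (f557 S) 381 (by decide +kernel)
theorem f627 : F [0,27,41] [10,33] := S.mapC (f364 S) [3,4,2,1,3,0,2,2,1,3,0,2,4,3,3,4,2,1,3,0,2,4,3,4,2,1,3,0,2,2,1,3,0,2,4,3,3,4,2,1,3,0,2,2,1,3,0,2,2,1,3,0,2,2,1,3,0,2,4,3,4,2,1,3,0,2,2,1,3,0,2,4,3,3,4,2,1,3,0,2,4,2,2,4,3,1,2,0,3,3,1,2,0,3,4,2,4,3,1,2,0,3,3,1,2,0,3,4,3,4,2,1,3,0,2,2,1,3,0,2,4,3,3,4,2,1,3,0,2,2,1,3,0,2,2,1,3,0,2,2,1,3,0,2,2,1,3,0,2,4,3,4,2,1,3,0,2,2,1,3,0,2,4,3,3,4,2,1,3,0,2,2,1,3,0,2,2,1,3,0,2,2,1,3,0,2,4,2,4,2,1,3,0,2,2,1,3,0,2,4,2] (by decide +kernel)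
theorem f628 : F [22,165,381] [2,151] := S.mapC (f627 S) [3,3,3,0,3,3,1,3,0,3,3,1,3,3,4,2,0,2,0,4,1,3,1,3,4,1,1,1,1,1,4,3,0,3,3,1,4,2,4,2,2,4,2,2,4,2,1,2,2,4,3,3,0,3,4,3,3,4,3,3,4,3,4,0,3,3,3,1,3,3,0,3,1,3,3,3,4,2,1,2,0,4,1,3,0,3,4,0,0,2,2,2,0,2,1,2,2,0,2,2,2,1,1,2,0,4,1,3,0] (by decide +kernel)
theorem f629 : F [0,27,29,381] [2,151] := S.trans (f620 S) (f628 S)
theorem f630 : F [2,151] [0,27,29,381] := S.symm (f629 S)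
theorem f631 : F [133,590,0,3] [287,314,4] := S.rel0C [133,590] (by decide +kernel)
theorem f632 : F [0,27,29,381] [12,110,28] := S.mapC (f631 S) [1,3,3,3,4,3,0] (by decide +kernel)
theorem f633 : F [2,151] [12,110,28] := S.trans (f630 S) (f632 S)
theorem f636 : F [7,151] [0,27] := S.mapC (f187 S) [0,3,1,4,2,1,4,0,3,4,0,0,3,3,0,3,1,3,3,3,1,3,0,3,3,4,2,2,1,2,0,2,0,0,0,2,0,2,1,2,0,2,2,1,1,1,1,4,1,1,3,3,3,0,3,1,3,3,3,1,1,1,3,1,2,0,2,2,4,3,3,1,3,0,2,2,2,0,2,2,2,1,2,2,4,0,0,0,4,1,2,4,3,0,4,2,2,0,2,1,2,2] (by decide +kernel)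
theorem f637 : F [7,151] [0,27] := S.mapC (f636 S) [3,4,2,1,3,0,2,2,1,3,0,2,4,3,3,4,2,1,3,0,2,4,3,4,2,1,3,0,2,2,1,3,0,2,4,3,3,4,2,1,3,0,2,2,1,3,0,2,2,1,3,0,2,2,1,3,0,2,4,3,4,2,1,3,0,2,2,1,3,0,2,4,3,3,4,2,1,3,0,2,4,2,2,4,3,1,2,0,3,3,1,2,0,3,4,2,4,2,1,3,0,2,4,3,4,2,1,3,0,2,2,1,3,0,2,4,3,3,4,2,1,3,0,2,2,1,3,0,2,2,1,3,0,2,2,1,3,0,2,2,1,3,0,2,4,3,4,2,1,3,0,2,4] (by decide +kernel)
theorem f640 : F [0,27] [7,151] := S.symm (f637 S)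
theorem f641 : F [0,27,390] [7,151,390] := S.appC (f640 S) 390 (by decide +kernel)
theorem f642 : F [7,151,390] [1,165] := S.mapC (f364 S) [3,4,2,1,3,0,2,2,1,3,0,2,4,3,3,4,2,1,3,0,2,4,3,4,2,1,3,0,2,2,1,3,0,2,4,3,3,4,2,1,3,0,2,2,1,3,0,2,2,1,3,0,2,2,1,3,0,2,4,3,4,2,1,3,0,2,2,1,3,0,2,4,3,3,4,2,1,3,0,2,4,2,2,4,3,1,2,0,3,3,1,2,0,3,4,2,4,3,1,2,0,3,3,1,2,0,3,4,3,4,2,1,3,0,2,2,1,3,0,2,4,3,3,4,2,1,3,0,2,2,1,3,0,2,2,1,3,0,2,2,1,3,0,2,2,1,3,0,2,4,3,4,2,1,3,0,2,2,1,3,0,2,4,3,3,4,2,1,3,0,2,2,1,3,0,2,2,1,3,0,2,2,1,3,0,2,4,2,4,2,1,3,0,2,2,1,3,0,2,2] (by decide +kernel)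
theorem f643 : F [0,27,390] [1,165] := S.trans (f641 S) (f642 S)
theorem f644 : F [12,110,28] [7,17] := S.mapC (f643 S) [1,2,4,2,2,2,0,4,1,3,3,3,4,3,0] (by decide +kernel)
theorem f645 : F [2,151] [7,17] := S.trans (f633 S) (f644 S)
theorem f646 : F [86,279] [0,6] := S.mapC (f645 S) [1,2,4,2,2,2,0,4,1,3,3,3,4,3,3,3,4,3,1,2,0,3,3,1,2,0,3,4,2,2,2,2,2,4,3,1,2,0,3,3,1,2,0,3,4,2,4,3,1,2,0,3,3,1,2,0,3,3,1,2,0,3,3,1,2,0,3,3,1,2,0,3,4,2,2,4,3,1,2,0,3,3,1,2,0,3,4,2] (by decide +kernel)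
theorem f647 : F [0,27,29,564] [22,165,564] := S.appC (f557 S) 564 (by decide +kernel)
theorem f649 : F [257,12] [54,2] := S.mapC (f187 S) [3,4,2,1,3,0,2,2,1,3,0,2,4,3,3,4,2,1,3,0,2,4,3,4,2,1,3,0,2,2,1,3,0,2,4,3,3,4,2,1,3,0,2,4,3,4,2,1,3,0,2,2,1,3,0,2,4,3,3,4,2,1,3,0,2,2,1,3,0,2,4,3,4,2,1,3,0,2,2,1,3,0,2,4,3,3,4,2,1,3,0,2,4,3,4,2,1,3,0,2,2,1,3,0,2,4,3,3,3,4,2,1,3,0,2,2,1,3,0,2,4,3,3,4,3,1,2,0,3,4,2,2,4,3,1,2,0,3,3,1,2,0,3,4,2,4,2,1,3,0,2,2,1,3,0,2,2,1,3,0,2,4,3,4,2,1,3,0,2,2,1,3,0,2,4,3,3,4,2,1,3,0,2,4,3,4,2,1,3,0,2,2,1,3,0,2,2,1,3,0,2,4,3,4,2,1,3,0,2,4,2,1,1,4,2,4] (by decide +kernel)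
theorem f650 : F [257,12] [0,27] := S.trans (f649 S) (f562 S)
theorem f651 : F [257,12] [0,27] := S.mapC (f650 S) [3,4,2,1,3,0,2,2,1,3,0,2,4,3,3,4,2,1,3,0,2,4,3,4,2,1,3,0,2,2,1,3,0,2,4,3,3,4,2,1,3,0,2,2,1,3,0,2,2,1,3,0,2,2,1,3,0,2,4,3,4,2,1,3,0,2,2,1,3,0,2,4,3,3,4,2,1,3,0,2,4,2,2,4,3,1,2,0,3,3,1,2,0,3,4,2,4,2,1,3,0,2,4,3,4,2,1,3,0,2,2,1,3,0,2,4,3,3,4,2,1,3,0,2,2,1,3,0,2,2,1,3,0,2,2,1,3,0,2,2,1,3,0,2,4,3,4,2,1,3,0,2,4] (by decide +kernel)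
theorem f653 : F [0,27] [257,12] := S.symm (f651 S)
theorem f654 : F [0,27,1047] [257,12,1047] := S.appC (f653 S) 1047 (by decide +kernel)
theorem f656 : F [22,165,564] [17,1,564] := S.mapC (f654 S) [3,3,3,0,3,3,1,3,0,3,3,1,3,3,4,2,0,2,0,4,1,3,1,3,4,1,1,1,1,1,4,3,0,3,3,1,4,2,4,2,2,4,2,2,4,2,1,2,2,4,3,3,0,3,4,3,3,4,3,3,4,3,4,0,3,3,3,1,3,3,0,3,1,3,3,3,4,2,1,2,0,4,1,3,0,3,4,0,0,2,2,2,0,2,1,2,2,0,2,2,2,1,1,2,0,4,1,3,0] (by decide +kernel)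
theorem f657 : F [0,27,29,564] [17,1,564] := S.trans (f647 S) (f656 S)
theorem f658 : F [17,1,564] [0,27,29,564] := S.symm (f657 S)
theorem f659 : F [29,386,0,3] [68,184,4] := S.rel0C [29,386] (by decide +kernel)
theorem f660 : F [0,27,29,564] [428,1342,28] := S.mapC (f659 S) [1,2,4,2,0,2,2] (by decide +kernel)
theorem f661 : F [17,1,564] [428,1342,28] := S.trans (f658 S) (f660 S)
theorem f667 : F [0,27] [54,2] := S.symm (f562 S)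
theorem f668 : F [0,27,568] [54,2,568] := S.appC (f667 S) 568 (by decide +kernel)
theorem f670 : F [428,1342,28] [1214,570,28] := S.mapC (f668 S) [3,3,1,3,4,3,0,4,1,2,4,2,0,2,2] (by decide +kernel)
theorem f671 : F [17,1,564] [1214,570,28] := S.trans (f661 S) (f670 S)
theorem f672 : F [254,447,29] [0,27,21] := S.mapC (f671 S) [2,2,4,2,4,1,2,1,2,0,3,4,2,4,3,1,2,0,3,4,2,2,4,3,1,2,0,3,3,1,2,0,3,4,2,4,3,1,2,0,3,4,2,2,4,3,1,2,0,3,3,1,2,0,3,4,2,2,2,4,3,1,2,0,3,3,1,2,0,3,4,2,4,3,1,2,0,3,3,1,2,0,3,3,1,2,0,3,4,2,2,4,3,1,2,0,3,3,1,2,0,3,4,2,4,3,1,2,0,3,3,1,2,0,3,4,2,2,4,3,1,2,0,3,3,1,2,0,3,4,2,4,2,1,3,0,2,2,1,3,0,2,4,3,4,2,1,3,0,2,2,1,3,0,2,4,3,3,4,3,1,2,0,3,4,2,2,4,3,1,2,0,3,3,1,2,0,3,4,2,4,3,1,2,0,3,3,1,2,0,3,3,1,2,0,3,3,1,2,0,3,3,1,2,0,3,4,2,2,4,3,1,2,0,3,3,1,2,0,3,4,2,4,3,1,2,0,3,4,2,2,4,3,1,2,0,3,3,1,2,0,3,4,2,4,3,1,2,0,3,4,2,2,4,3,1,2,0,3,3,1,2,0,3,4,2]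 (by decide +kernel)
theorem f674 : F [0,5] [6,4] := S.mapC (f148 S) [0,0,4,0,0,0] (by decide +kernel)
theorem f675 : F [6,4] [0,5] := S.symm (f674 S)
theorem f676 : F [0,5] [6,4] := S.symm (f675 S)
theorem f677 : F [0,5,4] [6,4,4] := S.appC (f676 S) 4 (by decide +kernel)
theorem f679 : F [5,0,0] [5,1] := S.pw0C [5] 1 1 (by decide +kernel)
theorem f680 : F [0,5,5] [0,9] := S.mapC (f679 S) [0,4] (by decide +kernel)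
theorem f681 : F [0,5,5] [5,0] := S.trans (f680 S) (f33 S)
theorem f682 : F [6,4,4] [4,6] := S.mapC (f681 S) [0,0,4,0,0,0] (by decide +kernel)
theorem f683 : F [0,5,4] [4,6] := S.trans (f677 S) (f682 S)
theorem f684 : F [0,5,4,23] [4,6,23] := S.appC (f683 S) 23 (by decide +kernel)
theorem f692 : F [4,6,23] [0,5,4,23] := S.symm (f684 S)
theorem f693 : F [4,12,0,3] [9,33,4] := S.rel0C [4,12] (by decide +kernel)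
theorem f694 : F [0,5,4,23] [8,66,0] := S.mapC (f693 S) [1,1,3] (by decide +kernel)
theorem f695 : F [4,6,23] [8,66,0] := S.trans (f692 S) (f694 S)
theorem f703 : F [22,79,4] [0,5,7] := S.mapC (f695 S) [2,0,0,4,1,1,3,1,1,1,4,3,3,3,3,0,3,1,3,1,2,2,0,4,1,3,3,0,2,0,0,0,0,2,1,2,2,2,2,1,1,1,4,3,3,0,3,3,3,1,3,3,3,1,2,0,2,2,4,3,3,1,3,0,2,0,0,0,2,2,2,0,2,1,2,2,2,1,1,1,4,3,0,3,3,1,3,4,2,0,0,0,2,0,2,1,2] (by decide +kernel)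
theorem f707 : F [0,27,6,39] [257,33,39] := S.appC (f420 S) 39 (by decide +kernel)
theorem f708 : F [257,33,39] [0,27,6,39] := S.symm (f707 S)
theorem f709 : F [13,28,0,3] [35,67,4] := S.rel0C [13,28] (by decide +kernel)
theorem f710 : F [0,27,6,39] [257,12,5] := S.mapC (f709 S) [2,1,4] (by decide +kernel)
theorem f711 : F [257,33,39] [257,12,5] := S.trans (f708 S) (f710 S)
theorem f717 : F [7,151] [0,27] := S.mapC (f187 S) [3,4,2,1,3,0,2,2,1,3,0,2,4,3,3,4,2,1,3,0,2,4,3,4,2,1,3,0,2,2,1,3,0,2,4,3,3,4,2,1,3,0,2,2,1,3,0,2,2,1,3,0,2,2,1,3,0,2,4,3,4,2,1,3,0,2,2,1,3,0,2,4,3,3,4,2,1,3,0,2,4,2,2,4,3,1,2,0,3,3,1,2,0,3,4,2,4,2,1,3,0,2,4,3,4,2,1,3,0,2,2,1,3,0,2,4,3,3,4,2,1,3,0,2,2,1,3,0,2,2,1,3,0,2,2,1,3,0,2,2,1,3,0,2,4,3,4,2,1,3,0,2,4] (by decide +kernel)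
theorem f718 : F [7,151] [0,27] := S.mapC (f717 S) [0,3,1,4,2,1,4,0,3,4,0,0,3,3,0,3,1,3,3,3,1,3,0,3,3,4,2,2,1,2,0,2,0,0,0,2,0,2,1,2,0,2,2,1,1,1,1,4,1,1,3,3,3,0,3,1,3,3,3,1,1,1,3,1,2,0,2,2,4,3,3,1,3,0,2,2,2,0,2,2,2,1,2,2,4,0,0,0,4,1,2,4,3,0,4,2,2,0,2,1,2,2] (by decide +kernel)
theorem f719 : F [257,12] [54,2] := S.mapC (f718 S) [3,4,2,1,3,0,2,2,1,3,0,2,4,3,3,4,2,1,3,0,2,4,3,4,2,1,3,0,2,2,1,3,0,2,4,3,3,4,2,1,3,0,2,4,3,4,2,1,3,0,2,2,1,3,0,2,4,3,3,4,2,1,3,0,2,2,1,3,0,2,4,3,4,2,1,3,0,2,2,1,3,0,2,4,3,3,4,2,1,3,0,2,4,3,4,2,1,3,0,2,2,1,3,0,2,4,3,3,3,4,2,1,3,0,2,2,1,3,0,2,4,3,3,4,3,1,2,0,3,4,2,2,4,3,1,2,0,3,3,1,2,0,3,4,2,4,2,1,3,0,2,2,1,3,0,2,2,1,3,0,2,4,3,4,2,1,3,0,2,2,1,3,0,2,4,3,3,4,2,1,3,0,2,4,3,4,2,1,3,0,2,2,1,3,0,2,2,1,3,0,2,4,3,4,2,1,3,0,2,4,2,1,1,4,2,4] (by decide +kernel)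
theorem f720 : F [257,12] [0,27] := S.trans (f719 S) (f562 S)
theorem f721 : F [0,27] [54,2] := S.mapC (f562 S) [4,3,4,0,0,4,3,1,2,0,3,3,1,2,0,3,3,1,2,0,3,3,1,2,0,3,4,2,2,4,3,1,2,0,3,3,1,2,0,3,4,2,4,3,1,2,0,3,3,1,2,0,3,3,1,2,0,3,4,3,4,2,1,3,0,2,2,1,3,0,2,4,3,3,4,2,1,3,0,2,4,2,2,4,3,1,2,0,3,3,1,2,0,3,4,2,2,2,4,3,1,2,0,3,3,1,2,0,3,4,2,4,3,1,2,0,3,4,2,2,4,3,1,2,0,3,3,1,2,0,3,4,2] (by decide +kernel)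
theorem f722 : F [54,2] [0,27] := S.symm (f721 S)
theorem f723 : F [7,151] [257,12] := S.mapC (f722 S) [3,4,2,1,3,0,2,2,1,3,0,2,4,3,3,4,2,1,3,0,2,4,3,4,2,1,3,0,2,2,1,3,0,2,4,3,3,4,2,1,3,0,2,2,1,3,0,2,2,1,3,0,2,2,1,3,0,2,4,3,4,2,1,3,0,2,2,1,3,0,2,4,3,3,4,2,1,3,0,2,4,2,2,4,3,1,2,0,3,3,1,2,0,3,4,2,4,2,1,3,0,2,4,3,4,2,1,3,0,2,2,1,3,0,2,4,3,3,4,2,1,3,0,2,4,2,2,4,3,1,2,0,3,3,1,2,0,3,4,2,4,3,1,2,0,3,3,1,2,0,3,4,3,4,2,1,3,0,2,2,1,3,0,2,4,3,3,4,2,1,3,0,2,2,1,3,0,2,4,3,4,2,1,3,0,2,4,1,1,4,3,4,2,4] (by decide +kernel)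
theorem f724 : F [7,151] [0,27] := S.trans (f723 S) (f720 S)
theorem f725 : F [0,27] [7,151] := S.symm (f724 S)
theorem f726 : F [0,27,37] [7,151,37] := S.appC (f725 S) 37 (by decide +kernel)
theorem f727 : F [7,151,37] [54,165] := S.mapC (f420 S) [3,4,2,1,3,0,2,2,1,3,0,2,4,3,3,4,2,1,3,0,2,4,3,4,2,1,3,0,2,2,1,3,0,2,4,3,3,4,2,1,3,0,2,4,3,4,2,1,3,0,2,2,1,3,0,2,4,3,3,4,2,1,3,0,2,2,1,3,0,2,4,3,4,2,1,3,0,2,2,1,3,0,2,4,3,3,4,2,1,3,0,2,4,3,4,2,1,3,0,2,2,1,3,0,2,4,3,3,3,4,2,1,3,0,2,2,1,3,0,2,4,3,3,4,3,1,2,0,3,4,2,2,4,3,1,2,0,3,3,1,2,0,3,4,2,4,2,1,3,0,2,2,1,3,0,2,2,1,3,0,2,4,3,4,2,1,3,0,2,2,1,3,0,2,4,3,3,3,3,4,2,1,3,0,2,2] (by decide +kernel)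
theorem f728 : F [0,27,37] [54,165] := S.trans (f726 S) (f727 S)
theorem f729 : F [257,12,5] [7,1] := S.mapC (f728 S) [4,0,3,4,2,1,4] (by decide +kernel)
theorem f730 : F [257,33,39] [7,1] := S.trans (f711 S) (f729 S)
theorem f731 : F [0,5,14] [120,165] := S.mapC (f730 S) [4,3,4,1,4,0,4,2,4] (by decide +kernel)
theorem f732 : F [0,5,12] [120,165] := S.mapC (f731 S) [1,1,1,4,3,3,0,3,1,3,3,3,1,3,0,3,3,4,2,2,1,2,0,2,0,0,0,2,0,2,1,2,0,2,2,1] (by decide +kernel)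
theorem f733 : F [0,5,12,22] [120,165,22] := S.appC (f732 S) 22 (by decide +kernel)
theorem f739 : F [120,165,22] [0,5,12,22] := S.symm (f733 S)
theorem f740 : F [6,68,0,2] [6,68,4] := S.pw0C [6,68] 1 3 (by decide +kernel)
theorem f741 : F [0,5,12,22] [0,5,10] := S.mapC (f740 S) [1,4,2] (by decide +kernel)
theorem f742 : F [120,165,22] [0,5,10] := S.trans (f739 S) (f741 S)
theorem f749 : F [0,5,12] [120,165] := S.mapC (f731 S) [1,1,1,4,3,3,0,3,1,3,3,3,1,3,0,3,3,4,2,2,1,2,0,2,0,0,0,2,0,2,1,2,0,2,2,1] (by decide +kernel)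
theorem f750 : F [0,5,12,12] [120,165,12] := S.appC (f749 S) 12 (by decide +kernel)
theorem f751 : F [120,165,12] [0,5,12,12] := S.symm (f750 S)
theorem f752 : F [6,68,0,0] [6,68,1] := S.pw0C [6,68] 1 1 (by decide +kernel)
theorem f753 : F [0,5,12,12] [0,5,7] := S.mapC (f752 S) [1,4,2] (by decide +kernel)
theorem f754 : F [120,165,12] [0,5,7] := S.trans (f751 S) (f753 S)
theorem f755 : F [0,5,15] [120,165,25] := S.mapC (f754 S) [3,4,2,4,0,0,3,4,3,1,2,0,3,3,1,2,0,3,4,2,2,4,3,1,2,0,3,3,1,2,0,3,4,2,2,2,4,3,1,2,0,3,3,1,2,0,3,4,2,4,2,1,3,0,2,4,3,4,2,1,3,0,2,2,1,3,0,2,4,3,3,4,3,1,2,0,3,4,2,2,4,3,1,2,0,3,3,1,2,0,3,4,2,4,3,1,2,0,3,3,1,2,0,3,3,1,2,0,3,3,1,2,0,3,4,2,2,4,3,1,2,0,3,3,1,2,0,3,4,2,4,3,1,2,0,3,4,2,2,4,3,1,2,0,3,3,1,2,0,3,4,2] (by decide +kernel)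
theorem f756 : F [0,5,10] [120,165,22] := S.mapC (f755 S) [1,1,1,4,3,3,0,3,1,3,3,3,1,3,0,3,3,4,2,2,1,2,0,2,0,0,0,2,0,2,1,2,0,2,2,1] (by decide +kernel)
theorem f757 : F [120,165,22] [120,165,22] := S.trans (f742 S) (f756 S)

end Cfsg.Agent.Lib.TC.D.HND.Fa
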