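import Cfsg.Agent.Lib.TC.D.HND.Sys
import Cfsg.Agent.Lib.TC.D.HND.F0

namespace Cfsg.Agent.Lib.TC.D.HND.Fa

open Cfsg.Agent.Lib.TC.D.HND.Sys

set_option maxRecDepth 100000

variable {F : List Nat → List Nat → Prop} (S : Sys F)

include S

theorem f758 : F [0,5,7] [0,5,7] := S.mapC (f757 S) [3,4,2,4,0,0,3,4,3,1,2,0,3,3,1,2,0,3,3,1,2,0,3,4,2,2,4,3,1,2,0,3,3,1,2,0,3,4,2,4,3,1,2,0,3,3,1,2,0,3,3,1,2,0,3,3,1,2,0,3,4,2,2,4,3,1,2,0,3,3,1,2,0,3,4,2,4,2,1,3,0,2,2,1,3,0,2,4,3,4,2,1,3,0,2,2,1,3,0,2,4,3,3,4,3,1,2,0,3,4,2,2,4,3,1,2,0,3,3,1,2,0,3,4,2,4,3,1,2,0,3,3,1,2,0,3,3,1,2,0,3,3,1,2,0,3,4,2,2,4,3,1,2,0,3,3,1,2,0,3,4,2,4,3,1,2,0,3,4,2,2,4,3,1,2,0,3,3,1,2,0,3,4,2] (by decide +kernel)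
theorem f762 : F [0,5,12] [120,165] := S.mapC (f731 S) [1,1,1,4,3,3,0,3,1,3,3,3,1,3,0,3,3,4,2,2,1,2,0,2,0,0,0,2,0,2,1,2,0,2,2,1] (by decide +kernel)
theorem f763 : F [0,5,12,189] [120,165,189] := S.appC (f762 S) 189 (by decide +kernel)
theorem f778 : F [0,5,12] [120,165] := S.mapC (f731 S) [1,1,1,4,3,3,0,3,1,3,3,3,1,3,0,3,3,4,2,2,1,2,0,2,0,0,0,2,0,2,1,2,0,2,2,1] (by decide +kernel)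
theorem f779 : F [0,5,12,84] [120,165,84] := S.appC (f778 S) 84 (by decide +kernel)
theorem f780 : F [120,165,84] [0,5,12,84] := S.symm (f779 S)
theorem f781 : F [13,144,0,3] [35,312,4] := S.rel0C [13,144] (by decide +kernel)
theorem f782 : F [0,5,12,84] [173,54,10] := S.mapC (f781 S) [2,1,4,2] (by decide +kernel)
theorem f783 : F [120,165,84] [173,54,10] := S.trans (f780 S) (f782 S)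
theorem f786 : F [6,4] [0,5] := S.mapC (f148 S) [0,3,3,1,3,0,3,1,3,1,1,1,3,1,3,0,3,3,4,2,2,1,2,0,2,2,2,0,2,1,2,2,4,0,0,0] (by decide +kernel)
theorem f787 : F [6,4] [0,5] := S.mapC (f786 S) [3,0,3,1,3,1,1,1,3,4,2,0,2,2,1,2,4,0,0,0] (by decide +kernel)
theorem f789 : F [0,5] [6,4] := S.symm (f787 S)
theorem f790 : F [0,5,82] [6,4,82] := S.appC (f789 S) 82 (by decide +kernel)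
theorem f792 : F [173,54,10] [17,177,10] := S.mapC (f790 S) [3,4,0,3,4,2,1,4,2] (by decide +kernel)
theorem f793 : F [120,165,84] [17,177,10] := S.trans (f783 S) (f792 S)
theorem f794 : F [0,5,364] [60,490,14] := S.mapC (f793 S) [3,4,2,4,0,0,3,4,3,1,2,0,3,3,1,2,0,3,4,2,2,4,3,1,2,0,3,3,1,2,0,3,4,2,2,2,4,3,1,2,0,3,3,1,2,0,3,4,2,4,2,1,3,0,2,4,3,4,2,1,3,0,2,2,1,3,0,2,4,3,3,4,3,1,2,0,3,4,2,2,4,3,1,2,0,3,3,1,2,0,3,4,2,4,3,1,2,0,3,3,1,2,0,3,3,1,2,0,3,3,1,2,0,3,4,2,2,4,3,1,2,0,3,3,1,2,0,3,4,2,4,3,1,2,0,3,4,2,2,4,3,1,2,0,3,3,1,2,0,3,4,2] (by decide +kernel)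
theorem f795 : F [0,5,548] [60,923,14] := S.mapC (f794 S) [3,4,2,1,3,0,2,2,1,3,0,2,4,3,3,4,2,1,3,0,2,2,1,3,0,2,2,1,3,0,2,2,1,3,0,2,2,1,3,0,2,4,3,4,2,1,3,0,2,2,1,3,0,2,4,3,3,4,2,1,3,0,2,4,2,2,4,3,1,2,0,3,3,1,2,0,3,4,2,4,3,1,2,0,3,3,1,2,0,3,4,3,4,2,1,3,0,2,2,1,3,0,2,4,3,3,4,2,1,3,0,2,2,1,3,0,2,4,3,4,2,1,3,0,2,2,1,3,0,2,4,3,3,4,2,1,3,0,2,2,1,3,0,2,2,1,3,0,2,2,1,3,0,2,2,1,3,0,2,4] (by decide +kernel)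
theorem f796 : F [120,165,189] [17,393,10] := S.mapC (f795 S) [3,4,2,1,3,0,2,2,1,3,0,2,4,3,3,4,2,1,3,0,2,4,3,4,2,1,3,0,2,2,1,3,0,2,4,3,3,4,2,1,3,0,2,2,1,3,0,2,2,1,3,0,2,2,1,3,0,2,4,3,4,2,1,3,0,2,2,1,3,0,2,4,3,3,4,2,1,3,0,2,4,2,2,4,3,1,2,0,3,3,1,2,0,3,4,2,4,3,1,2,0,3,4,3,4,2,1,3,0,2,2,1,3,0,2,4,3,3,3,4,2,1,3,0,2,2,1,3,0,2,4,3,3,4,2,1,3,0,2,2,1,3,0,2,4,2,1,1,4,3,4,2] (by decide +kernel)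
theorem f797 : F [0,5,12,189] [17,393,10] := S.trans (f763 S) (f796 S)
theorem f798 : F [17,393,10] [0,5,12,189] := S.symm (f797 S)
theorem f799 : F [32,125,0,3] [75,269,4] := S.rel0C [32,125] (by decide +kernel)
theorem f800 : F [0,5,12,189] [386,54,10] := S.mapC (f799 S) [3,3,1,4,2] (by decide +kernel)
theorem f801 : F [17,393,10] [386,54,10] := S.trans (f798 S) (f800 S)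
theorem f806 : F [0,5] [6,4] := S.symm (f148 S)
theorem f807 : F [0,5,184] [6,4,184] := S.appC (f806 S) 184 (by decide +kernel)
theorem f809 : F [386,54,10] [17,393,10] := S.mapC (f807 S) [3,4,0,2,2,4,3,3,1,4,2] (by decide +kernel)
theorem f810 : F [17,393,10] [17,393,10] := S.trans (f801 S) (f809 S)
theorem f811 : F [0,5,7] [0,5,7] := S.mapC (f810 S) [3,4,0,2,2,4,3,3,1,4,2,0,0,3,3,3,3,0,3,1,3,1,2,2,0,4,1,3,3,0,2,0,0,0,0,2,1,2,2,2,2,1,1,1,4,3,3,3,3,0,3,1,3,1,2,2,0,4,1,3,3,0,2,0,0,0,0,2,1,2,2,2,2] (by decide +kernel)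
theorem f812 : F [2,59,0,3] [6,124,4] := S.rel0C [2,59] (by decide +kernel)
theorem f813 : F [0,5,1,36] [59,83,2] := S.mapC (f812 S) [3,0,3] (by decide +kernel)
theorem f814 : F [59,83,2] [0,5,1,36] := S.symm (f813 S)
theorem f816 : F [0,5] [6,4] := S.mapC (f148 S) [0,0,4,0,0,0] (by decide +kernel)
theorem f817 : F [6,4] [0,5] := S.symm (f816 S)
theorem f818 : F [0,5] [6,4] := S.symm (f817 S)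
theorem f819 : F [0,5,1] [6,4,1] := S.appC (f818 S) 1 (by decide +kernel)
theorem f821 : F [5,0,2] [5,4] := S.pw0C [5] 1 3 (by decide +kernel)
theorem f822 : F [0,5,3] [0,6] := S.mapC (f821 S) [0,4] (by decide +kernel)
theorem f823 : F [6,4,1] [6,0] := S.mapC (f822 S) [0,0,4,0,0,0] (by decide +kernel)
theorem f824 : F [0,5,1] [6,0] := S.trans (f819 S) (f823 S)
theorem f825 : F [0,5,1,36] [6,0,36] := S.appC (f824 S) 36 (by decide +kernel)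
theorem f827 : F [9,1] [4,5] := S.mapC (f132 S) [1,1] (by decide +kernel)
theorem f828 : F [9,1] [0,6] := S.trans (f827 S) (f154 S)
theorem f830 : F [182,130] [86,279] := S.mapC (f132 S) [3,4,2,1,3,0,2,2,1,3,0,2,4,3,3,4,2,1,3,0,2,4,3,4,2,1,3,0,2,2,1,3,0,2,4,3,3,4,2,1,3,0,2,4,3,4,2,1,3,0,2,2,1,3,0,2,4,3,3,4,2,1,3,0,2,4,3,4,2,1,3,0,2,2,1,3,0,2,4,3,3,4,3,1,2,0,3,4,2,2,4,3,1,2,0,3,3,1,2,0,3,4,2,4,2,1,3,0,2,2,1,3,0,2,2,1,3,0,2,4,3,4,2,1,3,0,2,2,1,3,0,2,4,3,3,4,2,1,3,0,2,4,2,2,4,3,1,2,0,3,3,1,2,0,3,4,2,4,2,1,3,0,2,4,3,4,2,1,3,0,2,2,1,3,0,2,4,3,3,4,2,1,3,0,2,4,2,2,4,3,1,2,0,3,3,1,2,0,3,4,2,4,2,1,3,0,2,4,3,4,2,1,3,0,2,4,2,4,3,3,0,2] (by decide +kernel)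
theorem f831 : F [182,130] [0,6] := S.trans (f830 S) (f646 S)
theorem f832 : F [81,59] [0,6] := S.mapC (f831 S) [3,4,2,1,3,0,2,2,1,3,0,2,4,3,3,4,2,1,3,0,2,4,3,4,2,1,3,0,2,2,1,3,0,2,4,3,3,4,2,1,3,0,2,4,3,4,2,1,3,0,2,2,1,3,0,2,4,3,3,4,2,1,3,0,2,4,3,4,2,1,3,0,2,2,1,3,0,2,4,3,3,3,4,2,1,3,0,2,2,1,3,0,2,4,3,3,4,3,1,2,0,3,4,2,2,4,3,1,2,0,3,3,1,2,0,3,4,2,4,2,1,3,0,2,2,1,3,0,2,2,1,3,0,2,4,3,4,2,1,3,0,2,2,1,3,0,2,4,3,3,4,2,1,3,0,2,4,2,2,4,3,1,2,0,3,3,1,2,0,3,4,2,4,3,1,2,0,3,3,1,2,0,3,4,3,4,2,1,3,0,2,2,1,3,0,2,4,3,3,4,2,1,3,0,2,2,1,3,0,2,2,1,3,0,2,2,1,3,0,2,4,3,4,2,1,3,0,2,2,1,3,0,2,4,3,3,4,2,1,3,0,2,4] (by decide +kernel)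
theorem f833 : F [0,6] [9,1] := S.mapC (f828 S) [0,0,0,4,0] (by decide +kernel)
theorem f834 : F [9,1] [0,6] := S.symm (f833 S)
theorem f835 : F [38,122] [81,59] := S.mapC (f834 S) [4,2,1,3,0,2,2,1,3,0,2,2,1,3,0,2,4,3,4,2,1,3,0,2,2,1,3,0,2,4,3,3,4,2,1,3,0,2,4,2,2,4,3,1,2,0,3,3,1,2,0,3,4,2,4,2,1,3,0,2,4,3,4,2,1,3,0,2,2,1,3,0,2,4,3,3,4,2,1,3,0,2,4,2,2,4,3,1,2,0,3,3,1,2,0,3,4,2,4,3,1,2,0,3,4,3,4,2,1,3,0,2,2,1,3,0,2,4,3,3,3,4,2,1,3,0,2,2,1,3,0,2,4,3,3,4,2,1,3,0,2,4,3,4,2,1,3,0,2,4,2,4,3,0,3,4] (by decide +kernel)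
theorem f836 : F [38,122] [0,6] := S.trans (f835 S) (f832 S)
theorem f837 : F [0,6] [38,122] := S.symm (f836 S)
theorem f838 : F [0,6,122] [38,122,122] := S.appC (f837 S) 122 (by decide +kernel)
theorem f840 : F [6,0,0] [6,1] := S.pw0C [6] 1 1 (by decide +kernel)
theorem f841 : F [0,6,6] [0,3] := S.mapC (f840 S) [1,4] (by decide +kernel)
theorem f842 : F [0,6,6] [4] := S.trans (f841 S) (f134 S)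
theorem f843 : F [38,122,122] [36] := S.mapC (f842 S) [4,2,1,3,0,2,2,1,3,0,2,2,1,3,0,2,4,3,4,2,1,3,0,2,2,1,3,0,2,4,3,3,4,2,1,3,0,2,4,2,2,4,3,1,2,0,3,3,1,2,0,3,4,2,4,2,1,3,0,2,4,3,4,2,1,3,0,2,2,1,3,0,2,4,3,3,4,2,1,3,0,2,4,2,2,4,3,1,2,0,3,3,1,2,0,3,4,2,4,3,1,2,0,3,4,3,4,2,1,3,0,2,2,1,3,0,2,4,3,3,3,4,2,1,3,0,2,2,1,3,0,2,4,3,3,4,2,1,3,0,2,4,3,4,2,1,3,0,2,4,2,4,3,1,3] (by decide +kernel)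
theorem f844 : F [0,6,122] [36] := S.trans (f838 S) (f843 S)
theorem f845 : F [6,0,36] [122] := S.mapC (f844 S) [0,0,4,0,0,0] (by decide +kernel)
theorem f846 : F [0,5,1,36] [122] := S.trans (f825 S) (f845 S)
theorem f847 : F [59,83,2] [122] := S.trans (f814 S) (f846 S)
theorem f848 : F [0,5,38] [3] := S.mapC (f847 S) [2,1,2,4,3,0,3] (by decide +kernel)
theorem f849 : F [0,5,38,241] [3,241] := S.appC (f848 S) 241 (by decide +kernel)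
theorem f861 : F [3,241] [0,5,38,241] := S.symm (f849 S)
theorem f862 : F [10,260,0,3] [27,505,4] := S.rel0C [10,260] (by decide +kernel)
theorem f863 : F [0,5,38,241] [508,322,36] := S.mapC (f862 S) [3,4,3,1,3] (by decide +kernel)
theorem f864 : F [3,241] [508,322,36] := S.trans (f861 S) (f863 S)
theorem f877 : F [59,236,0,3] [124,422,4] := S.rel0C [59,236] (by decide +kernel)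
theorem f878 : F [0,5,22,266] [29,77,7] := S.mapC (f877 S) [1,3,1,3,4,2] (by decide +kernel)
theorem f879 : F [29,77,7] [0,5,22,266] := S.symm (f878 S)
theorem f883 : F [0,5] [6,4] := S.mapC (f148 S) [0,0,3,3,0,3,1,3,3,3,1,3,0,3,3,4,2,2,1,2,0,2,0,0,0,2,0,2,1,2,0,2,2,1,1,1,1,4,3,3,0,3,3,3,1,3,3,3,1,2,0,2,2,4,3,3,1,3,0,2,0,0,0,2,2,2,0,2,1,2,2,2] (by decide +kernel)
theorem f884 : F [6,4] [0,5] := S.symm (f883 S)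
theorem f885 : F [0,5] [6,4] := S.symm (f884 S)
theorem f886 : F [0,5,22] [6,4,22] := S.appC (f885 S) 22 (by decide +kernel)
theorem f887 : F [6,4,22] [79,0] := S.mapC (f201 S) [0,0,3,3,0,3,1,3,3,3,1,3,0,3,3,4,2,2,1,2,0,2,0,0,0,2,0,2,1,2,0,2,2,1,1,1,1,4,3,3,0,3,3,3,1,3,3,3,1,2,0,2,2,4,3,3,1,3,0,2,0,0,0,2,2,2,0,2,1,2,2,2] (by decide +kernel)
theorem f888 : F [0,5,22] [79,0] := S.trans (f886 S) (f887 S)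
theorem f889 : F [0,5,22,266] [79,0,266] := S.appC (f888 S) 266 (by decide +kernel)
theorem f894 : F [54,2] [0,27] := S.mapC (f562 S) [0,3,1,4,2,1,4,0,3,4,0,0,3,3,0,3,1,3,3,3,1,3,0,3,3,4,2,2,1,2,0,2,0,0,0,2,0,2,1,2,0,2,2,1,1,1,1,4,1,1,3,3,3,0,3,1,3,3,3,1,1,1,3,1,2,0,2,2,4,3,3,1,3,0,2,2,2,0,2,2,2,1,2,2,4,0,0,0,4,1,2,4,3,0,4,2,2,0,2,1,2,2] (by decide +kernel)
theorem f896 : F [0,27] [54,2] := S.mapC (f894 S) [4,3,4,0,0,4,3,1,2,0,3,3,1,2,0,3,4,3,4,3,1,2,0,3,4,2,2,4,3,1,2,0,3,3,1,2,0,3,4,2,4,3,1,2,0,3,4,3,4,2,1,3,0,2,2,1,3,0,2,4,3,3,4,3,1,2,0,3,4,2,2,4,3,1,2,0,3,3,1,2,0,3,4,2,4,3,1,2,0,3,3,1,2,0,3,3,1,2,0,3,4] (by decide +kernel)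
theorem f897 : F [54,2] [0,27] := S.symm (f896 S)
theorem f898 : F [257,12] [7,151] := S.mapC (f897 S) [0,3,3,3,1,3,3,0,3,1,3,3,3,1,1,4,2,1,2,0,4,1,3,0,3,4,2,2,2,0,2,1,2,2,0,2,2,2,1] (by decide +kernel)
theorem f899 : F [257,12] [0,27] := S.trans (f898 S) (f187 S)
theorem f900 : F [0,27] [257,12] := S.symm (f899 S)
theorem f901 : F [0,27,149] [257,12,149] := S.appC (f900 S) 149 (by decide +kernel)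
theorem f902 : F [257,12,149] [175,10] := S.mapC (f258 S) [3,4,2,1,3,0,2,2,1,3,0,2,4,3,3,4,2,1,3,0,2,4,3,4,2,1,3,0,2,2,1,3,0,2,4,3,3,4,2,1,3,0,2,4,3,4,2,1,3,0,2,2,1,3,0,2,4,3,3,4,2,1,3,0,2,2,1,3,0,2,2,1,3,0,2,2,1,3,0,2,2,1,3,0,2,4,3,4,2,1,3,0,2,2,1,3,0,2,4,3,3,4,2,1,3,0,2,4,2,2,4,3,1,2,0,3,3,1,2,0,3,4,2,4,3,1,2,0,3,3,1,2,0,3,4,3,4,2,1,3,0,2,2,1,3,0,2,4,3,3,4,2,1,3,0,2,2,1,3,0,2,4,3,4,2,1,3,0,2,2,1,3,0,2,4,3,3,4,2,1,3,0,2,2,1,3,0,2,2,1,3,0,2,4,3,4,2,1,3,0,2,2,1,3,0,2,4,3,3,3,4,2,1,3,0,2,2,1,3,0,2,4,3,3,4,2,1,3,0,2,4,2,2,4,2,1,3,0,2,4,2,1,1,4,3,4,2,4] (by decide +kernel)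
theorem f903 : F [0,27,149] [175,10] := S.trans (f901 S) (f902 S)
theorem f904 : F [79,0,266] [67,257] := S.mapC (f903 S) [0,3,1,4,2,1,4,0,3,4,0,0,3,3,0,3,1,3,3,3,1,3,0,3,3,4,2,2,1,2,0,2,0,0,0,2,0,2,1,2,0,2,2,1,1,1,1,4,3,3,0,3,3,3,1,3,3,3,1,2,0,2,2,4,3,3,1,3,0,2,0,0,0,2,2,2,0,2,1,2,2,2] (by decide +kernel)
theorem f905 : F [0,5,22,266] [67,257] := S.trans (f889 S) (f904 S)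
theorem f906 : F [29,77,7] [67,257] := S.trans (f879 S) (f905 S)
theorem f907 : F [0,5,260] [254,27] := S.mapC (f906 S) [3,4,2,0,2,0,4,1,3,1,3,4,2] (by decide +kernel)
theorem f908 : F [0,5,239] [38,230] := S.mapC (f907 S) [3,4,2,1,3,0,2,2,1,3,0,2,4,3,3,4,2,1,3,0,2,4,3,4,2,1,3,0,2,2,1,3,0,2,4,3,3,3,4,2,1,3,0,2,2,1,3,0,2,4,3,3,4,3,1,2,0,3,4,2,2,4,3,1,2,0,3,3,1,2,0,3,4,2,4,2,1,3,0,2,4,3,4,2,1,3,0,2,2,1,3,0,2,4,3,3] (by decide +kernel)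
theorem f909 : F [508,322,36] [241,3] := S.mapC (f908 S) [2,0,2,4,2,4,3,4,3,1,3] (by decide +kernel)
theorem f910 : F [3,241] [241,3] := S.trans (f864 S) (f909 S)
theorem f911 : F [99,0] [0,99] := S.mapC (f910 S) [2,0,2,4,2,4,2,4,3,1,2,0,3,3,1,2,0,3,4,3,4,3,1,2,0,3,4,2,2,4,3,1,2,0,3,3,1,2,0,3,4,2,4,3,1,2,0,3,3,1,2,0,3,3,1,2,0,3,4,2,2,4,3,1,2,0,3,3,1,2,0,3,4,2,4,2,1,3,0,2,4,3,4,2,1,3,0,2,2,1,3,0,2,4,3,3,4,3,1,2,0,3,4,2,2,4,3,1,2,0,3,3,1,2,0,3,4,2,4,3,1,2,0,3,4,3,4,2,1,3,0,2,2,1,3,0,2,4,3,3,4,3,1,2,0,3,4,2,2,4,3,1,2,0,3,3,1,2,0,3,4,2,4,3,1,2,0,3,3,1,2,0,3,3,1,2,0,3,3,1,2,0,3,4,2,2,4,3,1,2,0,3,3,1,2,0,3,4,2,4,3,1,2,0,3,4,2,2,4,3,1,2,0,3,3,1,2,0,3,4,2] (by decide +kernel)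
theorem f914 : F [99,0] [0,99] := S.mapC (f911 S) [3,4,2,1,3,0,2,2,1,3,0,2,4,3,3,4,2,1,3,0,2,4,3,4,2,1,3,0,2,2,1,3,0,2,4,3,3,4,2,1,3,0,2,4,3,4,2,1,3,0,2,2,1,3,0,2,4,3,3,4,2,1,3,0,2,4,3,4,2,1,3,0,2,2,1,3,0,2,4,3,3,3,4,2,1,3,0,2,2,1,3,0,2,4,3,3,4,3,1,2,0,3,4,2,2,4,3,1,2,0,3,3,1,2,0,3,4,2,4,2,1,3,0,2,2,1,3,0,2,2,1,3,0,2,4,3,4,2,1,3,0,2,2,1,3,0,2,4,3,3,4,2,1,3,0,2,4,2,2,4,3,1,2,0,3,3,1,2,0,3,4,2,4,3,1,2,0,3,4,3,4,2,1,3,0,2,2,1,3,0,2,4,3,3,4,2,1,3,0,2,2,1,3,0,2,2,1,3,0,2,4,2,4,2,1,3,0,2,4,2,4,2,1,3,0,2,2,1,3,0,2,4,2] (by decide +kernel)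
theorem f915 : F [0,99] [99,0] := S.mapC (f914 S) [4,3,4,3,4,2,4,3,1,2,0,3,4,2,2,2,4,3,1,2,0,3,4,2,2,4,3,1,2,0,3,3,1,2,0,3,4,2,4,3,1,2,0,3,3,1,2,0,3,3,1,2,0,3,4,2,2,4,3,1,2,0,3,3,1,2,0,3,4,2,4,2,1,3,0,2,2,1,3,0,2,4,3,4,2,1,3,0,2,2,1,3,0,2,4,3,3,4,3,1,2,0,3,4,2,2,4,3,1,2,0,3,3,1,2,0,3,4,2,4,3,1,2,0,3,3,1,2,0,3,3,1,2,0,3,4] (by decide +kernel)
theorem f916 : F [99,0] [0,99] := S.symm (f915 S)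
theorem f917 : F [0,99] [99,0] := S.symm (f916 S)
theorem f918 : F [0,99,10] [99,0,10] := S.appC (f917 S) 10 (by decide +kernel)
theorem f925 : F [0,5,65] [38,64] := S.mapC (f907 S) [1,1,1,4,3,0,3,3,1,3,4,2,0,0,0,2,0,2,1,2,1,1,1,4,3,0,3,3,1,3,4,2,0,0,0,2,0,2,1,2,1,1,1,4,3,3,0,3,3,3,1,3,3,3,1,2,0,2,2,4,3,3,1,3,0,2,0,0,0,2,2,2,0,2,1,2,2,2,1,1,1,4,3,3,0,3,1,3,3,3,1,3,0,3,3,4,2,2,1,2,0,2,0,0,0,2,0,2,1,2,0,2,2,1] (by decide +kernel)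
theorem f926 : F [0,5,65,265] [38,64,265] := S.appC (f925 S) 265 (by decide +kernel)
theorem f927 : F [38,64,265] [0,5,65,265] := S.symm (f926 S)
theorem f928 : F [79,296,0,3] [165,136,4] := S.rel0C [79,296] (by decide +kernel)
theorem f929 : F [0,5,65,265] [53,343,76] := S.mapC (f928 S) [0,3,4,2,4,2] (by decide +kernel)
theorem f930 : F [38,64,265] [53,343,76] := S.trans (f927 S) (f929 S)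
theorem f939 : F [0,99,361] [1003,147,464] := S.mapC (f930 S) [2,0,2,4,3,4,3,1,2,0,3,3,1,2,0,3,4,2,4,3,1,2,0,3,3,1,2,0,3,4,2,4,3,1,2,0,3,3,1,2,0,3,3,1,2,0,3,4,2,2,4,3,1,2,0,3,3,1,2,0,3,4,2,4,3,1,2,0,3,3,1,2,0,3,3,1,2,0,3,4,2,2,4,3,1,2,0,3,3,1,2,0,3,4,2,4,2,1,3,0,2,2,1,3,0,2,4,3,4,2,1,3,0,2,2,1,3,0,2,4,3,3,4,3,1,2,0,3,4,2,2,4,3,1,2,0,3,3,1,2,0,3,4,2,4,3,1,2,0,3,3,1,2,0,3,3,1,2,0,3,4,3,4,2,1,3,0,2,2,1,3,0,2,4,3,3,4,2,1,3,0,2,4,2,2,4,3,1,2,0,3,3,1,2,0,3,4,2,4,3,1,2,0,3,4,2,2,4,3,1,2,0,3,3,1,2,0,3,4,2,4,3,1,2,0,3,3,1,2,0,3,4,2,2,4,3,1,2,0,3,3,1,2,0,3,4,2,4,3,1,2,0,3,4,2,2,4,3,1,2,0,3,3,1,2,0,3,4,2,4,3,1,2,0,3,4,2,2,4,3,1,2,0,3,3,1,2,0,3,4,2] (by decide +kernel)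
theorem f940 : F [99,0,10] [358,327,390] := S.mapC (f939 S) [4,3,4,3,4,2,4,3,1,2,0,3,4,2,2,2,4,3,1,2,0,3,4,2,2,4,3,1,2,0,3,3,1,2,0,3,4,2,4,3,1,2,0,3,3,1,2,0,3,3,1,2,0,3,4,2,2,4,3,1,2,0,3,3,1,2,0,3,4,2,4,2,1,3,0,2,2,1,3,0,2,4,3,4,2,1,3,0,2,2,1,3,0,2,4,3,3,4,3,1,2,0,3,4,2,2,4,3,1,2,0,3,3,1,2,0,3,4,2,4,3,1,2,0,3,3,1,2,0,3,3,1,2,0,3,4] (by decide +kernel)
theorem f941 : F [0,99,10] [358,327,390] := S.trans (f918 S) (f940 S)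
theorem f942 : F [0,99,10,1192] [358,327,390,1192] := S.appC (f941 S) 1192 (by decide +kernel)
theorem f963 : F [0,5,65] [38,64] := S.mapC (f907 S) [1,1,1,4,3,0,3,3,1,3,4,2,0,0,0,2,0,2,1,2,1,1,1,4,3,0,3,3,1,3,4,2,0,0,0,2,0,2,1,2,1,1,1,4,3,3,0,3,3,3,1,3,3,3,1,2,0,2,2,4,3,3,1,3,0,2,0,0,0,2,2,2,0,2,1,2,2,2,1,1,1,4,3,3,0,3,1,3,3,3,1,3,0,3,3,4,2,2,1,2,0,2,0,0,0,2,0,2,1,2,0,2,2,1] (by decide +kernel)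
theorem f964 : F [0,5,65,65] [38,64,65] := S.appC (f963 S) 65 (by decide +kernel)
theorem f965 : F [38,64,65] [0,5,65,65] := S.symm (f964 S)
theorem f966 : F [46,332,0,0] [46,332,1] := S.pw0C [46,332] 1 1 (by decide +kernel)
theorem f967 : F [0,5,65,65] [0,5,117] := S.mapC (f966 S) [0,4,2,4,2] (by decide +kernel)
theorem f968 : F [38,64,65] [0,5,117] := S.trans (f965 S) (f967 S)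
theorem f982 : F [0,5,117] [123,252,177] := S.mapC (f794 S) [3,4,2,1,3,0,2,2,1,3,0,2,4,3,3,4,2,1,3,0,2,4,3,4,2,1,3,0,2,2,1,3,0,2,4,3,3,4,2,1,3,0,2,4,3,4,2,1,3,0,2,2,1,3,0,2,4,3,3,4,2,1,3,0,2,4,3,4,2,1,3,0,2,2,1,3,0,2,4,3,3,4,3,1,2,0,3,4,2,2,4,3,1,2,0,3,3,1,2,0,3,4,2,4,2,1,3,0,2,2,1,3,0,2,2,1,3,0,2,4,3,4,2,1,3,0,2,2,1,3,0,2,4,3,3,4,2,1,3,0,2,4,2,2,4,3,1,2,0,3,3,1,2,0,3,4,2,4,2,1,3,0,2,4,3,4,2,1,3,0,2,2,1,3,0,2,4,3,3,4,2,1,3,0,2,4,2,2,4,3,1,2,0,3,3,1,2,0,3,4,2,4,3,1,2,0,3,4,3,4,2,1,3,0,2,2,1,3,0,2,4,3,3,4,2,1,3,0,2,2,1,3,0,2,2,1,3,0,2,4,3,4,2,1,3,0,2,2,1,3,0,2,4,3,3,3,4,2,1,3,0,2,2,1,3,0,2,4,3,3] (by decide +kernel)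
theorem f983 : F [38,64,65] [123,252,177] := S.trans (f968 S) (f982 S)
theorem f984 : F [0,99,461] [655,977,510] := S.mapC (f983 S) [2,0,2,4,3,4,3,1,2,0,3,3,1,2,0,3,4,2,4,3,1,2,0,3,3,1,2,0,3,4,2,4,3,1,2,0,3,3,1,2,0,3,3,1,2,0,3,4,2,2,4,3,1,2,0,3,3,1,2,0,3,4,2,4,3,1,2,0,3,3,1,2,0,3,3,1,2,0,3,4,2,2,4,3,1,2,0,3,3,1,2,0,3,4,2,4,2,1,3,0,2,2,1,3,0,2,4,3,4,2,1,3,0,2,2,1,3,0,2,4,3,3,4,3,1,2,0,3,4,2,2,4,3,1,2,0,3,3,1,2,0,3,4,2,4,3,1,2,0,3,3,1,2,0,3,3,1,2,0,3,4,3,4,2,1,3,0,2,2,1,3,0,2,4,3,3,4,2,1,3,0,2,4,2,2,4,3,1,2,0,3,3,1,2,0,3,4,2,4,3,1,2,0,3,4,2,2,4,3,1,2,0,3,3,1,2,0,3,4,2,4,3,1,2,0,3,3,1,2,0,3,4,2,2,4,3,1,2,0,3,3,1,2,0,3,4,2,4,3,1,2,0,3,4,2,2,4,3,1,2,0,3,3,1,2,0,3,4,2,4,3,1,2,0,3,4,2,2,4,3,1,2,0,3,3,1,2,0,3,4,2] (by decide +kernel)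
theorem f985 : F [0,99,9] [559,124,75] := S.mapC (f984 S) [2,2,4,3,1,2,0,3,4,2,2,2,4,3,1,2,0,3,4,2,2,4,3,1,2,0,3,3,1,2,0,3,4,2,4,3,1,2,0,3,4,2,2,4,3,1,2,0,3,3,1,2,0,3,4,2,2,2,4,3,1,2,0,3,3,1,2,0,3,4,2,4,3,1,2,0,3,4,3,4,2,1,3,0,2,2,1,3,0,2,4,3,3,4,2,1,3,0,2,4,2,2,4,3,1,2,0,3,3,1,2,0,3,4,2,4,3,1,2,0,3,4,2,2,4,3,1,2,0,3,3,1,2,0,3,4,2,4,2,1,3,0,2,2,1,3,0,2,4,3,4,2,1,3,0,2,2,1,3,0,2,4,3,3,4,3,1,2,0,3,4,2,2,4,3,1,2,0,3,3,1,2,0,3,4,2,4,3,1,2,0,3,3,1,2,0,3,3,1,2,0,3,3,1,2,0,3,4,2,2,4,3,1,2,0,3,3,1,2,0,3,4,2,4,3,1,2,0,3,4,2,2,4,3,1,2,0,3,3,1,2,0,3,4,2] (by decide +kernel)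
theorem f986 : F [0,99,9,279] [559,124,75,279] := S.appC (f985 S) 279 (by decide +kernel)
theorem f987 : F [559,124,75,279] [0,99,9,279] := S.symm (f986 S)
theorem f988 : F [59,361,0,3] [124,652,4] := S.rel0C [59,361] (by decide +kernel)
theorem f989 : F [0,99,9,279] [130,80,3] := S.mapC (f988 S) [1,3,3,1,2,4] (by decide +kernel)
theorem f990 : F [559,124,75,279] [130,80,3] := S.trans (f987 S) (f989 S)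
theorem f1001 : F [57,380,0,3] [122,679,4] := S.rel0C [57,380] (by decide +kernel)
theorem f1002 : F [0,99,7,260] [29,1179,22] := S.mapC (f1001 S) [1,3,0,3,4,2] (by decide +kernel)
theorem f1003 : F [29,1179,22] [0,99,7,260] := S.symm (f1002 S)
theorem f1005 : F [99,0] [0,99] := S.mapC (f911 S) [3,4,2,1,3,0,2,2,1,3,0,2,4,3,3,4,2,1,3,0,2,4,3,4,2,1,3,0,2,2,1,3,0,2,4,3,3,4,2,1,3,0,2,4,3,4,2,1,3,0,2,2,1,3,0,2,4,3,3,4,2,1,3,0,2,4,3,4,2,1,3,0,2,2,1,3,0,2,4,3,3,3,4,2,1,3,0,2,2,1,3,0,2,4,3,3,4,3,1,2,0,3,4,2,2,4,3,1,2,0,3,3,1,2,0,3,4,2,4,2,1,3,0,2,2,1,3,0,2,2,1,3,0,2,4,3,4,2,1,3,0,2,2,1,3,0,2,4,3,3,4,2,1,3,0,2,4,2,2,4,3,1,2,0,3,3,1,2,0,3,4,2,4,3,1,2,0,3,4,3,4,2,1,3,0,2,2,1,3,0,2,4,3,3,4,2,1,3,0,2,2,1,3,0,2,2,1,3,0,2,4,2,4,2,1,3,0,2,4,2,4,2,1,3,0,2,2,1,3,0,2,4,2]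 (by decide +kernel)
theorem f1006 : F [0,99] [99,0] := S.mapC (f1005 S) [4,3,4,3,3,1,2,0,3,4,3,3,4,3,1,2,0,3,4,2,2,4,3,1,2,0,3,3,1,2,0,3,4,2,2,2,4,3,1,2,0,3,3,1,2,0,3,4,2,4,2,1,3,0,2,4,3,4,2,1,3,0,2,2,1,3,0,2,4,3,3,4,3,1,2,0,3,4,2,2,4,3,1,2,0,3,3,1,2,0,3,4,2,4,3,1,2,0,3,3,1,2,0,3,3,1,2,0,3,3,1,2,0,3,3,1,2,0,3,4,2,2,4,3,1,2,0,3,3,1,2,0,3,4,2,4,3,1,2,0,3,3,1,2,0,3,4,2,2,4,3,1,2,0,3,3,1,2,0,3,4,2,4,2,1,3,0,2,2,1,3,0,2,4,3,4,2,1,3,0,2,2,1,3,0,2,4,3,3,4,3,1,2,0,3,4,2,2,4,3,1,2,0,3,3,1,2,0,3,4,2,4,3,1,2,0,3,3,1,2,0,3,3,1,2,0,3,4] (by decide +kernel)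
theorem f1007 : F [99,0] [0,99] := S.symm (f1006 S)
theorem f1008 : F [0,99] [99,0] := S.symm (f1007 S)
theorem f1009 : F [0,99,7] [99,0,7] := S.appC (f1008 S) 7 (by decide +kernel)
theorem f1011 : F [246,0,3] [202,4] := S.rel0C [246] (by decide +kernel)
theorem f1012 : F [0,99,84] [421,252] := S.mapC (f1011 S) [3,4,2,4,2,4] (by decide +kernel)
theorem f1028 : F [99,0,7] [236,4] := S.mapC (f1012 S) [4,3,4,3,3,1,2,0,3,4,3,3,4,3,1,2,0,3,4,2,2,4,3,1,2,0,3,3,1,2,0,3,4,2,2,2,4,3,1,2,0,3,3,1,2,0,3,4,2,4,2,1,3,0,2,4,3,4,2,1,3,0,2,2,1,3,0,2,4,3,3,4,3,1,2,0,3,4,2,2,4,3,1,2,0,3,3,1,2,0,3,4,2,4,3,1,2,0,3,3,1,2,0,3,3,1,2,0,3,3,1,2,0,3,3,1,2,0,3,4,2,2,4,3,1,2,0,3,3,1,2,0,3,4,2,4,3,1,2,0,3,3,1,2,0,3,4,2,2,4,3,1,2,0,3,3,1,2,0,3,4,2,4,2,1,3,0,2,2,1,3,0,2,4,3,4,2,1,3,0,2,2,1,3,0,2,4,3,3,4,3,1,2,0,3,4,2,2,4,3,1,2,0,3,3,1,2,0,3,4,2,4,3,1,2,0,3,3,1,2,0,3,3,1,2,0,3,4]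 (by decide +kernel)
theorem f1029 : F [0,99,7] [236,4] := S.trans (f1009 S) (f1028 S)
theorem f1030 : F [0,99,7,260] [236,4,260] := S.appC (f1029 S) 260 (by decide +kernel)
theorem f1033 : F [54,2] [0,27] := S.mapC (f562 S) [3,4,2,1,3,0,2,2,1,3,0,2,4,3,3,4,2,1,3,0,2,4,3,4,2,1,3,0,2,2,1,3,0,2,4,3,3,4,2,1,3,0,2,2,1,3,0,2,2,1,3,0,2,2,1,3,0,2,4,3,4,2,1,3,0,2,2,1,3,0,2,4,3,3,4,2,1,3,0,2,4,2,2,4,3,1,2,0,3,3,1,2,0,3,4,2,4,2,1,3,0,2,4,3,4,2,1,3,0,2,2,1,3,0,2,4,3,3,4,2,1,3,0,2,2,1,3,0,2,2,1,3,0,2,2,1,3,0,2,2,1,3,0,2,4,3,4,2,1,3,0,2,4] (by decide +kernel)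
theorem f1034 : F [54,2] [0,27] := S.mapC (f1033 S) [0,3,1,4,2,1,4,0,3,4,0,0,3,3,0,3,1,3,3,3,1,3,0,3,3,4,2,2,1,2,0,2,0,0,0,2,0,2,1,2,0,2,2,1,1,1,1,4,1,1,3,3,3,0,3,1,3,3,3,1,1,1,3,1,2,0,2,2,4,3,3,1,3,0,2,2,2,0,2,2,2,1,2,2,4,0,0,0,4,1,2,4,3,0,4,2,2,0,2,1,2,2] (by decide +kernel)
theorem f1035 : F [54,2] [0,27] := S.mapC (f1034 S) [3,4,2,1,3,0,2,2,1,3,0,2,4,3,3,4,2,1,3,0,2,4,3,4,2,1,3,0,2,2,1,3,0,2,4,3,3,4,2,1,3,0,2,2,1,3,0,2,2,1,3,0,2,2,1,3,0,2,4,3,4,2,1,3,0,2,2,1,3,0,2,4,3,3,4,2,1,3,0,2,4,2,2,4,3,1,2,0,3,3,1,2,0,3,4,2,4,2,1,3,0,2,4,3,4,2,1,3,0,2,2,1,3,0,2,4,3,3,4,2,1,3,0,2,2,1,3,0,2,2,1,3,0,2,2,1,3,0,2,2,1,3,0,2,4,3,4,2,1,3,0,2,4] (by decide +kernel)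
theorem f1037 : F [0,27] [54,2] := S.symm (f1035 S)
theorem f1038 : F [0,27,1108] [54,2,1108] := S.appC (f1037 S) 1108 (by decide +kernel)
theorem f1040 : F [236,4,260] [2,327,260] := S.mapC (f1038 S) [4,2,1,3,0,2,2,1,3,0,2,2,1,3,0,2,4,3,4,2,1,3,0,2,2,1,3,0,2,4,3,3,4,2,1,3,0,2,4,2,2,4,3,1,2,0,3,3,1,2,0,3,4,2,4,3,1,2,0,3,3,1,2,0,3,4,3,4,2,1,3,0,2,2,1,3,0,2,4,3,3,4,2,1,3,0,2,2,1,3,0,2,2,1,3,0,2,2,1,3,0,2,2,1,3,0,2,4,3,4,2,1,3,0,2,2,1,3,0,2,4,3,3,4,2,1,3,0,2,4,2,2,4,3,1,2,0,3,3,1,2,0,3,4,2,4,3,1,2,0,3,4,3,4,2,1,3,0,2,2,1,3,0,2,4,3,3,4,2,1,3,0,2,4,3,4,2,1,3,0,2,2,1,3,0,2,4,3,3,4,2,1,3,0,2,4,3,3,4,2,1,3,0,4,2,2,1] (by decide +kernel)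
theorem f1041 : F [0,99,7,260] [2,327,260] := S.trans (f1030 S) (f1040 S)
theorem f1042 : F [29,1179,22] [2,327,260] := S.trans (f1003 S) (f1041 S)
theorem f1043 : F [0,99,266] [19,965,7] := S.mapC (f1042 S) [3,4,2,1,2,0,4,1,3,0,3,4,2] (by decide +kernel)
theorem f1044 : F [0,99,274] [5,259,127] := S.mapC (f1043 S) [3,4,2,1,3,0,2,2,1,3,0,2,4,3,3,4,2,1,3,0,2,4,3,4,2,1,3,0,2,2,1,3,0,2,4,3,3,4,2,1,3,0,2,2,1,3,0,2,2,1,3,0,2,2,1,3,0,2,4,3,4,2,1,3,0,2,2,1,3,0,2,4,3,3,4,2,1,3,0,2,4,2,2,4,3,1,2,0,3,3,1,2,0,3,4,2,4,3,1,2,0,3,3,1,2,0,3,4,3,4,2,1,3,0,2,2,1,3,0,2,4,3,3,4,2,1,3,0,2,2,1,3,0,2,2,1,3,0,2,2,1,3,0,2,4,3,4,2,1,3,0,2,2,1,3,0,2,4,3,4,2,1,3,0,2,4,2,4,2,1,3,0,2,2,1,3,0,2,4] (by decide +kernel)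
theorem f1045 : F [130,80,3] [187,65,4] := S.mapC (f1044 S) [4,3,0,2,2,0,4,1,3,3,1,2,4] (by decide +kernel)
theorem f1046 : F [559,124,75,279] [187,65,4] := S.trans (f990 S) (f1045 S)
theorem f1047 : F [0,5,7,26] [16,110,62] := S.mapC (f1046 S) [4,3,3,4,2,2,4,1,3,4,3,1,2,0,3,3,1,2,0,3,3,1,2,0,3,4,2,2,2,4,3,1,2,0,3,3,1,2,0,3,3,1,2,0,3,4,2,2,4,3,1,2,0,3,3,1,2,0,3,4,2,4,3,1,2,0,3,3,1,2,0,3,4,2,2,4,3,1,2,0,3,3,1,2,0,3,4,2,4,3,1,2,0,3,4,2,2,4,3,1,2,0,3,3,1,2,0,3,4,2,4,2,1,3,0,2,2,1,3,0,2,4,3,4,2,1,3,0,2,2,1,3,0,2,4,3,3,4,3,1,2,0,3,4,2,2,4,3,1,2,0,3,3,1,2,0,3,4,2,4,3,1,2,0,3,3,1,2,0,3,3,1,2,0,3,3,1,2,0,3,4,2,2,4,3,1,2,0,3,3,1,2,0,3,4,2,4,3,1,2,0,3,4,2,2,4,3,1,2,0,3,3,1,2,0,3,4,2] (by decide +kernel)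
theorem f1048 : F [0,5,7,508] [359,110,265] := S.mapC (f1047 S) [4,3,1,2,0,3,4,3,4,2,1,3,0,2,2,1,3,0,2,4,3,3,4,2,1,3,0,2,4,3,4,2,1,3,0,2,2,1,3,0,2,4,3,3,4,2,1,3,0,2,4,3,4,2,1,3,0,2,2,1,3,0,2,4,3,3,3,4,2,1,3,0,2,2,1,3,0,2,4,3,3,4,3,1,2,0,3,4,2,2,4,3,1,2,0,3,3,1,2,0,3,4,2] (by decide +kernel)
theorem f1049 : F [358,327,390,1192] [1181,37,667] := S.mapC (f1048 S) [4,2,1,3,0,2,2,1,3,0,2,2,1,3,0,2,4,3,4,2,1,3,0,2,2,1,3,0,2,4,3,3,4,2,1,3,0,2,4,2,2,4,3,1,2,0,3,3,1,2,0,3,4,2,4,3,1,2,0,3,3,1,2,0,3,4,3,4,2,1,3,0,2,2,1,3,0,2,4,3,3,4,2,1,3,0,2,2,1,3,0,2,4,3,4,2,1,3,0,2,2,1,3,0,2,4,3,3,4,2,1,3,0,2,4,3,4,2,1,3,0,2,2,1,3,0,2,4,3,3,4,3,1,2,0,3,4,2,2,4,3,1,2,0,3,3,1,2,0,3,4,2,4,2,1,3,0,2,4,3,4,2,1,3,0,2,2,1,3,0,2,4,3,3,4,2,1,3,0,2,2,1,3,0,2,2,1,3,0,2,4,3,4,2,1,3,0,2,2,1,3,0,2,4,3,3,3,4,2,1,3,0,2,2,1,3,0,2,4,3,4,3,4,2,4,2,0]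 (by decide +kernel)
theorem f1050 : F [0,99,10,1192] [1181,37,667] := S.trans (f942 S) (f1049 S)
theorem f1051 : F [1181,37,667] [0,99,10,1192] := S.symm (f1050 S)
theorem f1052 : F [92,327,0,3] [195,610,4] := S.rel0C [92,327] (by decide +kernel)
theorem f1053 : F [0,99,10,1192] [41,1186,12] := S.mapC (f1052 S) [1,3,3,1,3,1,2,4,2] (by decide +kernel)
theorem f1054 : F [1181,37,667] [41,1186,12] := S.trans (f1051 S) (f1053 S)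
theorem f1064 : F [0,99,1193] [521,1010,61] := S.mapC (f1043 S) [2,4,3,1,2,0,3,4,3,3,4,3,1,2,0,3,3,1,2,0,3,3,1,2,0,3,4,2,2,4,3,1,2,0,3,3,1,2,0,3,4,2,4,3,1,2,0,3,3,1,2,0,3,4,3,4,2,1,3,0,2,2,1,3,0,2,4,3,3,3,4,2,1,3,0,2,2,1,3,0,2,4,3,3,4,2,1,3,0,2,2,1,3,0,2,4,2,4,2,1,3,0,2,2,1,3,0,2,4] (by decide +kernel)
theorem f1065 : F [41,1186,12] [409,315,2] := S.mapC (f1064 S) [3,4,3,0,2,0,2,2,0,4,1,3,3,1,3,1,2,4,2] (by decide +kernel)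
theorem f1066 : F [1181,37,667] [409,315,2] := S.trans (f1054 S) (f1065 S)
theorem f1067 : F [77,233,168] [0,27,21] := S.mapC (f1066 S) [1,2,4,2,2,2,4,2,2,4,3,1,2,0,3,3,1,2,0,3,4,2,2,2,2,2,4,3,1,2,0,3,3,1,2,0,3,4,2,4,3,1,2,0,3,4,2,2,4,3,1,2,0,3,3,1,2,0,3,4,2,4,3,1,2,0,3,4,3,4,2,1,3,0,2,2,1,3,0,2,4,3,3,4,2,1,3,0,2,4,2,2,4,3,1,2,0,3,3,1,2,0,3,4,2,4,3,1,2,0,3,4,2,2,4,3,1,2,0,3,3,1,2,0,3,4,2,4,3,1,2,0,3,4,2,2,4,3,1,2,0,3,3,1,2,0,3,4,2,4,3,1,2,0,3,4,2,2,4,3,1,2,0,3,3,1,2,0,3,4,2] (by decide +kernel)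
theorem f1071 : F [0,99] [99,0] := S.mapC (f911 S) [4,3,4,3,4,3,4,3,1,2,0,3,3,1,2,0,3,4,3,4,3,1,2,0,3,4,3,4,3,1,2,0,3,3,1,2,0,3,4,2,2,4,3,1,2,0,3,3,1,2,0,3,4,2,4,3,1,2,0,3,3,1,2,0,3,3,1,2,0,3,3,1,2,0,3,3,1,2,0,3,4,2,2,4,3,1,2,0,3,3,1,2,0,3,4,2,4,3,1,2,0,3,4,2,2,4,3,1,2,0,3,3,1,2,0,3,4,2,4,3,1,2,0,3,4,2,2,4,3,1,2,0,3,3,1,2,0,3,4,2] (by decide +kernel)
theorem f1072 : F [99,0] [0,99] := S.symm (f1071 S)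
theorem f1073 : F [0,99] [99,0] := S.symm (f1072 S)
theorem f1074 : F [0,99,12] [99,0,12] := S.appC (f1073 S) 12 (by decide +kernel)
theorem f1081 : F [0,5,65] [38,64] := S.mapC (f907 S) [1,1,1,4,3,0,3,3,1,3,4,2,0,0,0,2,0,2,1,2,1,1,1,4,3,0,3,3,1,3,4,2,0,0,0,2,0,2,1,2,1,1,1,4,3,3,0,3,3,3,1,3,3,3,1,2,0,2,2,4,3,3,1,3,0,2,0,0,0,2,2,2,0,2,1,2,2,2,1,1,1,4,3,3,0,3,1,3,3,3,1,3,0,3,3,4,2,2,1,2,0,2,0,0,0,2,0,2,1,2,0,2,2,1] (by decide +kernel)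
theorem f1082 : F [0,5,65,692] [38,64,692] := S.appC (f1081 S) 692 (by decide +kernel)
theorem f1083 : F [38,64,692] [0,5,65,692] := S.symm (f1082 S)
theorem f1084 : F [82,352,0,3] [173,164,4] := S.rel0C [82,352] (by decide +kernel)
theorem f1085 : F [0,5,65,692] [26,123,76] := S.mapC (f1084 S) [3,3,0,4,2,4,2] (by decide +kernel)
theorem f1086 : F [38,64,692] [26,123,76] := S.trans (f1083 S) (f1085 S)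
theorem f1093 : F [0,5,421] [496,2] := S.mapC (f551 S) [0,3,3,1,3,0,3,1,3,1,1,1,3,1,3,0,3,3,4,2,2,1,2,0,2,2,2,0,2,1,2,2,4,0,0,0,3,0,3,1,3,1,1,1,3,4,2,0,2,2,1,2,4,0,0,0,3,0,3,1,3,1,1,1,3,4,2,0,2,2,1,2,4,0,0,0,3,3,3,3,0,3,1,1,1,1,3,1,2,2,0,4,1,3,3,0,2,0,2,1,2,2,2,2,4,0,0,0] (by decide +kernel)
theorem f1094 : F [26,123,76] [36,16] := S.mapC (f1093 S) [3,4,3,4,1,2,2,4,3,3,0,4,2,4,2] (by decide +kernel)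
theorem f1095 : F [38,64,692] [36,16] := S.trans (f1086 S) (f1094 S)
theorem f1096 : F [0,99,321] [4,1000] := S.mapC (f1095 S) [2,0,2,4,3,4,3,1,2,0,3,3,1,2,0,3,4,2,4,3,1,2,0,3,3,1,2,0,3,4,2,4,3,1,2,0,3,3,1,2,0,3,3,1,2,0,3,4,2,2,4,3,1,2,0,3,3,1,2,0,3,4,2,4,3,1,2,0,3,3,1,2,0,3,3,1,2,0,3,4,2,2,4,3,1,2,0,3,3,1,2,0,3,4,2,4,2,1,3,0,2,2,1,3,0,2,4,3,4,2,1,3,0,2,2,1,3,0,2,4,3,3,4,3,1,2,0,3,4,2,2,4,3,1,2,0,3,3,1,2,0,3,4,2,4,3,1,2,0,3,3,1,2,0,3,3,1,2,0,3,4,3,4,2,1,3,0,2,2,1,3,0,2,4,3,3,4,2,1,3,0,2,4,2,2,4,3,1,2,0,3,3,1,2,0,3,4,2,4,3,1,2,0,3,4,2,2,4,3,1,2,0,3,3,1,2,0,3,4,2,4,3,1,2,0,3,3,1,2,0,3,4,2,2,4,3,1,2,0,3,3,1,2,0,3,4,2,4,3,1,2,0,3,4,2,2,4,3,1,2,0,3,3,1,2,0,3,4,2,4,3,1,2,0,3,4,2,2,4,3,1,2,0,3,3,1,2,0,3,4,2] (by decide +kernel)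
theorem f1097 : F [99,0,12] [252,61] := S.mapC (f1096 S) [4,3,4,3,4,3,4,3,1,2,0,3,3,1,2,0,3,4,3,4,3,1,2,0,3,4,3,4,3,1,2,0,3,3,1,2,0,3,4,2,2,4,3,1,2,0,3,3,1,2,0,3,4,2,4,3,1,2,0,3,3,1,2,0,3,3,1,2,0,3,3,1,2,0,3,3,1,2,0,3,4,2,2,4,3,1,2,0,3,3,1,2,0,3,4,2,4,3,1,2,0,3,4,2,2,4,3,1,2,0,3,3,1,2,0,3,4,2,4,3,1,2,0,3,4,2,2,4,3,1,2,0,3,3,1,2,0,3,4,2] (by decide +kernel)
theorem f1098 : F [0,99,12] [252,61] := S.trans (f1074 S) (f1097 S)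
theorem f1099 : F [0,99,12,135] [252,61,135] := S.appC (f1098 S) 135 (by decide +kernel)
theorem f1101 : F [7,151] [0,27] := S.mapC (f187 S) [3,4,2,1,3,0,2,2,1,3,0,2,4,3,3,4,2,1,3,0,2,4,3,4,2,1,3,0,2,2,1,3,0,2,4,3,3,4,2,1,3,0,2,2,1,3,0,2,2,1,3,0,2,2,1,3,0,2,4,3,4,2,1,3,0,2,2,1,3,0,2,4,3,3,4,2,1,3,0,2,4,2,2,4,3,1,2,0,3,3,1,2,0,3,4,2,4,2,1,3,0,2,4,3,4,2,1,3,0,2,2,1,3,0,2,4,3,3,4,2,1,3,0,2,2,1,3,0,2,2,1,3,0,2,2,1,3,0,2,2,1,3,0,2,4,3,4,2,1,3,0,2,4] (by decide +kernel)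
theorem f1102 : F [257,12] [54,2] := S.mapC (f1101 S) [3,4,2,1,3,0,2,2,1,3,0,2,4,3,3,4,2,1,3,0,2,4,3,4,2,1,3,0,2,2,1,3,0,2,4,3,3,4,2,1,3,0,2,4,3,4,2,1,3,0,2,2,1,3,0,2,4,3,3,4,2,1,3,0,2,2,1,3,0,2,4,3,4,2,1,3,0,2,2,1,3,0,2,4,3,3,4,2,1,3,0,2,4,3,4,2,1,3,0,2,2,1,3,0,2,4,3,3,3,4,2,1,3,0,2,2,1,3,0,2,4,3,3,4,3,1,2,0,3,4,2,2,4,3,1,2,0,3,3,1,2,0,3,4,2,4,2,1,3,0,2,2,1,3,0,2,2,1,3,0,2,4,3,4,2,1,3,0,2,2,1,3,0,2,4,3,3,4,2,1,3,0,2,4,3,4,2,1,3,0,2,2,1,3,0,2,2,1,3,0,2,4,3,4,2,1,3,0,2,4,2,1,1,4,2,4] (by decide +kernel)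
theorem f1103 : F [257,12] [0,27] := S.trans (f1102 S) (f562 S)
theorem f1104 : F [257,12] [0,27] := S.mapC (f1103 S) [0,3,1,4,2,1,4,0,3,4,0,0,3,3,0,3,1,3,3,3,1,3,0,3,3,4,2,2,1,2,0,2,0,0,0,2,0,2,1,2,0,2,2,1,1,1,1,4,1,1,3,3,3,0,3,1,3,3,3,1,1,1,3,1,2,0,2,2,4,3,3,1,3,0,2,2,2,0,2,2,2,1,2,2,4,0,0,0,4,1,2,4,3,0,4,2,2,0,2,1,2,2] (by decide +kernel)
theorem f1105 : F [257,12] [0,27] := S.mapC (f1104 S) [0,3,1,4,2,1,4,0,3,4,0,0,3,3,0,3,1,3,3,3,1,3,0,3,3,4,2,2,1,2,0,2,0,0,0,2,0,2,1,2,0,2,2,1,1,1,1,4,1,1,3,3,3,0,3,1,3,3,3,1,1,1,3,1,2,0,2,2,4,3,3,1,3,0,2,2,2,0,2,2,2,1,2,2,4,0,0,0,4,1,2,4,3,0,4,2,2,0,2,1,2,2] (by decide +kernel)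
theorem f1106 : F [257,12] [0,27] := S.mapC (f1105 S) [0,3,1,4,2,1,4,0,3,4,0,0,3,3,0,3,1,3,3,3,1,3,0,3,3,4,2,2,1,2,0,2,0,0,0,2,0,2,1,2,0,2,2,1,1,1,1,4,1,1,3,3,3,0,3,1,3,3,3,1,1,1,3,1,2,0,2,2,4,3,3,1,3,0,2,2,2,0,2,2,2,1,2,2,4,0,0,0,4,1,2,4,3,0,4,2,2,0,2,1,2,2] (by decide +kernel)
theorem f1108 : F [0,27] [257,12] := S.symm (f1106 S)
theorem f1109 : F [0,27,654] [257,12,654] := S.appC (f1108 S) 654 (by decide +kernel)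
theorem f1111 : F [252,61,135] [236,27,135] := S.mapC (f1109 S) [3,4,2,1,3,0,2,2,1,3,0,2,4,3,3,4,2,1,3,0,2,2,1,3,0,2,4,3,4,2,1,3,0,2,2,1,3,0,2,4,3,3,4,2,1,3,0,2,4,3,4,2,1,3,0,2,2,1,3,0,2,4,3,4,2,1,3,0,2,4,3,3,1,1,4,2,4,2,4] (by decide +kernel)
theorem f1112 : F [0,99,12,135] [236,27,135] := S.trans (f1099 S) (f1111 S)
theorem f1113 : F [236,27,135] [0,99,12,135] := S.symm (f1112 S)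
theorem f1114 : F [48,109,0,3] [105,238,4] := S.rel0C [48,109] (by decide +kernel)
theorem f1115 : F [0,99,12,135] [386,1274,10] := S.mapC (f1114 S) [1,2,2,4,2] (by decide +kernel)
theorem f1116 : F [236,27,135] [386,1274,10] := S.trans (f1113 S) (f1115 S)
theorem f1126 : F [0,99,157] [386,1291,42] := S.mapC (f1043 S) [3,4,2,1,3,0,2,2,1,3,0,2,4,3,3,4,2,1,3,0,2,4,3,4,2,1,3,0,2,2,1,3,0,2,4,3,3,4,2,1,3,0,2,2,1,3,0,2,2,1,3,0,2,2,1,3,0,2,4,3,4,2,1,3,0,2,2,1,3,0,2,4,3,3,4,2,1,3,0,2,4,2,2,4,3,1,2,0,3,3,1,2,0,3,4,2,4,3,1,2,0,3,3,1,2,0,3,4,3,4,2,1,3,0,2,2,1,3,0,2,4,3,3,4,2,1,3,0,2,2,1,3,0,2,4,3,4,2,1,3,0,2,2,1,3,0,2,4,3,3,4,2,1,3,0,2,4,3,4,2,1,3,0,2,2,1,3,0,2,4,3,3,4,3,1,2,0,3,4,3,4,2,1,3,0,2,2,1,3,0,2,4,3,3,4,2,1,3,0,2,4,3,4,2,1,3,0,2,2,1,3,0,2,4,3,3,3,3,3,4,2,1,3,0,2,2,1,3,0,2,4,2,2,4,2,1,3,0,2,4]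 (by decide +kernel)
theorem f1127 : F [386,1274,10] [0,73,250] := S.mapC (f1126 S) [3,4,3,3,0,4,1,2,2,4,2] (by decide +kernel)
theorem f1128 : F [236,27,135] [0,73,250] := S.trans (f1116 S) (f1127 S)
theorem f1129 : F [727,1274,914] [0,27,21] := S.mapC (f1128 S) [2,4,3,1,2,0,3,4,3,3,4,3,1,2,0,3,4,2,2,4,3,1,2,0,3,3,1,2,0,3,4,2,2,2,4,3,1,2,0,3,3,1,2,0,3,4,2,4,3,1,2,0,3,4,3,4,2,1,3,0,2,2,1,3,0,2,4,3,3,4,2,1,3,0,2,4,2,2,4,3,1,2,0,3,3,1,2,0,3,4,2,4,3,1,2,0,3,4,2,2,4,3,1,2,0,3,3,1,2,0,3,4,2,4,3,1,2,0,3,3,1,2,0,3,4,2,2,4,3,1,2,0,3,3,1,2,0,3,4,2] (by decide +kernel)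
theorem f1137 : F [0,5,44] [116,99,32] := S.mapC (f794 S) [4,3,1,2,0,3,4,2,2,4,3,1,2,0,3,3,1,2,0,3,4,2,4,3,1,2,0,3,4,2,2,4,3,1,2,0,3,3,1,2,0,3,4,2,4,3,1,2,0,3,4,3,4,2,1,3,0,2,2,1,3,0,2,4,3,3,4,2,1,3,0,2,4,2,2,4,3,1,2,0,3,3,1,2,0,3,4,2,2,2,4,3,1,2,0,3,3,1,2,0,3,4,2,4,3,1,2,0,3,4,2,2,4,3,1,2,0,3,3,1,2,0,3,4,2,4,3,1,2,0,3,3,1,2,0,3,4,2,2,4,3,1,2,0,3,3,1,2,0,3,4,2] (by decide +kernel)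
theorem f1138 : F [0,5,44,160] [116,99,32,160] := S.appC (f1137 S) 160 (by decide +kernel)
theorem f1139 : F [116,99,32,160] [0,5,44,160] := S.symm (f1138 S)
theorem f1140 : F [275,530,0,3] [530,275,4] := S.rel0C [275,530] (by decide +kernel)
theorem f1141 : F [0,5,44,160] [5,0,117] := S.mapC (f1140 S) [3,3,3,1,2,1,2,2,1,2,1,4,2,4,2] (by decide +kernel)
theorem f1142 : F [116,99,32,160] [5,0,117] := S.trans (f1139 S) (f1141 S)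
theorem f1151 : F [6,4] [0,5] := S.mapC (f148 S) [0,3,3,1,3,0,3,1,3,1,1,1,3,1,3,0,3,3,4,2,2,1,2,0,2,2,2,0,2,1,2,2,4,0,0,0] (by decide +kernel)
theorem f1152 : F [6,4] [0,5] := S.mapC (f1151 S) [0,3,3,1,3,0,3,1,3,1,1,1,3,1,3,0,3,3,4,2,2,1,2,0,2,2,2,0,2,1,2,2,4,0,0,0] (by decide +kernel)
theorem f1155 : F [0,5] [6,4] := S.symm (f1152 S)
theorem f1156 : F [0,5,140] [6,4,140] := S.appC (f1155 S) 140 (by decide +kernel)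
theorem f1157 : F [6,4,140] [173,76,125] := S.mapC (f794 S) [3,4,2,1,3,0,2,2,1,3,0,2,4,3,3,4,2,1,3,0,2,4,3,4,2,1,3,0,2,2,1,3,0,2,4,3,3,4,2,1,3,0,2,4,3,4,2,1,3,0,2,2,1,3,0,2,4,3,3,4,2,1,3,0,2,4,3,4,2,1,3,0,2,2,1,3,0,2,4,3,3,4,3,1,2,0,3,4,2,2,4,3,1,2,0,3,3,1,2,0,3,4,2,4,2,1,3,0,2,2,1,3,0,2,2,1,3,0,2,4,3,4,2,1,3,0,2,2,1,3,0,2,4,3,3,4,2,1,3,0,2,4,2,2,4,3,1,2,0,3,3,1,2,0,3,4,2,4,2,1,3,0,2,4,3,4,2,1,3,0,2,2,1,3,0,2,4,3,3,4,2,1,3,0,2,4,2,2,4,3,1,2,0,3,3,1,2,0,3,4,2,4,3,1,2,0,3,4,3,4,2,1,3,0,2,2,1,3,0,2,4,3,3,4,2,1,3,0,2,4,3,4,2,1,3,0,2,2,1,3,0,2,4,3,3,3,4,2,1,3,0,2,2,1,3,0,2,4,3,3,1,4] (by decide +kernel)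
theorem f1158 : F [0,5,140] [173,76,125] := S.trans (f1156 S) (f1157 S)
theorem f1159 : F [5,0,117] [43,252,26] := S.mapC (f1158 S) [3,4,3,4,0,3,0,3,3,0,3,0,2,2,2,4,3,3,3,1,2,1,2,2,1,2,1,4,2,4,2] (by decide +kernel)
theorem f1160 : F [116,99,32,160] [43,252,26] := S.trans (f1142 S) (f1159 S)
theorem f1161 : F [0,5,7,3] [4,6,22] := S.mapC (f1160 S) [4,3,3,4,0,0,3,4,3,1,2,0,3,3,1,2,0,3,4,2,2,2,4,3,1,2,0,3,4,2,2,4,3,1,2,0,3,3,1,2,0,3,4,2,2,2,4,3,1,2,0,3,3,1,2,0,3,4,2,4,3,1,2,0,3,3,1,2,0,3,4,2,2,4,3,1,2,0,3,3,1,2,0,3,4,2,4,3,1,2,0,3,3,1,2,0,3,4,2,2,4,3,1,2,0,3,3,1,2,0,3,4,2,4,2,1,3,0,2,2,1,3,0,2,4,3,4,2,1,3,0,2,2,1,3,0,2,4,3,3,4,3,1,2,0,3,4,2,2,4,3,1,2,0,3,3,1,2,0,3,4,2,4,3,1,2,0,3,3,1,2,0,3,3,1,2,0,3,4,3,4,2,1,3,0,2,2,1,3,0,2,4,3,3,4,2,1,3,0,2,4,2,2,4,3,1,2,0,3,3,1,2,0,3,4,2,4,3,1,2,0,3,4,2,2,4,3,1,2,0,3,3,1,2,0,3,4,2,4,3,1,2,0,3,3,1,2,0,3,4,2,2,4,3,1,2,0,3,3,1,2,0,3,4,2]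 (by decide +kernel)
theorem f1162 : F [0,5,7,3,58] [4,6,22,58] := S.appC (f1161 S) 58 (by decide +kernel)
theorem f1164 : F [257,79,54] [0,5,7] := S.mapC (f450 S) [3,4,2,1,3,0,2,2,1,3,0,2,4,3,3,4,2,1,3,0,2,4,3,4,2,1,3,0,2,2,1,3,0,2,4,3,3,4,2,1,3,0,2,4,3,4,2,1,3,0,2,2,1,3,0,2,4,3,3,4,2,1,3,0,2,2,1,3,0,2,4,3,4,2,1,3,0,2,2,1,3,0,2,4,3,3,4,2,1,3,0,2,4,3,4,2,1,3,0,2,2,1,3,0,2,4,3,3,3,4,2,1,3,0,2,2,1,3,0,2,4,3,3,4,3,1,2,0,3,4,2,2,4,3,1,2,0,3,3,1,2,0,3,4,2] (by decide +kernel)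
theorem f1166 : F [0,5,7] [257,79,54] := S.symm (f1164 S)
theorem f1167 : F [0,5,7,807] [257,79,54,807] := S.appC (f1166 S) 807 (by decide +kernel)
theorem f1168 : F [0,5,7,24] [0,5,7,24] := S.refl [0,5,7,24] (by decide +kernel)
theorem f1170 : F [4,6,22,58] [110,72,17,58] := S.mapC (f1167 S) [4,2,1,3,0,2,2,1,3,0,2,2,1,3,0,2,4,3,4,2,1,3,0,2,2,1,3,0,2,4,3,3,4,2,1,3,0,2,4,2,2,4,3,1,2,0,3,3,1,2,0,3,4,2,4,3,1,2,0,3,3,1,2,0,3,4,3,4,2,1,3,0,2,2,1,3,0,2,4,3,3,4,2,1,3,0,2,2,1,3,0,2,4,3,4,2,1,3,0,2,2,1,3,0,2,4,3,3,4,2,1,3,0,2,4,3,4,2,1,3,0,2,2,1,3,0,2,4,3,3,4,3,1,2,0,3,4,2,2,4,3,1,2,0,3,3,1,2,0,3,4,2,1,1] (by decide +kernel)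
theorem f1171 : F [0,5,7,3,58] [110,72,17,58] := S.trans (f1162 S) (f1170 S)
theorem f1172 : F [110,72,17,58] [0,5,7,3,58] := S.symm (f1171 S)
theorem f1173 : F [28,1,21,0,3] [67,5,8,4] := S.rel0C [28,1,21] (by decide +kernel)
theorem f1174 : F [0,5,7,3,58] [110,39,17,9] := S.mapC (f1173 S) [1,2,0,4] (by decide +kernel)
theorem f1175 : F [110,72,17,58] [110,39,17,9] := S.trans (f1172 S) (f1174 S)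
theorem f1178 : F [0,5,7] [22,79,4] := S.symm (f703 S)
theorem f1179 : F [0,5,7,60] [22,79,4,60] := S.appC (f1178 S) 60 (by decide +kernel)
theorem f1181 : F [110,39,17,9] [54,14,257,9] := S.mapC (f1179 S) [4,1,3,0,4,1,2,0,4] (by decide +kernel)
theorem f1182 : F [110,72,17,58] [54,14,257,9] := S.trans (f1175 S) (f1181 S)
theorem f1183 : F [22,37,4,120] [0,5,7,24] := S.mapC (f1182 S) [4,1,3,0,4,1,2,0,4,3,4,0,0,2] (by decide +kernel)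
theorem f1184 : F [0,5,7,3,1103] [4,6,22,1103] := S.appC (f1161 S) 1103 (by decide +kernel)

end Cfsg.Agent.Lib.TC.D.HND.Fa
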