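import Cfsg.Agent.Lib.TC.D.HND.Sys
import Cfsg.Agent.Lib.TC.D.HND.F1

namespace Cfsg.Agent.Lib.TC.D.HND.Fa

open Cfsg.Agent.Lib.TC.D.HND.Sys

set_option maxRecDepth 100000

variable {F : List Nat → List Nat → Prop} (S : Sys F)

include S

theorem f1186 : F [257,79,54] [0,5,7] := S.mapC (f450 S) [3,4,2,1,3,0,2,2,1,3,0,2,4,3,3,4,2,1,3,0,2,4,3,4,2,1,3,0,2,2,1,3,0,2,4,3,3,4,2,1,3,0,2,4,3,4,2,1,3,0,2,2,1,3,0,2,4,3,3,4,2,1,3,0,2,2,1,3,0,2,4,3,4,2,1,3,0,2,2,1,3,0,2,4,3,3,4,2,1,3,0,2,4,3,4,2,1,3,0,2,2,1,3,0,2,4,3,3,3,4,2,1,3,0,2,2,1,3,0,2,4,3,3,4,3,1,2,0,3,4,2,2,4,3,1,2,0,3,3,1,2,0,3,4,2] (by decide +kernel)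
theorem f1187 : F [257,79,54] [0,5,7] := S.mapC (f1186 S) [3,4,2,1,3,0,2,2,1,3,0,2,4,3,3,4,2,1,3,0,2,4,3,4,2,1,3,0,2,2,1,3,0,2,4,3,3,4,2,1,3,0,2,4,3,4,2,1,3,0,2,2,1,3,0,2,4,3,3,4,2,1,3,0,2,2,1,3,0,2,4,3,4,2,1,3,0,2,2,1,3,0,2,4,3,3,4,2,1,3,0,2,4,3,4,2,1,3,0,2,2,1,3,0,2,4,3,3,3,4,2,1,3,0,2,2,1,3,0,2,4,3,3,4,3,1,2,0,3,4,2,2,4,3,1,2,0,3,3,1,2,0,3,4,2] (by decide +kernel)
theorem f1189 : F [0,5,7] [257,79,54] := S.symm (f1187 S)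
theorem f1190 : F [0,5,7,1371] [257,79,54,1371] := S.appC (f1189 S) 1371 (by decide +kernel)
theorem f1192 : F [4,6,22,1103] [110,72,17,1103] := S.mapC (f1190 S) [4,2,1,3,0,2,2,1,3,0,2,2,1,3,0,2,4,3,4,2,1,3,0,2,2,1,3,0,2,4,3,3,4,2,1,3,0,2,4,2,2,4,3,1,2,0,3,3,1,2,0,3,4,2,4,3,1,2,0,3,3,1,2,0,3,4,3,4,2,1,3,0,2,2,1,3,0,2,4,3,3,4,2,1,3,0,2,2,1,3,0,2,4,3,4,2,1,3,0,2,2,1,3,0,2,4,3,3,4,2,1,3,0,2,4,3,4,2,1,3,0,2,2,1,3,0,2,4,3,3,4,3,1,2,0,3,4,2,2,4,3,1,2,0,3,3,1,2,0,3,4,2,1,1] (by decide +kernel)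
theorem f1193 : F [0,5,7,3,1103] [110,72,17,1103] := S.trans (f1184 S) (f1192 S)
theorem f1194 : F [110,72,17,1103] [0,5,7,3,1103] := S.symm (f1193 S)
theorem f1195 : F [16,1,525,0,3] [43,5,272,4] := S.rel0C [16,1,525] (by decide +kernel)
theorem f1196 : F [0,5,7,3,1103] [110,1271,17,9] := S.mapC (f1195 S) [3,3,3,1,2,0,3,4] (by decide +kernel)
theorem f1197 : F [110,72,17,1103] [110,1271,17,9] := S.trans (f1194 S) (f1196 S)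
theorem f1202 : F [0,5,7] [257,79,54] := S.symm (f450 S)
theorem f1203 : F [0,5,7,1099] [257,79,54,1099] := S.appC (f1202 S) 1099 (by decide +kernel)
theorem f1205 : F [110,1271,17,9] [4,901,22,9] := S.mapC (f1203 S) [4,2,1,3,0,2,2,2,4,3,3,3,1,2,0,3,4] (by decide +kernel)
theorem f1206 : F [110,72,17,1103] [4,901,22,9] := S.trans (f1197 S) (f1205 S)
theorem f1207 : F [257,37,54,120] [0,5,7,24] := S.mapC (f1206 S) [0,0,3,4,3,1,2,0,3,3,1,2,0,3,4,3,4,3,1,2,0,3,3,1,2,0,3,3,1,2,0,3,4,2,2,4,3,1,2,0,3,3,1,2,0,3,4,2,4,3,1,2,0,3,3,1,2,0,3,3,1,2,0,3,3,1,2,0,3,4,2,2,4,3,1,2,0,3,3,1,2,0,3,4,2,4,3,1,2,0,3,3,1,2,0,3,4,2,2,4,3,1,2,0,3,3,1,2,0,3,4,2,4,2,1,3,0,2,2,1,3,0,2,4,3,4,2,1,3,0,2,2,1,3,0,2,4,3,3,4,3,1,2,0,3,4,2,2,4,3,1,2,0,3,3,1,2,0,3,4,2,4,3,1,2,0,3,3,1,2,0,3,3,1,2,0,3,3,1,2,0,3,4,2,2,4,3,1,2,0,3,3,1,2,0,3,4,2,4,3,1,2,0,3,4,2,2,4,3,1,2,0,3,3,1,2,0,3,4,2]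 (by decide +kernel)
theorem f1208 : F [0,5,7,3,1332] [4,6,22,1332] := S.appC (f1161 S) 1332 (by decide +kernel)
theorem f1211 : F [0,5,7] [257,79,54] := S.symm (f450 S)
theorem f1212 : F [0,5,7,1331] [257,79,54,1331] := S.appC (f1211 S) 1331 (by decide +kernel)
theorem f1214 : F [4,6,22,1332] [110,72,17,1332] := S.mapC (f1212 S) [4,2,1,3,0,2,2,1,3,0,2,2,1,3,0,2,4,3,4,2,1,3,0,2,2,1,3,0,2,4,3,3,4,2,1,3,0,2,4,2,2,4,3,1,2,0,3,3,1,2,0,3,4,2,4,3,1,2,0,3,3,1,2,0,3,4,3,4,2,1,3,0,2,2,1,3,0,2,4,3,3,4,2,1,3,0,2,2,1,3,0,2,4,3,4,2,1,3,0,2,2,1,3,0,2,4,3,3,4,2,1,3,0,2,4,3,4,2,1,3,0,2,2,1,3,0,2,4,3,3,4,3,1,2,0,3,4,2,2,4,3,1,2,0,3,3,1,2,0,3,4,2,1,1] (by decide +kernel)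
theorem f1215 : F [0,5,7,3,1332] [110,72,17,1332] := S.trans (f1208 S) (f1214 S)
theorem f1216 : F [110,72,17,1332] [0,5,7,3,1332] := S.symm (f1215 S)
theorem f1217 : F [7,1,58,0,3] [17,5,24,4] := S.rel0C [7,1,58] (by decide +kernel)
theorem f1218 : F [0,5,7,3,1332] [110,1203,17,9] := S.mapC (f1217 S) [1,3,3,1,3,1,3,1,4] (by decide +kernel)
theorem f1219 : F [110,72,17,1332] [110,1203,17,9] := S.trans (f1216 S) (f1218 S)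
theorem f1222 : F [0,5,7] [257,79,54] := S.symm (f450 S)
theorem f1223 : F [0,5,7,1331] [257,79,54,1331] := S.appC (f1222 S) 1331 (by decide +kernel)
theorem f1225 : F [110,1203,17,9] [4,806,22,9] := S.mapC (f1223 S) [4,0,2,0,2,0,2,2,0,4,1,3,3,1,3,1,3,1,4] (by decide +kernel)
theorem f1226 : F [110,72,17,1332] [4,806,22,9] := S.trans (f1219 S) (f1225 S)
theorem f1227 : F [257,37,54,120] [0,5,7,24] := S.mapC (f1226 S) [0,0,2,4,3,1,2,0,3,4,3,3,4,3,1,2,0,3,4,3,4,3,1,2,0,3,3,1,2,0,3,3,1,2,0,3,4,2,2,4,3,1,2,0,3,3,1,2,0,3,4,2,4,3,1,2,0,3,4,3,4,2,1,3,0,2,2,1,3,0,2,4,3,3,4,3,1,2,0,3,4,2,2,4,3,1,2,0,3,3,1,2,0,3,4,2,4,3,1,2,0,3,3,1,2,0,3,3,1,2,0,3,3,1,2,0,3,4,2,2,4,3,1,2,0,3,3,1,2,0,3,4,2,4,3,1,2,0,3,4,2,2,4,3,1,2,0,3,3,1,2,0,3,4,2] (by decide +kernel)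
theorem f1229 : F [0,5,7] [22,79,4] := S.mapC (f703 S) [3,4,0,0,2] (by decide +kernel)
theorem f1230 : F [22,79,4] [0,5,7] := S.symm (f1229 S)
theorem f1231 : F [0,5,7] [22,79,4] := S.symm (f1230 S)
theorem f1232 : F [0,5,7,4] [22,79,4,4] := S.appC (f1231 S) 4 (by decide +kernel)
theorem f1243 : F [0,5,65] [38,64] := S.mapC (f907 S) [1,1,1,4,3,0,3,3,1,3,4,2,0,0,0,2,0,2,1,2,1,1,1,4,3,0,3,3,1,3,4,2,0,0,0,2,0,2,1,2,1,1,1,4,3,3,0,3,3,3,1,3,3,3,1,2,0,2,2,4,3,3,1,3,0,2,0,0,0,2,2,2,0,2,1,2,2,2,1,1,1,4,3,3,0,3,1,3,3,3,1,3,0,3,3,4,2,2,1,2,0,2,0,0,0,2,0,2,1,2,0,2,2,1] (by decide +kernel)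
theorem f1244 : F [0,5,65,117] [38,64,117] := S.appC (f1243 S) 117 (by decide +kernel)
theorem f1245 : F [38,64,117] [0,5,65,117] := S.symm (f1244 S)
theorem f1246 : F [46,332,0,1] [46,332,2] := S.pw0C [46,332] 1 2 (by decide +kernel)
theorem f1247 : F [0,5,65,117] [0,5,44] := S.mapC (f1246 S) [0,4,2,4,2] (by decide +kernel)
theorem f1248 : F [38,64,117] [0,5,44] := S.trans (f1245 S) (f1247 S)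
theorem f1256 : F [0,5,44] [116,99,32] := S.mapC (f794 S) [4,3,1,2,0,3,4,2,2,4,3,1,2,0,3,3,1,2,0,3,4,2,4,3,1,2,0,3,4,2,2,4,3,1,2,0,3,3,1,2,0,3,4,2,4,3,1,2,0,3,4,3,4,2,1,3,0,2,2,1,3,0,2,4,3,3,4,2,1,3,0,2,4,2,2,4,3,1,2,0,3,3,1,2,0,3,4,2,2,2,4,3,1,2,0,3,3,1,2,0,3,4,2,4,3,1,2,0,3,4,2,2,4,3,1,2,0,3,3,1,2,0,3,4,2,4,3,1,2,0,3,3,1,2,0,3,4,2,2,4,3,1,2,0,3,3,1,2,0,3,4,2] (by decide +kernel)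
theorem f1257 : F [38,64,117] [116,99,32] := S.trans (f1248 S) (f1256 S)
theorem f1258 : F [0,99,598] [140,1038,808] := S.mapC (f1257 S) [2,0,2,4,3,4,3,1,2,0,3,3,1,2,0,3,4,2,4,3,1,2,0,3,3,1,2,0,3,4,2,4,3,1,2,0,3,3,1,2,0,3,3,1,2,0,3,4,2,2,4,3,1,2,0,3,3,1,2,0,3,4,2,4,3,1,2,0,3,3,1,2,0,3,3,1,2,0,3,4,2,2,4,3,1,2,0,3,3,1,2,0,3,4,2,4,2,1,3,0,2,2,1,3,0,2,4,3,4,2,1,3,0,2,2,1,3,0,2,4,3,3,4,3,1,2,0,3,4,2,2,4,3,1,2,0,3,3,1,2,0,3,4,2,4,3,1,2,0,3,3,1,2,0,3,3,1,2,0,3,4,3,4,2,1,3,0,2,2,1,3,0,2,4,3,3,4,2,1,3,0,2,4,2,2,4,3,1,2,0,3,3,1,2,0,3,4,2,4,3,1,2,0,3,4,2,2,4,3,1,2,0,3,3,1,2,0,3,4,2,4,3,1,2,0,3,3,1,2,0,3,4,2,2,4,3,1,2,0,3,3,1,2,0,3,4,2,4,3,1,2,0,3,4,2,2,4,3,1,2,0,3,3,1,2,0,3,4,2,4,3,1,2,0,3,4,2,2,4,3,1,2,0,3,3,1,2,0,3,4,2] (by decide +kernel)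
theorem f1259 : F [0,99,6] [140,122,496] := S.mapC (f1258 S) [2,2,4,3,1,2,0,3,4,2,2,2,4,3,1,2,0,3,4,2,2,4,3,1,2,0,3,3,1,2,0,3,4,2,4,3,1,2,0,3,4,2,2,4,3,1,2,0,3,3,1,2,0,3,4,2,2,2,4,3,1,2,0,3,3,1,2,0,3,4,2,4,3,1,2,0,3,4,3,4,2,1,3,0,2,2,1,3,0,2,4,3,3,4,2,1,3,0,2,4,2,2,4,3,1,2,0,3,3,1,2,0,3,4,2,4,3,1,2,0,3,4,2,2,4,3,1,2,0,3,3,1,2,0,3,4,2,4,2,1,3,0,2,2,1,3,0,2,4,3,4,2,1,3,0,2,2,1,3,0,2,4,3,3,4,3,1,2,0,3,4,2,2,4,3,1,2,0,3,3,1,2,0,3,4,2,4,3,1,2,0,3,3,1,2,0,3,3,1,2,0,3,3,1,2,0,3,4,2,2,4,3,1,2,0,3,3,1,2,0,3,4,2,4,3,1,2,0,3,4,2,2,4,3,1,2,0,3,3,1,2,0,3,4,2] (by decide +kernel)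
theorem f1260 : F [0,99,6,496] [140,122,496,496] := S.appC (f1259 S) 496 (by decide +kernel)
theorem f1261 : F [140,122,496,496] [0,99,6,496] := S.symm (f1260 S)
theorem f1262 : F [36,791,0,3] [81,454,4] := S.rel0C [36,791] (by decide +kernel)
theorem f1263 : F [0,99,6,496] [559,125,5] := S.mapC (f1262 S) [3,3,3,1,3,1,3,3,1,3,1,3,1,3,4] (by decide +kernel)
theorem f1264 : F [140,122,496,496] [559,125,5] := S.trans (f1261 S) (f1263 S)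
theorem f1277 : F [0,99,203] [124,265,57] := S.mapC (f939 S) [3,4,2,1,3,0,2,2,1,3,0,2,4,3,3,4,2,1,3,0,2,4,3,4,2,1,3,0,2,2,1,3,0,2,4,3,3,4,2,1,3,0,2,4,3,4,2,1,3,0,2,2,1,3,0,2,4,3,3,4,2,1,3,0,2,2,1,3,0,2,4,3,4,2,1,3,0,2,2,1,3,0,2,4,3,3,4,2,1,3,0,2,4,3,4,2,1,3,0,2,2,1,3,0,2,4,3,3,4,3,1,2,0,3,4,2,2,4,3,1,2,0,3,3,1,2,0,3,4,2,4,2,1,3,0,2,2,1,3,0,2,2,1,3,0,2,4,3,4,2,1,3,0,2,2,1,3,0,2,4,3,3,4,2,1,3,0,2,4,2,2,4,3,1,2,0,3,3,1,2,0,3,4,2,4,3,1,2,0,3,3,1,2,0,3,4,3,4,2,1,3,0,2,2,1,3,0,2,4,3,3,4,2,1,3,0,2,2,1,3,0,2,4,3,4,2,1,3,0,2,2,1,3,0,2,4,3,3,4,2,1,3,0,2,2,1,3,0,2,2,1,3,0,2,4,2,4,2,1,3,0,2,4,2,4,2,1,3,0,2,2,1,3,0,2,4] (by decide +kernel)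
theorem f1278 : F [559,125,5] [38,44,83] := S.mapC (f1277 S) [4,2,0,2,0,2,0,2,2,0,2,0,2,2,2,4,3,3,3,1,3,1,3,3,1,3,1,3,1,3,4] (by decide +kernel)
theorem f1279 : F [140,122,496,496] [38,44,83] := S.trans (f1264 S) (f1278 S)
theorem f1280 : F [0,5,7,7] [54,165,9] := S.mapC (f1279 S) [4,3,4,3,4,1,2,4,3,1,2,0,3,3,1,2,0,3,3,1,2,0,3,3,1,2,0,3,4,2,2,4,3,1,2,0,3,3,1,2,0,3,4,2,4,3,1,2,0,3,3,1,2,0,3,3,1,2,0,3,4,3,4,2,1,3,0,2,2,1,3,0,2,4,3,3,4,2,1,3,0,2,4,2,2,4,3,1,2,0,3,3,1,2,0,3,4,2,2,2,4,3,1,2,0,3,3,1,2,0,3,4,2,4,3,1,2,0,3,4,2,2,4,3,1,2,0,3,3,1,2,0,3,4,2,4,3,1,2,0,3,3,1,2,0,3,4,2,2,4,3,1,2,0,3,3,1,2,0,3,4,2] (by decide +kernel)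
theorem f1281 : F [22,79,4,4] [110,27,51] := S.mapC (f1280 S) [3,4,0,0,2] (by decide +kernel)
theorem f1282 : F [0,5,7,4] [110,27,51] := S.trans (f1232 S) (f1281 S)
theorem f1283 : F [0,5,7,4,25] [110,27,51,25] := S.appC (f1282 S) 25 (by decide +kernel)
theorem f1286 : F [0,5,7] [22,79,4] := S.symm (f703 S)
theorem f1287 : F [0,5,7,60] [22,79,4,60] := S.appC (f1286 S) 60 (by decide +kernel)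
theorem f1289 : F [110,27,51,25] [120,12,257,25] := S.mapC (f1287 S) [3,4,2,1,3,0,2,2,1,3,0,2,4,3,3,4,2,1,3,0,2,4,3,4,2,1,3,0,2,2,1,3,0,2,4,3,3,4,2,1,3,0,2,4,3,4,2,1,3,0,2,2,1,3,0,2,4,3,3,4,2,1,3,0,2,2,1,3,0,2,4,3,4,2,1,3,0,2,2,1,3,0,2,4,3,3,4,2,1,3,0,2,4,3,4,2,1,3,0,2,2,1,3,0,2,4,3,3,4,3,1,2,0,3,4,2,2,4,3,1,2,0,3,3,1,2,0,3,4,2,4,3,4,2,4] (by decide +kernel)
theorem f1290 : F [0,5,7,4,25] [120,12,257,25] := S.trans (f1283 S) (f1289 S)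
theorem f1291 : F [120,12,257,25] [0,5,7,4,25] := S.symm (f1290 S)
theorem f1292 : F [4,18,23,0,3] [9,46,56,4] := S.rel0C [4,18,23] (by decide +kernel)
theorem f1293 : F [0,5,7,4,25] [24,72,17,0] := S.mapC (f1292 S) [1,2,1] (by decide +kernel)
theorem f1294 : F [120,12,257,25] [24,72,17,0] := S.trans (f1291 S) (f1293 S)
theorem f1296 : F [9,33,60,4] [0,5,7,24] := S.mapC (f1294 S) [0,3,0,4,1,2,1] (by decide +kernel)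
theorem f1312 : F [0,5,65] [38,64] := S.mapC (f907 S) [1,1,1,4,3,0,3,3,1,3,4,2,0,0,0,2,0,2,1,2,1,1,1,4,3,0,3,3,1,3,4,2,0,0,0,2,0,2,1,2,1,1,1,4,3,3,0,3,3,3,1,3,3,3,1,2,0,2,2,4,3,3,1,3,0,2,0,0,0,2,2,2,0,2,1,2,2,2,1,1,1,4,3,3,0,3,1,3,3,3,1,3,0,3,3,4,2,2,1,2,0,2,0,0,0,2,0,2,1,2,0,2,2,1] (by decide +kernel)
theorem f1313 : F [0,5,65,12] [38,64,12] := S.appC (f1312 S) 12 (by decide +kernel)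
theorem f1314 : F [38,64,12] [0,5,65,12] := S.symm (f1313 S)
theorem f1315 : F [46,332,0,3] [18,152,4] := S.rel0C [46,332] (by decide +kernel)
theorem f1316 : F [0,5,65,12] [173,171,76] := S.mapC (f1315 S) [0,4,2,4,2] (by decide +kernel)
theorem f1317 : F [38,64,12] [173,171,76] := S.trans (f1314 S) (f1316 S)
theorem f1321 : F [0,5,10] [120,165,22] := S.mapC (f755 S) [1,1,1,4,3,3,0,3,1,3,3,3,1,3,0,3,3,4,2,2,1,2,0,2,0,0,0,2,0,2,1,2,0,2,2,1] (by decide +kernel)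
theorem f1322 : F [173,171,76] [473,341,44] := S.mapC (f1321 S) [3,4,3,4,1,4,0,4,2,4,2] (by decide +kernel)
theorem f1323 : F [38,64,12] [473,341,44] := S.trans (f1317 S) (f1322 S)
theorem f1324 : F [0,99,1055] [814,686,601] := S.mapC (f1323 S) [2,0,2,4,3,4,3,1,2,0,3,3,1,2,0,3,4,2,4,3,1,2,0,3,3,1,2,0,3,4,2,4,3,1,2,0,3,3,1,2,0,3,3,1,2,0,3,4,2,2,4,3,1,2,0,3,3,1,2,0,3,4,2,4,3,1,2,0,3,3,1,2,0,3,3,1,2,0,3,4,2,2,4,3,1,2,0,3,3,1,2,0,3,4,2,4,2,1,3,0,2,2,1,3,0,2,4,3,4,2,1,3,0,2,2,1,3,0,2,4,3,3,4,3,1,2,0,3,4,2,2,4,3,1,2,0,3,3,1,2,0,3,4,2,4,3,1,2,0,3,3,1,2,0,3,3,1,2,0,3,4,3,4,2,1,3,0,2,2,1,3,0,2,4,3,3,4,2,1,3,0,2,4,2,2,4,3,1,2,0,3,3,1,2,0,3,4,2,4,3,1,2,0,3,4,2,2,4,3,1,2,0,3,3,1,2,0,3,4,2,4,3,1,2,0,3,3,1,2,0,3,4,2,2,4,3,1,2,0,3,3,1,2,0,3,4,2,4,3,1,2,0,3,4,2,2,4,3,1,2,0,3,3,1,2,0,3,4,2,4,3,1,2,0,3,4,2,2,4,3,1,2,0,3,3,1,2,0,3,4,2]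 (by decide +kernel)
theorem f1325 : F [0,99,21] [303,778,863] := S.mapC (f1324 S) [2,2,4,3,1,2,0,3,3,1,2,0,3,4,2,4,3,1,2,0,3,3,1,2,0,3,3,1,2,0,3,4,2,2,4,3,1,2,0,3,3,1,2,0,3,4,2,4,3,1,2,0,3,4,3,4,2,1,3,0,2,2,1,3,0,2,4,3,3,4,3,1,2,0,3,4,2,2,4,3,1,2,0,3,3,1,2,0,3,4,2,4,3,1,2,0,3,3,1,2,0,3,3,1,2,0,3,3,1,2,0,3,4,2,2,4,3,1,2,0,3,3,1,2,0,3,4,2,4,3,1,2,0,3,4,2,2,4,3,1,2,0,3,3,1,2,0,3,4,2] (by decide +kernel)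
theorem f1326 : F [0,99,21,852] [303,778,863,852] := S.appC (f1325 S) 852 (by decide +kernel)
theorem f1327 : F [303,778,863,852] [0,99,21,852] := S.symm (f1326 S)
theorem f1328 : F [113,1162,0,3] [245,1065,4] := S.rel0C [113,1162] (by decide +kernel)
theorem f1329 : F [0,99,21,852] [106,1061,56] := S.mapC (f1328 S) [2,2,1,2,0,4,3,4] (by decide +kernel)
theorem f1330 : F [303,778,863,852] [106,1061,56] := S.trans (f1327 S) (f1329 S)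
theorem f1342 : F [0,99] [99,0] := S.symm (f911 S)
theorem f1343 : F [0,99,487] [99,0,487] := S.appC (f1342 S) 487 (by decide +kernel)
theorem f1350 : F [0,5,65] [38,64] := S.mapC (f907 S) [1,1,1,4,3,0,3,3,1,3,4,2,0,0,0,2,0,2,1,2,1,1,1,4,3,0,3,3,1,3,4,2,0,0,0,2,0,2,1,2,1,1,1,4,3,3,0,3,3,3,1,3,3,3,1,2,0,2,2,4,3,3,1,3,0,2,0,0,0,2,2,2,0,2,1,2,2,2,1,1,1,4,3,3,0,3,1,3,3,3,1,3,0,3,3,4,2,2,1,2,0,2,0,0,0,2,0,2,1,2,0,2,2,1] (by decide +kernel)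
theorem f1351 : F [0,5,65,347] [38,64,347] := S.appC (f1350 S) 347 (by decide +kernel)
theorem f1352 : F [38,64,347] [0,5,65,347] := S.symm (f1351 S)
theorem f1353 : F [112,627,0,3] [242,696,4] := S.rel0C [112,627] (by decide +kernel)
theorem f1354 : F [0,5,65,347] [589,273,76] := S.mapC (f1353 S) [0,2,4,2,4,2] (by decide +kernel)
theorem f1355 : F [38,64,347] [589,273,76] := S.trans (f1352 S) (f1354 S)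
theorem f1365 : F [6,4] [0,5] := S.mapC (f148 S) [0,3,3,1,3,0,3,1,3,1,1,1,3,1,3,0,3,3,4,2,2,1,2,0,2,2,2,0,2,1,2,2,4,0,0,0] (by decide +kernel)
theorem f1368 : F [0,5] [6,4] := S.symm (f1365 S)
theorem f1369 : F [0,5,307] [6,4,307] := S.appC (f1368 S) 307 (by decide +kernel)
theorem f1370 : F [6,4,307] [319,638,465] := S.mapC (f794 S) [4,2,1,3,0,2,2,1,3,0,2,2,1,3,0,2,4,3,4,2,1,3,0,2,2,1,3,0,2,4,3,3,4,2,1,3,0,2,4,2,2,4,3,1,2,0,3,3,1,2,0,3,4,2,4,3,1,2,0,3,3,1,2,0,3,4,3,4,2,1,3,0,2,2,1,3,0,2,4,3,3,4,2,1,3,0,2,2,1,3,0,2,4,3,4,2,1,3,0,2,2,1,3,0,2,4,3,3,4,2,1,3,0,2,2,1,3,0,2,2,1,3,0,2,2,1,3,0,2,2,1,3,0,2,4,3,4,2,1,3,0,2,2,1,3,0,2,4,3,3,4,2,1,3,0,2,4,2,2,4,3,1,2,0,3,3,1,2,0,3,4,2,4,3,1,2,0,3,3,1,2,0,3,4,3,4,2,1,3,0,2,2,1,3,0,2,4,3,3,3,4,2,1,3,0,2,2,1,3,0,2,4,3,3,4,2,1,3,0,2,2,1,3,0,2,4,1,4]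 (by decide +kernel)
theorem f1371 : F [0,5,307] [319,638,465] := S.trans (f1369 S) (f1370 S)
theorem f1372 : F [589,273,76] [146,559,240] := S.mapC (f1371 S) [3,4,3,4,3,1,4,0,2,4,2,4,2] (by decide +kernel)
theorem f1373 : F [38,64,347] [146,559,240] := S.trans (f1355 S) (f1372 S)
theorem f1374 : F [0,99,1246] [1034,229,697] := S.mapC (f1373 S) [2,0,2,4,3,4,3,1,2,0,3,3,1,2,0,3,4,2,4,3,1,2,0,3,3,1,2,0,3,4,2,4,3,1,2,0,3,3,1,2,0,3,3,1,2,0,3,4,2,2,4,3,1,2,0,3,3,1,2,0,3,4,2,4,3,1,2,0,3,3,1,2,0,3,3,1,2,0,3,4,2,2,4,3,1,2,0,3,3,1,2,0,3,4,2,4,2,1,3,0,2,2,1,3,0,2,4,3,4,2,1,3,0,2,2,1,3,0,2,4,3,3,4,3,1,2,0,3,4,2,2,4,3,1,2,0,3,3,1,2,0,3,4,2,4,3,1,2,0,3,3,1,2,0,3,3,1,2,0,3,4,3,4,2,1,3,0,2,2,1,3,0,2,4,3,3,4,2,1,3,0,2,4,2,2,4,3,1,2,0,3,3,1,2,0,3,4,2,4,3,1,2,0,3,4,2,2,4,3,1,2,0,3,3,1,2,0,3,4,2,4,3,1,2,0,3,3,1,2,0,3,4,2,2,4,3,1,2,0,3,3,1,2,0,3,4,2,4,3,1,2,0,3,4,2,2,4,3,1,2,0,3,3,1,2,0,3,4,2,4,3,1,2,0,3,4,2,2,4,3,1,2,0,3,3,1,2,0,3,4,2]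 (by decide +kernel)
theorem f1375 : F [99,0,487] [1343,162,1139] := S.mapC (f1374 S) [3,4,2,1,3,0,2,2,1,3,0,2,4,3,3,4,2,1,3,0,2,4,3,4,2,1,3,0,2,2,1,3,0,2,4,3,3,4,2,1,3,0,2,2,1,3,0,2,2,1,3,0,2,2,1,3,0,2,4,3,4,2,1,3,0,2,2,1,3,0,2,4,3,3,4,2,1,3,0,2,4,2,2,4,3,1,2,0,3,3,1,2,0,3,4,2,4,2,1,3,0,2,4,3,4,2,1,3,0,2,2,1,3,0,2,4,3,3,4,2,1,3,0,2,4,2,2,4,3,1,2,0,3,3,1,2,0,3,4,2,4,3,1,2,0,3,3,1,2,0,3,4,3,4,2,1,3,0,2,2,1,3,0,2,4,3,3,3,4,2,1,3,0,2,2,1,3,0,2,4,3,4,2,1,3,0,2,4,2,4,2,1,3,0,2,2,1,3,0,2,2,4,2,4] (by decide +kernel)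
theorem f1376 : F [0,99,487] [1343,162,1139] := S.trans (f1343 S) (f1375 S)
theorem f1377 : F [106,1061,56] [656,149,211] := S.mapC (f1376 S) [4,2,4,1,3,0,3,3,4,2,2,1,2,0,4,3,4] (by decide +kernel)
theorem f1378 : F [303,778,863,852] [656,149,211] := S.trans (f1330 S) (f1377 S)
theorem f1379 : F [0,5,7,1097] [10,51,2] := S.mapC (f1378 S) [0,3,3,4,3,4,0,4,3,1,2,0,3,4,2,4,3,1,2,0,3,3,1,2,0,3,3,1,2,0,3,4,2,2,4,3,1,2,0,3,3,1,2,0,3,4,2,4,3,1,2,0,3,3,1,2,0,3,3,1,2,0,3,4,2,2,4,3,1,2,0,3,3,1,2,0,3,4,2,4,3,1,2,0,3,4,2,2,4,3,1,2,0,3,3,1,2,0,3,4,2,4,2,1,3,0,2,2,1,3,0,2,4,3,4,2,1,3,0,2,2,1,3,0,2,4,3,3,4,3,1,2,0,3,4,2,2,4,3,1,2,0,3,3,1,2,0,3,4,2,4,3,1,2,0,3,3,1,2,0,3,3,1,2,0,3,4] (by decide +kernel)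
theorem f1380 : F [0,5,7,14] [10,51,2] := S.mapC (f1379 S) [4,3,1,2,0,3,3,1,2,0,3,4,2,2,4,3,1,2,0,3,3,1,2,0,3,4,2,4,3,1,2,0,3,3,1,2,0,3,4,2,2,4,3,1,2,0,3,3,1,2,0,3,4,2,4,2,1,3,0,2,2,1,3,0,2,4,3,4,2,1,3,0,2,2,1,3,0,2,4,3,3,4,3,1,2,0,3,4,2,2,4,3,1,2,0,3,3,1,2,0,3,4,2,4,3,1,2,0,3,3,1,2,0,3,3,1,2,0,3,4] (by decide +kernel)
theorem f1381 : F [0,5,7,14,14] [10,51,2,14] := S.appC (f1380 S) 14 (by decide +kernel)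
theorem f1384 : F [0,5,7] [22,79,4] := S.symm (f703 S)
theorem f1385 : F [0,5,7,60] [22,79,4,60] := S.appC (f1384 S) 60 (by decide +kernel)
theorem f1387 : F [10,51,2,14] [1,3,12,14] := S.mapC (f1385 S) [3,4,2,1,3,0,2,2,1,3,0,2,4,3,3,4,2,1,3,0,2,4,3,4,2,1,3,0,2,2,1,3,0,2,4,3,3,4,2,1,3,0,2,4,3,4,2,1,3,0,2,2,1,3,0,2,4,3,3,4,2,1,3,0,2,2,1,3,0,2,2,1,3,0,2,2,1,3,0,2,2,1,3,0,2,4,3,4,2,1,3,0,2,2,1,3,0,2,4,3,3,4,2,1,3,0,2,4,2,2,4,3,1,2,0,3,3,1,2,0,3,4,2,4,2,1,3,0,2,4,3,4,2,1,3,0,2,2,1,3,0,2,4,3,3,3,3,4,2,1,3,0,2,4,0,4,2] (by decide +kernel)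
theorem f1388 : F [0,5,7,14,14] [1,3,12,14] := S.trans (f1381 S) (f1387 S)
theorem f1389 : F [1,3,12,14] [0,5,7,14,14] := S.symm (f1388 S)
theorem f1390 : F [6,56,47,0,0] [6,56,47,1] := S.pw0C [6,56,47] 1 1 (by decide +kernel)
theorem f1391 : F [0,5,7,14,14] [0,5,7,24] := S.mapC (f1390 S) [4,2,0] (by decide +kernel)
theorem f1392 : F [1,3,12,14] [0,5,7,24] := S.trans (f1389 S) (f1391 S)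
theorem f1397 : F [257,79,54] [0,5,7] := S.mapC (f450 S) [4,2,1,3,0,2,2,1,3,0,2,2,1,3,0,2,4,3,4,2,1,3,0,2,2,1,3,0,2,4,3,3,4,2,1,3,0,2,4,2,2,4,3,1,2,0,3,3,1,2,0,3,4,2,4,3,1,2,0,3,3,1,2,0,3,4,3,4,2,1,3,0,2,2,1,3,0,2,4,3,3,4,2,1,3,0,2,2,1,3,0,2,4,3,4,2,1,3,0,2,2,1,3,0,2,4,3,3,4,2,1,3,0,2,4,3,4,2,1,3,0,2,2,1,3,0,2,4,3,3,4,3,1,2,0,3,4,2,2,4,3,1,2,0,3,3,1,2,0,3,4,2] (by decide +kernel)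
theorem f1398 : F [0,5,7] [257,79,54] := S.mapC (f1397 S) [4,3,4,2,4,0,0,3,4,3,1,2,0,3,3,1,2,0,3,3,1,2,0,3,4,2,2,4,3,1,2,0,3,3,1,2,0,3,4,2,4,3,1,2,0,3,3,1,2,0,3,4] (by decide +kernel)
theorem f1399 : F [257,79,54] [0,5,7] := S.symm (f1398 S)
theorem f1400 : F [0,5,7] [257,79,54] := S.symm (f1399 S)
theorem f1401 : F [0,5,7,21] [257,79,54,21] := S.appC (f1400 S) 21 (by decide +kernel)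
theorem f1406 : F [0,99,9] [559,124,75] := S.mapC (f984 S) [2,2,4,3,1,2,0,3,4,2,2,2,4,3,1,2,0,3,4,2,2,4,3,1,2,0,3,3,1,2,0,3,4,2,4,3,1,2,0,3,4,2,2,4,3,1,2,0,3,3,1,2,0,3,4,2,2,2,4,3,1,2,0,3,3,1,2,0,3,4,2,4,3,1,2,0,3,4,3,4,2,1,3,0,2,2,1,3,0,2,4,3,3,4,2,1,3,0,2,4,2,2,4,3,1,2,0,3,3,1,2,0,3,4,2,4,3,1,2,0,3,4,2,2,4,3,1,2,0,3,3,1,2,0,3,4,2,4,2,1,3,0,2,2,1,3,0,2,4,3,4,2,1,3,0,2,2,1,3,0,2,4,3,3,4,3,1,2,0,3,4,2,2,4,3,1,2,0,3,3,1,2,0,3,4,2,4,3,1,2,0,3,3,1,2,0,3,3,1,2,0,3,3,1,2,0,3,4,2,2,4,3,1,2,0,3,3,1,2,0,3,4,2,4,3,1,2,0,3,4,2,2,4,3,1,2,0,3,3,1,2,0,3,4,2] (by decide +kernel)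
theorem f1407 : F [0,99,9,60] [559,124,75,60] := S.appC (f1406 S) 60 (by decide +kernel)
theorem f1408 : F [559,124,75,60] [0,99,9,60] := S.symm (f1407 S)
theorem f1409 : F [29,281,0,3] [68,536,4] := S.rel0C [29,281] (by decide +kernel)
theorem f1410 : F [0,99,9,60] [110,123,3] := S.mapC (f1409 S) [1,2,1,4] (by decide +kernel)
theorem f1411 : F [559,124,75,60] [110,123,3] := S.trans (f1408 S) (f1410 S)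
theorem f1416 : F [99,0] [0,99] := S.mapC (f911 S) [3,4,2,1,3,0,2,2,1,3,0,2,4,3,3,4,2,1,3,0,2,4,3,4,2,1,3,0,2,2,1,3,0,2,4,3,3,4,2,1,3,0,2,4,3,4,2,1,3,0,2,2,1,3,0,2,4,3,3,4,2,1,3,0,2,2,1,3,0,2,4,3,4,2,1,3,0,2,2,1,3,0,2,4,3,3,4,2,1,3,0,2,4,3,4,2,1,3,0,2,2,1,3,0,2,4,3,3,4,3,1,2,0,3,4,2,2,4,3,1,2,0,3,3,1,2,0,3,4,2,4,2,1,3,0,2,2,1,3,0,2,2,1,3,0,2,4,3,4,2,1,3,0,2,2,1,3,0,2,4,3,3,4,2,1,3,0,2,4,2,2,4,3,1,2,0,3,3,1,2,0,3,4,2,4,3,1,2,0,3,3,1,2,0,3,4,3,4,2,1,3,0,2,2,1,3,0,2,4,3,3,4,2,1,3,0,2,2,1,3,0,2,4,3,4,2,1,3,0,2,2,1,3,0,2,4,3,3,4,2,1,3,0,2,2,1,3,0,2,2,1,3,0,2,2,1,3,0,2,4,3,4,2,1,3,0,2,2,1,3,0,2,4,3,3,4,2,1,3,0,2,2,1,3,0,2,2,1,3,0,2,2,1,3,0,2,4,3,3,3,4,2,1,3,0,2,2,1,3,0,2,2,1,3,0,2,2,1,3,0,2,4] (by decide +kernel)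
theorem f1419 : F [0,99] [99,0] := S.symm (f1416 S)
theorem f1420 : F [0,99,58] [99,0,58] := S.appC (f1419 S) 58 (by decide +kernel)
theorem f1421 : F [99,0,58] [137,358,25] := S.mapC (f984 S) [3,4,2,1,3,0,2,2,1,3,0,2,4,3,3,4,2,1,3,0,2,4,3,4,2,1,3,0,2,2,1,3,0,2,4,3,3,4,2,1,3,0,2,4,3,4,2,1,3,0,2,2,1,3,0,2,4,3,3,4,2,1,3,0,2,4,3,4,2,1,3,0,2,2,1,3,0,2,4,3,3,3,4,2,1,3,0,2,2,1,3,0,2,4,3,3,4,3,1,2,0,3,4,2,2,4,3,1,2,0,3,3,1,2,0,3,4,2,4,2,1,3,0,2,2,1,3,0,2,2,1,3,0,2,4,3,4,2,1,3,0,2,2,1,3,0,2,4,3,3,4,2,1,3,0,2,4,2,2,4,3,1,2,0,3,3,1,2,0,3,4,2,4,3,1,2,0,3,3,1,2,0,3,4,3,4,2,1,3,0,2,2,1,3,0,2,4,3,3,4,2,1,3,0,2,2,1,3,0,2,4,3,4,2,1,3,0,2,2,1,3,0,2,4,3,3,3,4,2,1,3,0,2,2,1,3,0,2,4,3,3,4,2,1,3,0,2,4,3,4,2,1,3,0,2,2,1,3,0,2,4,3,3,3,4,2,1,3,0,2,2,4,2,4] (by decide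 +kernel)
theorem f1422 : F [0,99,58] [137,358,25] := S.trans (f1420 S) (f1421 S)
theorem f1423 : F [110,123,3] [330,122,120] := S.mapC (f1422 S) [4,0,3,0,4,1,2,1,4] (by decide +kernel)
theorem f1424 : F [559,124,75,60] [330,122,120] := S.trans (f1411 S) (f1423 S)
theorem f1425 : F [0,5,7,898] [709,6,272] := S.mapC (f1424 S) [4,3,3,4,2,2,4,1,3,4,3,1,2,0,3,3,1,2,0,3,3,1,2,0,3,4,2,2,2,4,3,1,2,0,3,3,1,2,0,3,3,1,2,0,3,4,2,2,4,3,1,2,0,3,3,1,2,0,3,4,2,4,3,1,2,0,3,3,1,2,0,3,4,2,2,4,3,1,2,0,3,3,1,2,0,3,4,2,4,3,1,2,0,3,4,2,2,4,3,1,2,0,3,3,1,2,0,3,4,2,4,2,1,3,0,2,2,1,3,0,2,4,3,4,2,1,3,0,2,2,1,3,0,2,4,3,3,4,3,1,2,0,3,4,2,2,4,3,1,2,0,3,3,1,2,0,3,4,2,4,3,1,2,0,3,3,1,2,0,3,3,1,2,0,3,3,1,2,0,3,4,2,2,4,3,1,2,0,3,3,1,2,0,3,4,2,4,3,1,2,0,3,4,2,2,4,3,1,2,0,3,3,1,2,0,3,4,2]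 (by decide +kernel)
theorem f1426 : F [257,79,54,21] [513,72,201] := S.mapC (f1425 S) [4,3,4,2,4,0,0,3,4,3,1,2,0,3,3,1,2,0,3,3,1,2,0,3,4,2,2,4,3,1,2,0,3,3,1,2,0,3,4,2,4,3,1,2,0,3,3,1,2,0,3,4] (by decide +kernel)
theorem f1427 : F [0,5,7,21] [513,72,201] := S.trans (f1401 S) (f1426 S)
theorem f1428 : F [0,5,7,21,25] [513,72,201,25] := S.appC (f1427 S) 25 (by decide +kernel)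
theorem f1430 : F [257,79,54] [0,5,7] := S.mapC (f450 S) [3,4,2,1,3,0,2,2,1,3,0,2,4,3,3,4,2,1,3,0,2,4,3,4,2,1,3,0,2,2,1,3,0,2,4,3,3,4,2,1,3,0,2,4,3,4,2,1,3,0,2,2,1,3,0,2,4,3,3,4,2,1,3,0,2,2,1,3,0,2,4,3,4,2,1,3,0,2,2,1,3,0,2,4,3,3,4,2,1,3,0,2,4,3,4,2,1,3,0,2,2,1,3,0,2,4,3,3,3,4,2,1,3,0,2,2,1,3,0,2,4,3,3,4,3,1,2,0,3,4,2,2,4,3,1,2,0,3,3,1,2,0,3,4,2] (by decide +kernel)
theorem f1431 : F [257,79,54] [0,5,7] := S.mapC (f1430 S) [3,4,2,1,3,0,2,2,1,3,0,2,4,3,3,4,2,1,3,0,2,4,3,4,2,1,3,0,2,2,1,3,0,2,4,3,3,4,2,1,3,0,2,4,3,4,2,1,3,0,2,2,1,3,0,2,4,3,3,4,2,1,3,0,2,2,1,3,0,2,4,3,4,2,1,3,0,2,2,1,3,0,2,4,3,3,4,2,1,3,0,2,4,3,4,2,1,3,0,2,2,1,3,0,2,4,3,3,3,4,2,1,3,0,2,2,1,3,0,2,4,3,3,4,3,1,2,0,3,4,2,2,4,3,1,2,0,3,3,1,2,0,3,4,2] (by decide +kernel)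
theorem f1433 : F [0,5,7] [257,79,54] := S.symm (f1431 S)
theorem f1434 : F [0,5,7,1371] [257,79,54,1371] := S.appC (f1433 S) 1371 (by decide +kernel)
theorem f1436 : F [513,72,201,25] [108,420,127,25] := S.mapC (f1434 S) [3,4,2,1,3,0,2,2,1,3,0,2,4,3,3,4,2,1,3,0,2,4,3,4,2,1,3,0,2,2,1,3,0,2,4,3,3,3,4,2,1,3,0,2,2,1,3,0,2,4,3,3,4,3,1,2,0,3,4,3,4,2,1,3,0,2,2,1,3,0,2,4,3,3,4,2,1,3,0,2,4,3,4,2,1,3,0,2,2,1,3,0,2,4,3,3,3,4,2,1,3,0,2,2,1,3,0,2,4,3,3,3,3,3,4,2,1,3,0,2,2,1,3,0,2,2,1,3,0,2,4,2,1,4,3,0,3,4,2,4] (by decide +kernel)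
theorem f1437 : F [0,5,7,21,25] [108,420,127,25] := S.trans (f1428 S) (f1436 S)
theorem f1438 : F [108,420,127,25] [0,5,7,21,25] := S.symm (f1437 S)
theorem f1439 : F [221,88,1093,0,3] [452,186,841,4] := S.rel0C [221,88,1093] (by decide +kernel)
theorem f1440 : F [0,5,7,21,25] [13,58,189,56] := S.mapC (f1439 S) [3,3,1,3,1,2,1,2,1,3,4,3,4] (by decide +kernel)
theorem f1441 : F [108,420,127,25] [13,58,189,56] := S.trans (f1438 S) (f1440 S)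
theorem f1443 : F [531,206,136,21] [0,5,7,24] := S.mapC (f1441 S) [4,2,4,2,0,3,0,3,0,2,0,2,2,4,3,3,1,3,1,2,1,2,1,3,4,3,4] (by decide +kernel)
theorem f1456 : F [0,5,44] [116,99,32] := S.mapC (f794 S) [4,3,1,2,0,3,4,2,2,4,3,1,2,0,3,3,1,2,0,3,4,2,4,3,1,2,0,3,4,2,2,4,3,1,2,0,3,3,1,2,0,3,4,2,4,3,1,2,0,3,4,3,4,2,1,3,0,2,2,1,3,0,2,4,3,3,4,2,1,3,0,2,4,2,2,4,3,1,2,0,3,3,1,2,0,3,4,2,2,2,4,3,1,2,0,3,3,1,2,0,3,4,2,4,3,1,2,0,3,4,2,2,4,3,1,2,0,3,3,1,2,0,3,4,2,4,3,1,2,0,3,3,1,2,0,3,4,2,2,4,3,1,2,0,3,3,1,2,0,3,4,2] (by decide +kernel)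
theorem f1457 : F [0,5,44,512] [116,99,32,512] := S.appC (f1456 S) 512 (by decide +kernel)
theorem f1458 : F [116,99,32,512] [0,5,44,512] := S.symm (f1457 S)
theorem f1459 : F [221,1021,0,3] [452,883,4] := S.rel0C [221,1021] (by decide +kernel)
theorem f1460 : F [0,5,44,512] [32,532,117] := S.mapC (f1459 S) [1,2,0,4,2,4,2] (by decide +kernel)
theorem f1461 : F [116,99,32,512] [32,532,117] := S.trans (f1458 S) (f1460 S)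
theorem f1469 : F [0,5,7,371] [7,250,131] := S.mapC (f1461 S) [4,3,3,4,0,0,3,4,3,1,2,0,3,3,1,2,0,3,4,2,2,2,4,3,1,2,0,3,4,2,2,4,3,1,2,0,3,3,1,2,0,3,4,2,2,2,4,3,1,2,0,3,3,1,2,0,3,4,2,4,3,1,2,0,3,3,1,2,0,3,4,2,2,4,3,1,2,0,3,3,1,2,0,3,4,2,4,3,1,2,0,3,3,1,2,0,3,4,2,2,4,3,1,2,0,3,3,1,2,0,3,4,2,4,2,1,3,0,2,2,1,3,0,2,4,3,4,2,1,3,0,2,2,1,3,0,2,4,3,3,4,3,1,2,0,3,4,2,2,4,3,1,2,0,3,3,1,2,0,3,4,2,4,3,1,2,0,3,3,1,2,0,3,3,1,2,0,3,4,3,4,2,1,3,0,2,2,1,3,0,2,4,3,3,4,2,1,3,0,2,4,2,2,4,3,1,2,0,3,3,1,2,0,3,4,2,4,3,1,2,0,3,4,2,2,4,3,1,2,0,3,3,1,2,0,3,4,2,4,3,1,2,0,3,3,1,2,0,3,4,2,2,4,3,1,2,0,3,3,1,2,0,3,4,2] (by decide +kernel)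
theorem f1470 : F [0,5,7,23] [7,174,276] := S.mapC (f1469 S) [4,2,1,3,0,2,2,1,3,0,2,4,3,4,2,1,3,0,2,2,1,3,0,2,4,3,3,4,3,1,2,0,3,4,2,2,4,3,1,2,0,3,3,1,2,0,3,4,2,4,3,1,2,0,3,3,1,2,0,3,3,1,2,0,3,4,3,4,2,1,3,0,2,2,1,3,0,2,4,3,3,4,2,1,3,0,2,4,2,2,4,3,1,2,0,3,3,1,2,0,3,4,2,4,3,1,2,0,3,4,2,2,4,3,1,2,0,3,3,1,2,0,3,4,2,4,3,1,2,0,3,4,2,2,4,3,1,2,0,3,3,1,2,0,3,4,2,4,3,1,2,0,3,4,2,2,4,3,1,2,0,3,3,1,2,0,3,4,2] (by decide +kernel)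
theorem f1471 : F [0,5,7,23,58] [7,174,276,58] := S.appC (f1470 S) 58 (by decide +kernel)
theorem f1479 : F [7,174,276,58] [0,5,7,23,58] := S.symm (f1471 S)
theorem f1480 : F [129,314,669,0,3] [278,590,373,4] := S.rel0C [129,314,669] (by decide +kernel)
theorem f1481 : F [0,5,7,23,58] [14,21,163,8] := S.mapC (f1480 S) [3,3,1,3,1,2,1,2,0,3,4,3] (by decide +kernel)
theorem f1482 : F [7,174,276,58] [14,21,163,8] := S.trans (f1479 S) (f1481 S)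
theorem f1485 : F [0,5,7] [22,79,4] := S.symm (f703 S)
theorem f1486 : F [0,5,7,60] [22,79,4,60] := S.appC (f1485 S) 60 (by decide +kernel)
theorem f1488 : F [14,21,163,8] [149,162,15,8] := S.mapC (f1486 S) [2,4,2,1,3,0,3,0,2,0,2,2,4,3,3,1,3,1,2,1,2,0,3,4,3] (by decide +kernel)
theorem f1489 : F [7,174,276,58] [149,162,15,8] := S.trans (f1482 S) (f1488 S)
theorem f1490 : F [11,45,201,108] [0,5,7,24] := S.mapC (f1489 S) [2,4,2,1,3,0,3,0,2,0,2,2,4,3,3,1,3,1,2,1,2,0,3,4,3,3,4,0,0,2] (by decide +kernel)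
theorem f1492 : F [0,1] [2] := S.pw0C [] 1 2 (by decide +kernel)
theorem f1498 : F [0,4] [] := S.pw0C [] 1 4 (by decide +kernel)
theorem f1507 : F [0,5] [6,4] := S.mapC (f148 S) [0,0,4,0,0,0] (by decide +kernel)
theorem f1508 : F [6,4] [0,5] := S.symm (f1507 S)
theorem f1509 : F [0,5] [6,4] := S.symm (f1508 S)
theorem f1510 : F [0,5,2] [6,4,2] := S.appC (f1509 S) 2 (by decide +kernel)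
theorem f1512 : F [5,0,1] [5,2] := S.pw0C [5] 1 2 (by decide +kernel)
theorem f1513 : F [0,5,9] [0,3] := S.mapC (f1512 S) [0,4] (by decide +kernel)
theorem f1514 : F [0,5,9] [4] := S.trans (f1513 S) (f134 S)
theorem f1515 : F [6,4,2] [5] := S.mapC (f1514 S) [0,0,4,0,0,0] (by decide +kernel)
theorem f1516 : F [0,5,2] [5] := S.trans (f1510 S) (f1515 S)
theorem f1517 : F [0,5,2,11] [5,11] := S.appC (f1516 S) 11 (by decide +kernel)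
theorem f1518 : F [5,11] [0,5,2,11] := S.symm (f1517 S)
theorem f1519 : F [1,24,0,3] [5,58,4] := S.rel0C [1,24] (by decide +kernel)
theorem f1520 : F [0,5,2,11] [23,77,1] := S.mapC (f1519 S) [1,3] (by decide +kernel)
theorem f1521 : F [5,11] [23,77,1] := S.trans (f1518 S) (f1520 S)
theorem f1529 : F [0,5,13] [118,162] := S.mapC (f731 S) [4,2,1,3,0,2,2,1,3,0,2,2,1,3,0,2,4,3,4,2,1,3,0,2,2,1,3,0,2,4,3,3,4,2,1,3,0,2,4,2,2,4,3,1,2,0,3,3,1,2,0,3,4,2,4,3,1,2,0,3,3,1,2,0,3,4,3,4,2,1,3,0,2,2,1,3,0,2,4,3,3,4,2,1,3,0,2,2,1,3,0,2,2,1,3,0,2,2,1,3,0,2,2,1,3,0,2,4,3,4,2,1,3,0,2,2,1,3,0,2,4,3,3,4,2,1,3,0,2,4,2,2,4,3,1,2,0,3,3,1,2,0,3,4,2,4,3,1,2,0,3,3,1,2,0,3,4,3,4,2,1,3,0,2,2,1,3,0,2,4,3,3,4,2,1,3,0,2,2,1,3,0,2,2,1,3,0,2,2,1,3,0,2,4,3,4,2,1,3,0,2,2,1,3,0,2,4,3,3,3,4,2,1,3,0,2,2,1,3,0,2,4,3,3]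 (by decide +kernel)
theorem f1530 : F [23,77,1] [3,31] := S.mapC (f1529 S) [2,0,4,1,3] (by decide +kernel)
theorem f1531 : F [5,11] [3,31] := S.trans (f1521 S) (f1530 S)
theorem f1532 : F [0,67] [2,29] := S.mapC (f1531 S) [1,1,1,4] (by decide +kernel)
theorem f1533 : F [0,17] [2,22] := S.mapC (f1532 S) [2,2,0,2,1,2,2] (by decide +kernel)
theorem f1535 : F [0,27] [7,151] := S.mapC (f187 S) [0,3,3,3,1,3,3,0,3,1,3,3,3,4,2,1,2,0,4,1,3,0,3,4,0,0,2,2,2,0,2,1,2,2,0,2,2,2,1] (by decide +kernel)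
theorem f1536 : F [7,151] [0,27] := S.symm (f1535 S)
theorem f1537 : F [0,27] [7,151] := S.symm (f1536 S)
theorem f1538 : F [0,27,0] [7,151,0] := S.appC (f1537 S) 0 (by decide +kernel)
theorem f1539 : F [7,151,0] [257,33] := S.mapC (f524 S) [0,3,3,3,1,3,3,0,3,1,3,3,3,4,2,1,2,0,4,1,3,0,3,4,0,0,2,2,2,0,2,1,2,2,0,2,2,2,1] (by decide +kernel)
theorem f1540 : F [0,27,0] [257,33] := S.trans (f1538 S) (f1539 S)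
theorem f1542 : F [0,27] [54,2] := S.mapC (f562 S) [4,3,4,0,0,3,4,3,1,2,0,3,4,2,4,3,1,2,0,3,3,1,2,0,3,3,1,2,0,3,4,2,4,3,1,2,0,3,4,2,2,4,3,1,2,0,3,3,1,2,0,3,4,2,4,3,1,2,0,3,3,1,2,0,3,3,1,2,0,3,4,3,4,2,1,3,0,2,2,1,3,0,2,4,3,3,4,2,1,3,0,2,4,2,2,4,3,1,2,0,3,3,1,2,0,3,4,2,2,2,4,3,1,2,0,3,3,1,2,0,3,4,2,4,3,1,2,0,3,4,2,2,4,3,1,2,0,3,3,1,2,0,3,4,2,4,3,1,2,0,3,3,1,2,0,3,4,2,2,4,3,1,2,0,3,3,1,2,0,3,4,2,4,3,1,2,0,3,4,2,2,4,3,1,2,0,3,3,1,2,0,3,4,2,4,3,1,2,0,3,4,2,2,4,3,1,2,0,3,3,1,2,0,3,4,2] (by decide +kernel)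
theorem f1543 : F [54,2] [0,27] := S.symm (f1542 S)
theorem f1544 : F [0,27] [54,2] := S.symm (f1543 S)
theorem f1545 : F [0,27,1] [54,2,1] := S.appC (f1544 S) 1 (by decide +kernel)
theorem f1547 : F [46,0,4] [46] := S.pw0C [46] 1 4 (by decide +kernel)
theorem f1548 : F [0,27,33] [0] := S.mapC (f1547 S) [0,4,2,4] (by decide +kernel)
theorem f1549 : F [54,2,1] [54] := S.mapC (f1548 S) [4,3,4,0,0,3,4,3,1,2,0,3,4,2,4,3,1,2,0,3,3,1,2,0,3,3,1,2,0,3,4,2,4,3,1,2,0,3,4,2,2,4,3,1,2,0,3,3,1,2,0,3,4,2,4,3,1,2,0,3,3,1,2,0,3,3,1,2,0,3,4,3,4,2,1,3,0,2,2,1,3,0,2,4,3,3,4,2,1,3,0,2,4,2,2,4,3,1,2,0,3,3,1,2,0,3,4,2,2,2,4,3,1,2,0,3,3,1,2,0,3,4,2,4,3,1,2,0,3,4,2,2,4,3,1,2,0,3,3,1,2,0,3,4,2,4,3,1,2,0,3,3,1,2,0,3,4,2,2,4,3,1,2,0,3,3,1,2,0,3,4,2,4,3,1,2,0,3,4,2,2,4,3,1,2,0,3,3,1,2,0,3,4,2,4,3,1,2,0,3,4,2,2,4,3,1,2,0,3,3,1,2,0,3,4,2]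 (by decide +kernel)
theorem f1550 : F [0,27,1] [54] := S.trans (f1545 S) (f1549 S)
theorem f1552 : F [0,27] [54,2] := S.mapC (f562 S) [4,3,4,0,0,3,4,3,1,2,0,3,4,2,4,3,1,2,0,3,3,1,2,0,3,3,1,2,0,3,4,2,4,3,1,2,0,3,4,2,2,4,3,1,2,0,3,3,1,2,0,3,4,2,4,3,1,2,0,3,3,1,2,0,3,3,1,2,0,3,4,3,4,2,1,3,0,2,2,1,3,0,2,4,3,3,4,2,1,3,0,2,4,2,2,4,3,1,2,0,3,3,1,2,0,3,4,2,2,2,4,3,1,2,0,3,3,1,2,0,3,4,2,4,3,1,2,0,3,4,2,2,4,3,1,2,0,3,3,1,2,0,3,4,2,4,3,1,2,0,3,3,1,2,0,3,4,2,2,4,3,1,2,0,3,3,1,2,0,3,4,2,4,3,1,2,0,3,4,2,2,4,3,1,2,0,3,3,1,2,0,3,4,2,4,3,1,2,0,3,4,2,2,4,3,1,2,0,3,3,1,2,0,3,4,2] (by decide +kernel)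
theorem f1553 : F [54,2] [0,27] := S.symm (f1552 S)
theorem f1554 : F [0,27] [54,2] := S.symm (f1553 S)
theorem f1555 : F [0,27,2] [54,2,2] := S.appC (f1554 S) 2 (by decide +kernel)
theorem f1556 : F [6,124,0,0] [6,124,1] := S.pw0C [6,124] 1 1 (by decide +kernel)
theorem f1557 : F [0,5,36,36] [0,5,57] := S.mapC (f1556 S) [4,3,0,3] (by decide +kernel)
theorem f1558 : F [0,5,57] [0,5,36,36] := S.symm (f1557 S)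
theorem f1559 : F [0,5,36,36] [83,2,36] := S.appC (f551 S) 36 (by decide +kernel)
theorem f1562 : F [0,27] [54,2] := S.mapC (f562 S) [4,3,4,0,0,3,4,3,1,2,0,3,4,2,4,3,1,2,0,3,3,1,2,0,3,3,1,2,0,3,4,2,4,3,1,2,0,3,4,2,2,4,3,1,2,0,3,3,1,2,0,3,4,2,4,3,1,2,0,3,3,1,2,0,3,3,1,2,0,3,4,3,4,2,1,3,0,2,2,1,3,0,2,4,3,3,4,2,1,3,0,2,4,2,2,4,3,1,2,0,3,3,1,2,0,3,4,2,2,2,4,3,1,2,0,3,3,1,2,0,3,4,2,4,3,1,2,0,3,4,2,2,4,3,1,2,0,3,3,1,2,0,3,4,2,4,3,1,2,0,3,3,1,2,0,3,4,2,2,4,3,1,2,0,3,3,1,2,0,3,4,2,4,3,1,2,0,3,4,2,2,4,3,1,2,0,3,3,1,2,0,3,4,2,4,3,1,2,0,3,4,2,2,4,3,1,2,0,3,3,1,2,0,3,4,2] (by decide +kernel)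
theorem f1563 : F [54,2] [0,27] := S.symm (f1562 S)
theorem f1564 : F [257,12] [7,151] := S.mapC (f1563 S) [0,3,3,3,1,3,3,0,3,1,3,3,3,1,1,4,2,1,2,0,4,1,3,0,3,4,2,2,2,0,2,1,2,2,0,2,2,2,1] (by decide +kernel)
theorem f1565 : F [257,12] [0,27] := S.trans (f1564 S) (f187 S)
theorem f1566 : F [0,27] [257,12] := S.symm (f1565 S)
theorem f1567 : F [0,27,22] [257,12,22] := S.appC (f1566 S) 22 (by decide +kernel)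
theorem f1569 : F [46,0,2] [46,4] := S.pw0C [46] 1 3 (by decide +kernel)
theorem f1570 : F [0,27,17] [0,33] := S.mapC (f1569 S) [0,4,2,4] (by decide +kernel)
theorem f1586 : F [257,12,22] [257,10] := S.mapC (f1570 S) [3,4,2,1,3,0,2,2,1,3,0,2,4,3,3,4,2,1,3,0,2,4,3,4,2,1,3,0,2,2,1,3,0,2,4,3,3,4,2,1,3,0,2,4,3,4,2,1,3,0,2,2,1,3,0,2,4,3,3,4,2,1,3,0,2,2,1,3,0,2,4,3,4,2,1,3,0,2,2,1,3,0,2,4,3,3,4,2,1,3,0,2,4,3,4,2,1,3,0,2,2,1,3,0,2,4,3,3,3,4,2,1,3,0,2,2,1,3,0,2,4,3,3,4,3,1,2,0,3,4,2,2,4,3,1,2,0,3,3,1,2,0,3,4,2,4,2,1,3,0,2,2,1,3,0,2,4,3,4,2,1,3,0,2,2,1,3,0,2,4,3,4,2,1,3,0,2,2,1,3,0,2,4,2,1,1,4,3,4,2,4] (by decide +kernel)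
theorem f1587 : F [0,27,22] [257,10] := S.trans (f1567 S) (f1586 S)
theorem f1588 : F [83,2,36] [3,59] := S.mapC (f1587 S) [3,3,3,0,3,3,1,3,0,3,3,1,3,3,4,2,0,2,0,4,1,3,1,3,0,0,0] (by decide +kernel)
theorem f1589 : F [0,5,36,36] [3,59] := S.trans (f1559 S) (f1588 S)
theorem f1590 : F [0,5,57] [3,59] := S.trans (f1558 S) (f1589 S)
theorem f1591 : F [0,5,57,59] [3,59,59] := S.appC (f1590 S) 59 (by decide +kernel)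
theorem f1592 : F [3,59,59] [0,5,57,59] := S.symm (f1591 S)
theorem f1593 : F [3,83,0,4] [3,83] := S.pw0C [3,83] 1 4 (by decide +kernel)
theorem f1594 : F [0,5,57,59] [0,5] := S.mapC (f1593 S) [1,4,3,1,3] (by decide +kernel)
theorem f1595 : F [3,59,59] [0,5] := S.trans (f1592 S) (f1594 S)
theorem f1596 : F [0,27,27] [151,1] := S.mapC (f1595 S) [4,3,4,3,1,2,0,3,3,1,2,0,3,4,2,2,2,4,3,1,2,0,3,4,2,2,4,3,1,2,0,3,3,1,2,0,3,4,2,4,3,1,2,0,3,4,2,2,4,3,1,2,0,3,3,1,2,0,3,4,2,2,2,4,3,1,2,0,3,3,1,2,0,3,4,2,4,3,1,2,0,3,4,3,4,2,1,3,0,2,2,1,3,0,2,4,3,3,4,2,1,3,0,2,4,2,2,4,3,1,2,0,3,3,1,2,0,3,4,2,4,3,1,2,0,3,4,2,2,4,3,1,2,0,3,3,1,2,0,3,4,2,4,3,1,2,0,3,3,1,2,0,3,4,2,2,4,3,1,2,0,3,3,1,2,0,3,4,2,4,2,1,3,0,2,2,1,3,0,2,4,3,4,2,1,3,0,2,2,1,3,0,2,4,3,3,4,3,1,2,0,3,4,2,2,4,3,1,2,0,3,3,1,2,0,3,4,2,4,3,1,2,0,3,3,1,2,0,3,3,1,2,0,3,3,1,2,0,3,4,2,2,4,3,1,2,0,3,3,1,2,0,3,4,2,4,3,1,2,0,3,4,2,2,4,3,1,2,0,3,3,1,2,0,3,4,2]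 (by decide +kernel)
theorem f1597 : F [54,2,2] [12,33] := S.mapC (f1596 S) [4,3,4,0,0,3,4,3,1,2,0,3,4,2,4,3,1,2,0,3,3,1,2,0,3,3,1,2,0,3,4,2,4,3,1,2,0,3,4,2,2,4,3,1,2,0,3,3,1,2,0,3,4,2,4,3,1,2,0,3,3,1,2,0,3,3,1,2,0,3,4,3,4,2,1,3,0,2,2,1,3,0,2,4,3,3,4,2,1,3,0,2,4,2,2,4,3,1,2,0,3,3,1,2,0,3,4,2,2,2,4,3,1,2,0,3,3,1,2,0,3,4,2,4,3,1,2,0,3,4,2,2,4,3,1,2,0,3,3,1,2,0,3,4,2,4,3,1,2,0,3,3,1,2,0,3,4,2,2,4,3,1,2,0,3,3,1,2,0,3,4,2,4,3,1,2,0,3,4,2,2,4,3,1,2,0,3,3,1,2,0,3,4,2,4,3,1,2,0,3,4,2,2,4,3,1,2,0,3,3,1,2,0,3,4,2] (by decide +kernel)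
theorem f1598 : F [0,27,2] [12,33] := S.trans (f1555 S) (f1597 S)

end Cfsg.Agent.Lib.TC.D.HND.Fa
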