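import Cfsg.Agent.Lib.TC.D.HND.Sys
import Cfsg.Agent.Lib.TC.D.HND.F2

namespace Cfsg.Agent.Lib.TC.D.HND.Fa

open Cfsg.Agent.Lib.TC.D.HND.Sys

set_option maxRecDepth 100000

variable {F : List Nat → List Nat → Prop} (S : Sys F)

include S

theorem f1600 : F [0,27] [54,2] := S.mapC (f562 S) [4,3,4,0,0,3,4,3,1,2,0,3,4,2,4,3,1,2,0,3,3,1,2,0,3,3,1,2,0,3,4,2,4,3,1,2,0,3,4,2,2,4,3,1,2,0,3,3,1,2,0,3,4,2,4,3,1,2,0,3,3,1,2,0,3,3,1,2,0,3,4,3,4,2,1,3,0,2,2,1,3,0,2,4,3,3,4,2,1,3,0,2,4,2,2,4,3,1,2,0,3,3,1,2,0,3,4,2,2,2,4,3,1,2,0,3,3,1,2,0,3,4,2,4,3,1,2,0,3,4,2,2,4,3,1,2,0,3,3,1,2,0,3,4,2,4,3,1,2,0,3,3,1,2,0,3,4,2,2,4,3,1,2,0,3,3,1,2,0,3,4,2,4,3,1,2,0,3,4,2,2,4,3,1,2,0,3,3,1,2,0,3,4,2,4,3,1,2,0,3,4,2,2,4,3,1,2,0,3,3,1,2,0,3,4,2] (by decide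 +kernel)
theorem f1601 : F [54,2] [0,27] := S.symm (f1600 S)
theorem f1602 : F [0,27] [54,2] := S.symm (f1601 S)
theorem f1603 : F [0,27,4] [54,2,4] := S.appC (f1602 S) 4 (by decide +kernel)
theorem f1604 : F [54,2,4] [54,1] := S.mapC (f1570 S) [4,3,4,0,0,3,4,3,1,2,0,3,4,2,4,3,1,2,0,3,3,1,2,0,3,3,1,2,0,3,4,2,4,3,1,2,0,3,4,2,2,4,3,1,2,0,3,3,1,2,0,3,4,2,4,3,1,2,0,3,3,1,2,0,3,3,1,2,0,3,4,3,4,2,1,3,0,2,2,1,3,0,2,4,3,3,4,2,1,3,0,2,4,2,2,4,3,1,2,0,3,3,1,2,0,3,4,2,2,2,4,3,1,2,0,3,3,1,2,0,3,4,2,4,3,1,2,0,3,4,2,2,4,3,1,2,0,3,3,1,2,0,3,4,2,4,3,1,2,0,3,3,1,2,0,3,4,2,2,4,3,1,2,0,3,3,1,2,0,3,4,2,4,3,1,2,0,3,4,2,2,4,3,1,2,0,3,3,1,2,0,3,4,2,4,3,1,2,0,3,4,2,2,4,3,1,2,0,3,3,1,2,0,3,4,2] (by decide +kernel)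
theorem f1605 : F [0,27,4] [54,1] := S.trans (f1603 S) (f1604 S)
theorem f1610 : F [0,27] [54,2] := S.mapC (f562 S) [4,3,4,0,0,4,3,1,2,0,3,3,1,2,0,3,3,1,2,0,3,3,1,2,0,3,4,2,2,4,3,1,2,0,3,3,1,2,0,3,4,2,4,3,1,2,0,3,3,1,2,0,3,3,1,2,0,3,4,3,4,2,1,3,0,2,2,1,3,0,2,4,3,3,4,2,1,3,0,2,4,2,2,4,3,1,2,0,3,3,1,2,0,3,4,2,2,2,4,3,1,2,0,3,3,1,2,0,3,4,2,4,3,1,2,0,3,4,2,2,4,3,1,2,0,3,3,1,2,0,3,4,2] (by decide +kernel)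
theorem f1611 : F [54,2] [0,27] := S.symm (f1610 S)
theorem f1612 : F [0,27] [54,2] := S.symm (f1611 S)
theorem f1613 : F [0,27,5] [54,2,5] := S.appC (f1612 S) 5 (by decide +kernel)
theorem f1614 : F [54,2,5] [7,1] := S.mapC (f420 S) [4,3,4,0,0,4,3,1,2,0,3,3,1,2,0,3,3,1,2,0,3,3,1,2,0,3,4,2,2,4,3,1,2,0,3,3,1,2,0,3,4,2,4,3,1,2,0,3,3,1,2,0,3,3,1,2,0,3,4,3,4,2,1,3,0,2,2,1,3,0,2,4,3,3,4,2,1,3,0,2,4,2,2,4,3,1,2,0,3,3,1,2,0,3,4,2,2,2,4,3,1,2,0,3,3,1,2,0,3,4,2,4,3,1,2,0,3,4,2,2,4,3,1,2,0,3,3,1,2,0,3,4,2] (by decide +kernel)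
theorem f1615 : F [0,27,5] [7,1] := S.trans (f1613 S) (f1614 S)
theorem f1619 : F [54,2] [0,27] := S.mapC (f562 S) [0,3,1,4,2,1,4,0,3,4,0,0,3,3,0,3,1,3,3,3,1,3,0,3,3,4,2,2,1,2,0,2,0,0,0,2,0,2,1,2,0,2,2,1,1,1,1,4,1,1,3,3,3,0,3,1,3,3,3,1,1,1,3,1,2,0,2,2,4,3,3,1,3,0,2,2,2,0,2,2,2,1,2,2,4,0,0,0,4,1,2,4,3,0,4,2,2,0,2,1,2,2] (by decide +kernel)
theorem f1620 : F [0,27] [54,2] := S.mapC (f1619 S) [4,3,4,0,0,4,3,1,2,0,3,3,1,2,0,3,4,3,4,3,1,2,0,3,4,2,2,4,3,1,2,0,3,3,1,2,0,3,4,2,4,3,1,2,0,3,3,1,2,0,3,3,1,2,0,3,3,1,2,0,3,3,1,2,0,3,4,2,2,4,3,1,2,0,3,3,1,2,0,3,4,2,4,3,1,2,0,3,3,1,2,0,3,4,2,2,4,3,1,2,0,3,3,1,2,0,3,4,2,4,2,1,3,0,2,2,1,3,0,2,4,3,4,2,1,3,0,2,2,1,3,0,2,4,3,3,4,3,1,2,0,3,4,2,2,4,3,1,2,0,3,3,1,2,0,3,4,2,4,3,1,2,0,3,3,1,2,0,3,3,1,2,0,3,3,1,2,0,3,4,2,2,4,3,1,2,0,3,3,1,2,0,3,4,2,4,3,1,2,0,3,4,2,2,4,3,1,2,0,3,3,1,2,0,3,4,2]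 (by decide +kernel)
theorem f1621 : F [54,2] [0,27] := S.symm (f1620 S)
theorem f1622 : F [0,27] [54,2] := S.symm (f1621 S)
theorem f1623 : F [0,27,8] [54,2,8] := S.appC (f1622 S) 8 (by decide +kernel)
theorem f1625 : F [99,0] [0,99] := S.mapC (f911 S) [3,4,2,1,3,0,2,2,1,3,0,2,4,3,3,4,2,1,3,0,2,4,3,4,2,1,3,0,2,2,1,3,0,2,4,3,3,4,2,1,3,0,2,4,3,4,2,1,3,0,2,2,1,3,0,2,4,3,3,4,2,1,3,0,2,4,3,4,2,1,3,0,2,2,1,3,0,2,4,3,3,3,4,2,1,3,0,2,2,1,3,0,2,4,3,3,4,3,1,2,0,3,4,2,2,4,3,1,2,0,3,3,1,2,0,3,4,2,4,2,1,3,0,2,2,1,3,0,2,2,1,3,0,2,4,3,4,2,1,3,0,2,2,1,3,0,2,4,3,3,4,2,1,3,0,2,4,2,2,4,3,1,2,0,3,3,1,2,0,3,4,2,4,3,1,2,0,3,4,3,4,2,1,3,0,2,2,1,3,0,2,4,3,3,4,2,1,3,0,2,2,1,3,0,2,2,1,3,0,2,4,2,4,2,1,3,0,2,4,2,4,2,1,3,0,2,2,1,3,0,2,4,2] (by decide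 +kernel)
theorem f1626 : F [0,99] [99,0] := S.mapC (f1625 S) [4,3,4,3,3,1,2,0,3,4,3,3,4,3,1,2,0,3,4,2,2,4,3,1,2,0,3,3,1,2,0,3,4,2,2,2,4,3,1,2,0,3,3,1,2,0,3,4,2,4,2,1,3,0,2,4,3,4,2,1,3,0,2,2,1,3,0,2,4,3,3,4,3,1,2,0,3,4,2,2,4,3,1,2,0,3,3,1,2,0,3,4,2,4,3,1,2,0,3,3,1,2,0,3,3,1,2,0,3,3,1,2,0,3,3,1,2,0,3,4,2,2,4,3,1,2,0,3,3,1,2,0,3,4,2,4,3,1,2,0,3,3,1,2,0,3,4,2,2,4,3,1,2,0,3,3,1,2,0,3,4,2,4,2,1,3,0,2,2,1,3,0,2,4,3,4,2,1,3,0,2,2,1,3,0,2,4,3,3,4,3,1,2,0,3,4,2,2,4,3,1,2,0,3,3,1,2,0,3,4,2,4,3,1,2,0,3,3,1,2,0,3,3,1,2,0,3,4] (by decide +kernel)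
theorem f1627 : F [99,0] [0,99] := S.symm (f1626 S)
theorem f1628 : F [0,99] [99,0] := S.symm (f1627 S)
theorem f1629 : F [0,99,7] [99,0,7] := S.appC (f1628 S) 7 (by decide +kernel)
theorem f1630 : F [99,0,7] [236,4] := S.mapC (f1012 S) [4,3,4,3,3,1,2,0,3,4,3,3,4,3,1,2,0,3,4,2,2,4,3,1,2,0,3,3,1,2,0,3,4,2,2,2,4,3,1,2,0,3,3,1,2,0,3,4,2,4,2,1,3,0,2,4,3,4,2,1,3,0,2,2,1,3,0,2,4,3,3,4,3,1,2,0,3,4,2,2,4,3,1,2,0,3,3,1,2,0,3,4,2,4,3,1,2,0,3,3,1,2,0,3,3,1,2,0,3,3,1,2,0,3,3,1,2,0,3,4,2,2,4,3,1,2,0,3,3,1,2,0,3,4,2,4,3,1,2,0,3,3,1,2,0,3,4,2,2,4,3,1,2,0,3,3,1,2,0,3,4,2,4,2,1,3,0,2,2,1,3,0,2,4,3,4,2,1,3,0,2,2,1,3,0,2,4,3,3,4,3,1,2,0,3,4,2,2,4,3,1,2,0,3,3,1,2,0,3,4,2,4,3,1,2,0,3,3,1,2,0,3,3,1,2,0,3,4] (by decide +kernel)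
theorem f1631 : F [0,99,7] [236,4] := S.trans (f1629 S) (f1630 S)
theorem f1632 : F [0,99,7,10] [236,4,10] := S.appC (f1631 S) 10 (by decide +kernel)
theorem f1633 : F [236,4,10] [0,99,7,10] := S.symm (f1632 S)
theorem f1634 : F [3,233,0,1] [3,233,2] := S.pw0C [3,233] 1 2 (by decide +kernel)
theorem f1635 : F [0,99,7,10] [0,99,12] := S.mapC (f1634 S) [4,2] (by decide +kernel)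
theorem f1636 : F [236,4,10] [0,99,12] := S.trans (f1633 S) (f1635 S)
theorem f1640 : F [0,99] [99,0] := S.mapC (f911 S) [4,3,4,3,4,3,4,3,1,2,0,3,3,1,2,0,3,4,3,4,3,1,2,0,3,4,3,4,3,1,2,0,3,3,1,2,0,3,4,2,2,4,3,1,2,0,3,3,1,2,0,3,4,2,4,3,1,2,0,3,3,1,2,0,3,3,1,2,0,3,3,1,2,0,3,3,1,2,0,3,4,2,2,4,3,1,2,0,3,3,1,2,0,3,4,2,4,3,1,2,0,3,4,2,2,4,3,1,2,0,3,3,1,2,0,3,4,2,4,3,1,2,0,3,4,2,2,4,3,1,2,0,3,3,1,2,0,3,4,2] (by decide +kernel)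
theorem f1641 : F [99,0] [0,99] := S.symm (f1640 S)
theorem f1642 : F [0,99] [99,0] := S.symm (f1641 S)
theorem f1643 : F [0,99,12] [99,0,12] := S.appC (f1642 S) 12 (by decide +kernel)
theorem f1644 : F [99,0,12] [252,61] := S.mapC (f1096 S) [4,3,4,3,4,3,4,3,1,2,0,3,3,1,2,0,3,4,3,4,3,1,2,0,3,4,3,4,3,1,2,0,3,3,1,2,0,3,4,2,2,4,3,1,2,0,3,3,1,2,0,3,4,2,4,3,1,2,0,3,3,1,2,0,3,3,1,2,0,3,3,1,2,0,3,3,1,2,0,3,4,2,2,4,3,1,2,0,3,3,1,2,0,3,4,2,4,3,1,2,0,3,4,2,2,4,3,1,2,0,3,3,1,2,0,3,4,2,4,3,1,2,0,3,4,2,2,4,3,1,2,0,3,3,1,2,0,3,4,2] (by decide +kernel)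
theorem f1645 : F [0,99,12] [252,61] := S.trans (f1643 S) (f1644 S)
theorem f1646 : F [236,4,10] [252,61] := S.trans (f1636 S) (f1645 S)
theorem f1647 : F [0,27,1235] [911,540] := S.mapC (f1646 S) [0,3,3,4,1,2,0,3,4,2,2,4,3,1,2,0,3,4,2,2,4,3,1,2,0,3,3,1,2,0,3,4,2,4,3,1,2,0,3,4,2,2,4,3,1,2,0,3,3,1,2,0,3,4,2,4,2,1,3,0,2,4,3,4,2,1,3,0,2,2,1,3,0,2,4,3,3,4,3,1,2,0,3,4,2,2,4,3,1,2,0,3,3,1,2,0,3,4,2,4,3,1,2,0,3,3,1,2,0,3,3,1,2,0,3,3,1,2,0,3,3,1,2,0,3,4,2,2,4,3,1,2,0,3,3,1,2,0,3,4,2,4,2,1,3,0,2,2,1,3,0,2,4,3,4,2,1,3,0,2,2,1,3,0,2,4,3,3,4,3,1,2,0,3,4,2,2,4,3,1,2,0,3,3,1,2,0,3,4,2,4,3,1,2,0,3,3,1,2,0,3,3,1,2,0,3,4] (by decide +kernel)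
theorem f1648 : F [54,2,8] [472,393] := S.mapC (f1647 S) [4,3,4,0,0,4,3,1,2,0,3,3,1,2,0,3,4,3,4,3,1,2,0,3,4,2,2,4,3,1,2,0,3,3,1,2,0,3,4,2,4,3,1,2,0,3,3,1,2,0,3,3,1,2,0,3,3,1,2,0,3,3,1,2,0,3,4,2,2,4,3,1,2,0,3,3,1,2,0,3,4,2,4,3,1,2,0,3,3,1,2,0,3,4,2,2,4,3,1,2,0,3,3,1,2,0,3,4,2,4,2,1,3,0,2,2,1,3,0,2,4,3,4,2,1,3,0,2,2,1,3,0,2,4,3,3,4,3,1,2,0,3,4,2,2,4,3,1,2,0,3,3,1,2,0,3,4,2,4,3,1,2,0,3,3,1,2,0,3,3,1,2,0,3,3,1,2,0,3,4,2,2,4,3,1,2,0,3,3,1,2,0,3,4,2,4,3,1,2,0,3,4,2,2,4,3,1,2,0,3,3,1,2,0,3,4,2] (by decide +kernel)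
theorem f1649 : F [0,27,8] [472,393] := S.trans (f1623 S) (f1648 S)
theorem f1654 : F [54,2] [0,27] := S.mapC (f562 S) [0,3,1,4,2,1,4,0,3,4,0,0,3,3,0,3,1,3,3,3,1,3,0,3,3,4,2,2,1,2,0,2,0,0,0,2,0,2,1,2,0,2,2,1,1,1,1,4,1,1,3,3,3,0,3,1,3,3,3,1,1,1,3,1,2,0,2,2,4,3,3,1,3,0,2,2,2,0,2,2,2,1,2,2,4,0,0,0,4,1,2,4,3,0,4,2,2,0,2,1,2,2] (by decide +kernel)
theorem f1655 : F [0,27] [54,2] := S.mapC (f1654 S) [4,3,4,0,0,4,3,1,2,0,3,3,1,2,0,3,4,3,4,3,1,2,0,3,4,2,2,4,3,1,2,0,3,3,1,2,0,3,4,2,4,3,1,2,0,3,4,3,4,2,1,3,0,2,2,1,3,0,2,4,3,3,4,3,1,2,0,3,4,2,2,4,3,1,2,0,3,3,1,2,0,3,4,2,4,3,1,2,0,3,3,1,2,0,3,3,1,2,0,3,4] (by decide +kernel)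
theorem f1656 : F [54,2] [0,27] := S.symm (f1655 S)
theorem f1657 : F [0,27] [54,2] := S.symm (f1656 S)
theorem f1658 : F [0,27,11] [54,2,11] := S.appC (f1657 S) 11 (by decide +kernel)
theorem f1659 : F [54,2,11] [216,1] := S.mapC (f258 S) [4,3,4,0,0,4,3,1,2,0,3,3,1,2,0,3,4,3,4,3,1,2,0,3,4,2,2,4,3,1,2,0,3,3,1,2,0,3,4,2,4,3,1,2,0,3,4,3,4,2,1,3,0,2,2,1,3,0,2,4,3,3,4,3,1,2,0,3,4,2,2,4,3,1,2,0,3,3,1,2,0,3,4,2,4,3,1,2,0,3,3,1,2,0,3,3,1,2,0,3,4] (by decide +kernel)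
theorem f1660 : F [0,27,11] [216,1] := S.trans (f1658 S) (f1659 S)
theorem f1662 : F [257,12] [54,2] := S.mapC (f187 S) [3,4,2,1,3,0,2,2,1,3,0,2,4,3,3,4,2,1,3,0,2,4,3,4,2,1,3,0,2,2,1,3,0,2,4,3,3,4,2,1,3,0,2,4,3,4,2,1,3,0,2,2,1,3,0,2,4,3,3,4,2,1,3,0,2,2,1,3,0,2,4,3,4,2,1,3,0,2,2,1,3,0,2,4,3,3,4,2,1,3,0,2,4,3,4,2,1,3,0,2,2,1,3,0,2,4,3,3,3,4,2,1,3,0,2,2,1,3,0,2,4,3,3,4,3,1,2,0,3,4,2,2,4,3,1,2,0,3,3,1,2,0,3,4,2,4,2,1,3,0,2,2,1,3,0,2,2,1,3,0,2,4,3,4,2,1,3,0,2,2,1,3,0,2,4,3,3,4,2,1,3,0,2,4,3,4,2,1,3,0,2,2,1,3,0,2,2,1,3,0,2,4,3,4,2,1,3,0,2,4,2,1,1,4,2,4] (by decide +kernel)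
theorem f1663 : F [257,12] [0,27] := S.trans (f1662 S) (f562 S)
theorem f1664 : F [257,12] [0,27] := S.mapC (f1663 S) [3,4,2,1,3,0,2,2,1,3,0,2,4,3,3,4,2,1,3,0,2,4,3,4,2,1,3,0,2,2,1,3,0,2,4,3,3,4,2,1,3,0,2,2,1,3,0,2,2,1,3,0,2,2,1,3,0,2,4,3,4,2,1,3,0,2,2,1,3,0,2,4,3,3,4,2,1,3,0,2,4,2,2,4,3,1,2,0,3,3,1,2,0,3,4,2,4,2,1,3,0,2,4,3,4,2,1,3,0,2,2,1,3,0,2,4,3,3,4,2,1,3,0,2,2,1,3,0,2,2,1,3,0,2,2,1,3,0,2,2,1,3,0,2,4,3,4,2,1,3,0,2,4] (by decide +kernel)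
theorem f1665 : F [257,12] [0,27] := S.mapC (f1664 S) [0,3,1,4,2,1,4,0,3,4,0,0,3,3,0,3,1,3,3,3,1,3,0,3,3,4,2,2,1,2,0,2,0,0,0,2,0,2,1,2,0,2,2,1,1,1,1,4,1,1,3,3,3,0,3,1,3,3,3,1,1,1,3,1,2,0,2,2,4,3,3,1,3,0,2,2,2,0,2,2,2,1,2,2,4,0,0,0,4,1,2,4,3,0,4,2,2,0,2,1,2,2] (by decide +kernel)
theorem f1666 : F [0,27] [257,12] := S.mapC (f1665 S) [4,3,4,2,4,0,0,2,4,3,1,2,0,3,4,3,3,4,3,1,2,0,3,4,2,4,3,1,2,0,3,3,1,2,0,3,4,2,4,2,1,3,0,2,2,1,3,0,2,4,3,4,2,1,3,0,2,2,1,3,0,2,4,3,3,4,3,1,2,0,3,4,2,2,4,3,1,2,0,3,3,1,2,0,3,4,2,4,3,1,2,0,3,3,1,2,0,3,3,1,2,0,3,4] (by decide +kernel)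
theorem f1667 : F [257,12] [0,27] := S.symm (f1666 S)
theorem f1668 : F [0,27] [257,12] := S.symm (f1667 S)
theorem f1669 : F [0,27,13] [257,12,13] := S.appC (f1668 S) 13 (by decide +kernel)
theorem f1673 : F [0,5] [6,4] := S.mapC (f148 S) [0,0,3,3,0,3,1,3,3,3,1,3,0,3,3,4,2,2,1,2,0,2,0,0,0,2,0,2,1,2,0,2,2,1,1,1,1,4,3,3,0,3,3,3,1,3,3,3,1,2,0,2,2,4,3,3,1,3,0,2,0,0,0,2,2,2,0,2,1,2,2,2] (by decide +kernel)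
theorem f1674 : F [6,4] [0,5] := S.symm (f1673 S)
theorem f1675 : F [0,5] [6,4] := S.symm (f1674 S)
theorem f1676 : F [0,5,22] [6,4,22] := S.appC (f1675 S) 22 (by decide +kernel)
theorem f1677 : F [6,4,22] [79,0] := S.mapC (f201 S) [0,0,3,3,0,3,1,3,3,3,1,3,0,3,3,4,2,2,1,2,0,2,0,0,0,2,0,2,1,2,0,2,2,1,1,1,1,4,3,3,0,3,3,3,1,3,3,3,1,2,0,2,2,4,3,3,1,3,0,2,0,0,0,2,2,2,0,2,1,2,2,2] (by decide +kernel)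
theorem f1678 : F [0,5,22] [79,0] := S.trans (f1676 S) (f1677 S)
theorem f1679 : F [0,5,22,125] [79,0,125] := S.appC (f1678 S) 125 (by decide +kernel)
theorem f1680 : F [79,0,125] [0,5,22,125] := S.symm (f1679 S)
theorem f1681 : F [29,314,0,3] [68,590,4] := S.rel0C [29,314] (by decide +kernel)
theorem f1682 : F [0,5,22,125] [177,17,7] := S.mapC (f1681 S) [1,2,1,4,2] (by decide +kernel)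
theorem f1683 : F [79,0,125] [177,17,7] := S.trans (f1680 S) (f1682 S)
theorem f1687 : F [6,4] [0,5] := S.mapC (f148 S) [0,3,3,1,3,0,3,1,3,1,1,1,3,1,3,0,3,3,4,2,2,1,2,0,2,2,2,0,2,1,2,2,4,0,0,0] (by decide +kernel)
theorem f1688 : F [6,4] [0,5] := S.mapC (f1687 S) [3,0,3,1,3,1,1,1,3,4,2,0,2,2,1,2,4,0,0,0] (by decide +kernel)
theorem f1691 : F [0,5] [6,4] := S.symm (f1688 S)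
theorem f1692 : F [0,5,123] [6,4,123] := S.appC (f1691 S) 123 (by decide +kernel)
theorem f1693 : F [6,4,123] [57,81,84] := S.mapC (f755 S) [1,1,1,4,3,3,0,3,1,3,3,3,1,3,0,3,3,4,2,2,1,2,0,2,0,0,0,2,0,2,1,2,0,2,2,1,3,3,3,3,0,3,1,1,1,1,3,1,2,2,0,4,1,3,3,0,2,0,2,1,2,2,2,2,1,3,3,1,3,0,3,1,3,1,1,1,3,1,3,0,3,3,4,2,2,1,2,0,2,2,2,0,2,1,2,2,4,0,0,0,3,0,3,1,3,1,1,1,3,4,2,0,2,2,1,2,4,0,0,0] (by decide +kernel)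
theorem f1694 : F [0,5,123] [57,81,84] := S.trans (f1692 S) (f1693 S)
theorem f1695 : F [177,17,7] [109,110,10] := S.mapC (f1694 S) [3,4,0,3,0,4,1,2,1,4,2] (by decide +kernel)
theorem f1696 : F [79,0,125] [109,110,10] := S.trans (f1683 S) (f1695 S)
theorem f1697 : F [0,27,364] [117,12,24] := S.mapC (f1696 S) [3,3,3,0,3,1,3,3,3,1,1,1,3,1,2,0,2,2,4,3,3,1,3,0,2,2,2,0,2,2,2,1,2,2,4,0,0,0,0,3,3,1,3,0,3,1,3,1,1,1,3,1,3,0,3,3,4,2,2,1,2,0,2,2,2,0,2,1,2,2,1,1,4,2,1,4,0,3,4,0,2,1] (by decide +kernel)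
theorem f1698 : F [257,12,13] [348,27,60] := S.mapC (f1697 S) [4,3,4,2,4,0,0,2,4,3,1,2,0,3,4,3,3,4,3,1,2,0,3,4,2,4,3,1,2,0,3,3,1,2,0,3,4,2,4,2,1,3,0,2,2,1,3,0,2,4,3,4,2,1,3,0,2,2,1,3,0,2,4,3,3,4,3,1,2,0,3,4,2,2,4,3,1,2,0,3,3,1,2,0,3,4,2,4,3,1,2,0,3,3,1,2,0,3,3,1,2,0,3,4] (by decide +kernel)
theorem f1699 : F [0,27,13] [348,27,60] := S.trans (f1669 S) (f1698 S)
theorem f1701 : F [0,27] [54,2] := S.mapC (f562 S) [4,3,4,0,0,3,4,3,1,2,0,3,4,2,4,3,1,2,0,3,3,1,2,0,3,3,1,2,0,3,4,2,4,3,1,2,0,3,4,2,2,4,3,1,2,0,3,3,1,2,0,3,4,2,4,3,1,2,0,3,3,1,2,0,3,3,1,2,0,3,4,3,4,2,1,3,0,2,2,1,3,0,2,4,3,3,4,2,1,3,0,2,4,2,2,4,3,1,2,0,3,3,1,2,0,3,4,2,2,2,4,3,1,2,0,3,3,1,2,0,3,4,2,4,3,1,2,0,3,4,2,2,4,3,1,2,0,3,3,1,2,0,3,4,2,4,3,1,2,0,3,3,1,2,0,3,4,2,2,4,3,1,2,0,3,3,1,2,0,3,4,2,4,3,1,2,0,3,4,2,2,4,3,1,2,0,3,3,1,2,0,3,4,2,4,3,1,2,0,3,4,2,2,4,3,1,2,0,3,3,1,2,0,3,4,2]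 (by decide +kernel)
theorem f1702 : F [54,2] [0,27] := S.symm (f1701 S)
theorem f1703 : F [0,27] [54,2] := S.symm (f1702 S)
theorem f1704 : F [0,27,18] [54,2,18] := S.appC (f1703 S) 18 (by decide +kernel)
theorem f1705 : F [0,5,57,156] [3,59,156] := S.appC (f1590 S) 156 (by decide +kernel)
theorem f1706 : F [3,59,156] [0,5,57,156] := S.symm (f1705 S)
theorem f1707 : F [57,93,0,3] [122,42,4] := S.rel0C [57,93] (by decide +kernel)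
theorem f1708 : F [0,5,57,156] [115,124,59] := S.mapC (f1707 S) [3,1,3,4,3,1,2,2] (by decide +kernel)
theorem f1709 : F [3,59,156] [115,124,59] := S.trans (f1706 S) (f1708 S)
theorem f1713 : F [6,4] [0,5] := S.mapC (f148 S) [0,3,3,1,3,0,3,1,3,1,1,1,3,1,3,0,3,3,4,2,2,1,2,0,2,2,2,0,2,1,2,2,4,0,0,0] (by decide +kernel)
theorem f1715 : F [0,5] [6,4] := S.symm (f1713 S)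
theorem f1716 : F [0,5,134] [6,4,134] := S.appC (f1715 S) 134 (by decide +kernel)
theorem f1718 : F [115,124,59] [122,42,59] := S.mapC (f1716 S) [3,3,0,2,4,2,0,2,4,3,1,3,4,3,1,2,2] (by decide +kernel)
theorem f1719 : F [3,59,156] [122,42,59] := S.trans (f1709 S) (f1718 S)
theorem f1720 : F [0,27,983] [7,456,27] := S.mapC (f1719 S) [4,3,4,3,1,2,0,3,3,1,2,0,3,4,2,2,2,4,3,1,2,0,3,4,2,2,4,3,1,2,0,3,3,1,2,0,3,4,2,4,3,1,2,0,3,4,2,2,4,3,1,2,0,3,3,1,2,0,3,4,2,2,2,4,3,1,2,0,3,3,1,2,0,3,4,2,4,3,1,2,0,3,4,3,4,2,1,3,0,2,2,1,3,0,2,4,3,3,4,2,1,3,0,2,4,2,2,4,3,1,2,0,3,3,1,2,0,3,4,2,4,3,1,2,0,3,4,2,2,4,3,1,2,0,3,3,1,2,0,3,4,2,4,3,1,2,0,3,3,1,2,0,3,4,2,2,4,3,1,2,0,3,3,1,2,0,3,4,2,4,2,1,3,0,2,2,1,3,0,2,4,3,4,2,1,3,0,2,2,1,3,0,2,4,3,3,4,3,1,2,0,3,4,2,2,4,3,1,2,0,3,3,1,2,0,3,4,2,4,3,1,2,0,3,3,1,2,0,3,3,1,2,0,3,3,1,2,0,3,4,2,2,4,3,1,2,0,3,3,1,2,0,3,4,2,4,3,1,2,0,3,4,2,2,4,3,1,2,0,3,3,1,2,0,3,4,2]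 (by decide +kernel)
theorem f1721 : F [54,2,18] [257,174,2] := S.mapC (f1720 S) [4,3,4,0,0,3,4,3,1,2,0,3,4,2,4,3,1,2,0,3,3,1,2,0,3,3,1,2,0,3,4,2,4,3,1,2,0,3,4,2,2,4,3,1,2,0,3,3,1,2,0,3,4,2,4,3,1,2,0,3,3,1,2,0,3,3,1,2,0,3,4,3,4,2,1,3,0,2,2,1,3,0,2,4,3,3,4,2,1,3,0,2,4,2,2,4,3,1,2,0,3,3,1,2,0,3,4,2,2,2,4,3,1,2,0,3,3,1,2,0,3,4,2,4,3,1,2,0,3,4,2,2,4,3,1,2,0,3,3,1,2,0,3,4,2,4,3,1,2,0,3,3,1,2,0,3,4,2,2,4,3,1,2,0,3,3,1,2,0,3,4,2,4,3,1,2,0,3,4,2,2,4,3,1,2,0,3,3,1,2,0,3,4,2,4,3,1,2,0,3,4,2,2,4,3,1,2,0,3,3,1,2,0,3,4,2] (by decide +kernel)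
theorem f1722 : F [0,27,18] [257,174,2] := S.trans (f1704 S) (f1721 S)
theorem f1726 : F [0,27,19] [10,33] := S.mapC (f364 S) [4,3,1,2,0,3,4,2,4,3,1,2,0,3,3,1,2,0,3,3,1,2,0,3,3,1,2,0,3,3,1,2,0,3,4,2,2,4,3,1,2,0,3,3,1,2,0,3,4,2,4,3,1,2,0,3,4,3,4,2,1,3,0,2,2,1,3,0,2,4,3,3,4,3,1,2,0,3,4,2,2,4,3,1,2,0,3,3,1,2,0,3,4,2,4,3,1,2,0,3,3,1,2,0,3,3,1,2,0,3,3,1,2,0,3,4,2,2,4,3,1,2,0,3,3,1,2,0,3,4,2,4,3,1,2,0,3,4,2,2,4,3,1,2,0,3,3,1,2,0,3,4,2] (by decide +kernel)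
theorem f1728 : F [7,151] [0,27] := S.mapC (f187 S) [0,3,1,4,2,1,4,0,3,4,0,0,3,3,0,3,1,3,3,3,1,3,0,3,3,4,2,2,1,2,0,2,0,0,0,2,0,2,1,2,0,2,2,1,1,1,1,4,1,1,3,3,3,0,3,1,3,3,3,1,1,1,3,1,2,0,2,2,4,3,3,1,3,0,2,2,2,0,2,2,2,1,2,2,4,0,0,0,4,1,2,4,3,0,4,2,2,0,2,1,2,2] (by decide +kernel)
theorem f1729 : F [7,151] [0,27] := S.mapC (f1728 S) [0,3,1,4,2,1,4,0,3,4,0,0,3,3,0,3,1,3,3,3,1,3,0,3,3,4,2,2,1,2,0,2,0,0,0,2,0,2,1,2,0,2,2,1,1,1,1,4,1,1,3,3,3,0,3,1,3,3,3,1,1,1,3,1,2,0,2,2,4,3,3,1,3,0,2,2,2,0,2,2,2,1,2,2,4,0,0,0,4,1,2,4,3,0,4,2,2,0,2,1,2,2] (by decide +kernel)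
theorem f1730 : F [7,151] [0,27] := S.mapC (f1729 S) [3,4,2,1,3,0,2,2,1,3,0,2,4,3,3,4,2,1,3,0,2,4,3,4,2,1,3,0,2,2,1,3,0,2,4,3,3,4,2,1,3,0,2,2,1,3,0,2,2,1,3,0,2,2,1,3,0,2,4,3,4,2,1,3,0,2,2,1,3,0,2,4,3,3,4,2,1,3,0,2,4,2,2,4,3,1,2,0,3,3,1,2,0,3,4,2,4,2,1,3,0,2,4,3,4,2,1,3,0,2,2,1,3,0,2,4,3,3,4,2,1,3,0,2,2,1,3,0,2,2,1,3,0,2,2,1,3,0,2,2,1,3,0,2,4,3,4,2,1,3,0,2,4] (by decide +kernel)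
theorem f1731 : F [7,151] [0,27] := S.mapC (f1730 S) [0,3,1,4,2,1,4,0,3,4,0,0,3,3,0,3,1,3,3,3,1,3,0,3,3,4,2,2,1,2,0,2,0,0,0,2,0,2,1,2,0,2,2,1,1,1,1,4,1,1,3,3,3,0,3,1,3,3,3,1,1,1,3,1,2,0,2,2,4,3,3,1,3,0,2,2,2,0,2,2,2,1,2,2,4,0,0,0,4,1,2,4,3,0,4,2,2,0,2,1,2,2] (by decide +kernel)
theorem f1732 : F [0,27] [7,151] := S.mapC (f1731 S) [3,4,3,4,3,1,2,0,3,4,2,4,3,1,2,0,3,4,3,3,4,3,1,2,0,3,4,2,2,4,3,1,2,0,3,3,1,2,0,3,4,2,4,2,1,3,0,2,2,1,3,0,2,4,3,4,2,1,3,0,2,2,1,3,0,2,4,3,3,4,3,1,2,0,3,4,2,2,4,3,1,2,0,3,3,1,2,0,3,4,2,4,3,1,2,0,3,3,1,2,0,3,3,1,2,0,3,4] (by decide +kernel)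
theorem f1733 : F [7,151] [0,27] := S.symm (f1732 S)
theorem f1734 : F [0,27] [7,151] := S.symm (f1733 S)
theorem f1735 : F [0,27,23] [7,151,23] := S.appC (f1734 S) 23 (by decide +kernel)
theorem f1736 : F [0,5,36,239] [83,2,239] := S.appC (f551 S) 239 (by decide +kernel)
theorem f1737 : F [83,2,239] [0,5,36,239] := S.symm (f1736 S)
theorem f1738 : F [12,266,0,3] [33,513,4] := S.rel0C [12,266] (by decide +kernel)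
theorem f1739 : F [0,5,36,239] [508,322,38] := S.mapC (f1738 S) [3,4,3,0,3] (by decide +kernel)
theorem f1740 : F [83,2,239] [508,322,38] := S.trans (f1737 S) (f1739 S)
theorem f1753 : F [0,5,241] [903,263] := S.mapC (f907 S) [3,4,2,1,3,0,2,2,1,3,0,2,4,3,3,4,2,1,3,0,2,4,3,4,2,1,3,0,2,2,1,3,0,2,4,3,3,4,2,1,3,0,2,4,3,4,2,1,3,0,2,2,1,3,0,2,4,3,3,4,2,1,3,0,2,4,3,4,2,1,3,0,2,2,1,3,0,2,4,3,3,4,3,1,2,0,3,4,2,2,4,3,1,2,0,3,3,1,2,0,3,4,2,4,2,1,3,0,2,4,3,4,2,1,3,0,2,2,1,3,0,2,4,3,3,4,2,1,3,0,2,2,1,3,0,2,2,1,3,0,2,4,3,4,2,1,3,0,2,2,1,3,0,2,4,3,3,4,2,1,3,0,2,4] (by decide +kernel)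
theorem f1754 : F [508,322,38] [81,106] := S.mapC (f1753 S) [2,1,2,4,2,4,3,4,3,0,3] (by decide +kernel)
theorem f1755 : F [83,2,239] [81,106] := S.trans (f1740 S) (f1754 S)
theorem f1756 : F [0,27,576] [4,339] := S.mapC (f1755 S) [1,1,1,2,0,2,0,4,1,3,1,3,4,2,2,0,2,2,1,2,0,2,2,1,2,2,2] (by decide +kernel)
theorem f1757 : F [7,151,23] [22,169] := S.mapC (f1756 S) [3,4,3,4,3,1,2,0,3,4,2,4,3,1,2,0,3,4,3,3,4,3,1,2,0,3,4,2,2,4,3,1,2,0,3,3,1,2,0,3,4,2,4,2,1,3,0,2,2,1,3,0,2,4,3,4,2,1,3,0,2,2,1,3,0,2,4,3,3,4,3,1,2,0,3,4,2,2,4,3,1,2,0,3,3,1,2,0,3,4,2,4,3,1,2,0,3,3,1,2,0,3,3,1,2,0,3,4] (by decide +kernel)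
theorem f1758 : F [0,27,23] [22,169] := S.trans (f1735 S) (f1757 S)
theorem f1760 : F [7,151] [0,27] := S.mapC (f187 S) [3,4,2,1,3,0,2,2,1,3,0,2,4,3,3,4,2,1,3,0,2,4,3,4,2,1,3,0,2,2,1,3,0,2,4,3,3,4,2,1,3,0,2,2,1,3,0,2,2,1,3,0,2,2,1,3,0,2,4,3,4,2,1,3,0,2,2,1,3,0,2,4,3,3,4,2,1,3,0,2,4,2,2,4,3,1,2,0,3,3,1,2,0,3,4,2,4,2,1,3,0,2,4,3,4,2,1,3,0,2,2,1,3,0,2,4,3,3,4,2,1,3,0,2,2,1,3,0,2,2,1,3,0,2,2,1,3,0,2,2,1,3,0,2,4,3,4,2,1,3,0,2,4] (by decide +kernel)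
theorem f1761 : F [7,151] [0,27] := S.mapC (f1760 S) [0,3,1,4,2,1,4,0,3,4,0,0,3,3,0,3,1,3,3,3,1,3,0,3,3,4,2,2,1,2,0,2,0,0,0,2,0,2,1,2,0,2,2,1,1,1,1,4,1,1,3,3,3,0,3,1,3,3,3,1,1,1,3,1,2,0,2,2,4,3,3,1,3,0,2,2,2,0,2,2,2,1,2,2,4,0,0,0,4,1,2,4,3,0,4,2,2,0,2,1,2,2] (by decide +kernel)
theorem f1762 : F [0,27] [7,151] := S.mapC (f1761 S) [3,4,3,4,3,1,2,0,3,4,2,4,3,1,2,0,3,4,3,3,4,3,1,2,0,3,4,2,2,4,3,1,2,0,3,3,1,2,0,3,4,2,4,2,1,3,0,2,2,1,3,0,2,4,3,4,2,1,3,0,2,2,1,3,0,2,4,3,3,4,3,1,2,0,3,4,2,2,4,3,1,2,0,3,3,1,2,0,3,4,2,4,3,1,2,0,3,4,3,4,2,1,3,0,2,2,1,3,0,2,4,3,3,4,3,1,2,0,3,4,2,2,4,3,1,2,0,3,3,1,2,0,3,4,2,4,3,1,2,0,3,3,1,2,0,3,3,1,2,0,3,3,1,2,0,3,3,1,2,0,3,4,2,2,4,3,1,2,0,3,3,1,2,0,3,4,2,4,3,1,2,0,3,4,2,2,4,3,1,2,0,3,3,1,2,0,3,4,2,4,3,1,2,0,3,4,2,2,4,3,1,2,0,3,3,1,2,0,3,4,2]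 (by decide +kernel)
theorem f1763 : F [7,151] [0,27] := S.symm (f1762 S)
theorem f1764 : F [0,27] [7,151] := S.symm (f1763 S)
theorem f1765 : F [0,27,28] [7,151,28] := S.appC (f1764 S) 28 (by decide +kernel)
theorem f1767 : F [99,0] [0,99] := S.mapC (f911 S) [3,4,2,1,3,0,2,2,1,3,0,2,4,3,3,4,2,1,3,0,2,4,3,4,2,1,3,0,2,2,1,3,0,2,4,3,3,4,2,1,3,0,2,4,3,4,2,1,3,0,2,2,1,3,0,2,4,3,3,4,2,1,3,0,2,4,3,4,2,1,3,0,2,2,1,3,0,2,4,3,3,3,4,2,1,3,0,2,2,1,3,0,2,4,3,3,4,3,1,2,0,3,4,2,2,4,3,1,2,0,3,3,1,2,0,3,4,2,4,2,1,3,0,2,2,1,3,0,2,2,1,3,0,2,4,3,4,2,1,3,0,2,2,1,3,0,2,4,3,3,4,2,1,3,0,2,4,2,2,4,3,1,2,0,3,3,1,2,0,3,4,2,4,3,1,2,0,3,4,3,4,2,1,3,0,2,2,1,3,0,2,4,3,3,4,2,1,3,0,2,2,1,3,0,2,2,1,3,0,2,4,2,4,2,1,3,0,2,4,2,4,2,1,3,0,2,2,1,3,0,2,4,2] (by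 decide +kernel)
theorem f1768 : F [0,99] [99,0] := S.mapC (f1767 S) [4,3,4,3,3,1,2,0,3,4,3,3,4,3,1,2,0,3,4,2,2,4,3,1,2,0,3,3,1,2,0,3,4,2,2,2,4,3,1,2,0,3,3,1,2,0,3,4,2,4,2,1,3,0,2,4,3,4,2,1,3,0,2,2,1,3,0,2,4,3,3,4,3,1,2,0,3,4,2,2,4,3,1,2,0,3,3,1,2,0,3,4,2,4,3,1,2,0,3,3,1,2,0,3,3,1,2,0,3,3,1,2,0,3,3,1,2,0,3,4,2,2,4,3,1,2,0,3,3,1,2,0,3,4,2,4,3,1,2,0,3,3,1,2,0,3,4,2,2,4,3,1,2,0,3,3,1,2,0,3,4,2,4,2,1,3,0,2,2,1,3,0,2,4,3,4,2,1,3,0,2,2,1,3,0,2,4,3,3,4,3,1,2,0,3,4,2,2,4,3,1,2,0,3,3,1,2,0,3,4,2,4,3,1,2,0,3,3,1,2,0,3,3,1,2,0,3,4] (by decide +kernel)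
theorem f1769 : F [99,0] [0,99] := S.symm (f1768 S)
theorem f1770 : F [0,99] [99,0] := S.symm (f1769 S)
theorem f1771 : F [0,99,7] [99,0,7] := S.appC (f1770 S) 7 (by decide +kernel)
theorem f1772 : F [99,0,7] [236,4] := S.mapC (f1012 S) [4,3,4,3,3,1,2,0,3,4,3,3,4,3,1,2,0,3,4,2,2,4,3,1,2,0,3,3,1,2,0,3,4,2,2,2,4,3,1,2,0,3,3,1,2,0,3,4,2,4,2,1,3,0,2,4,3,4,2,1,3,0,2,2,1,3,0,2,4,3,3,4,3,1,2,0,3,4,2,2,4,3,1,2,0,3,3,1,2,0,3,4,2,4,3,1,2,0,3,3,1,2,0,3,3,1,2,0,3,3,1,2,0,3,3,1,2,0,3,4,2,2,4,3,1,2,0,3,3,1,2,0,3,4,2,4,3,1,2,0,3,3,1,2,0,3,4,2,2,4,3,1,2,0,3,3,1,2,0,3,4,2,4,2,1,3,0,2,2,1,3,0,2,4,3,4,2,1,3,0,2,2,1,3,0,2,4,3,3,4,3,1,2,0,3,4,2,2,4,3,1,2,0,3,3,1,2,0,3,4,2,4,3,1,2,0,3,3,1,2,0,3,3,1,2,0,3,4] (by decide +kernel)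
theorem f1773 : F [0,99,7] [236,4] := S.trans (f1771 S) (f1772 S)
theorem f1774 : F [0,99,7,137] [236,4,137] := S.appC (f1773 S) 137 (by decide +kernel)
theorem f1775 : F [236,4,137] [0,99,7,137] := S.symm (f1774 S)
theorem f1776 : F [8,122,0,3] [21,57,4] := S.rel0C [8,122] (by decide +kernel)
theorem f1777 : F [0,99,7,137] [40,58,22] := S.mapC (f1776 S) [1,3,3,1,3,1,4,2,1,2,1,3,1] (by decide +kernel)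
theorem f1778 : F [236,4,137] [40,58,22] := S.trans (f1775 S) (f1777 S)
theorem f1784 : F [99,0] [0,99] := S.mapC (f911 S) [3,4,2,1,3,0,2,2,1,3,0,2,4,3,3,4,2,1,3,0,2,4,3,4,2,1,3,0,2,2,1,3,0,2,4,3,3,4,2,1,3,0,2,4,3,4,2,1,3,0,2,2,1,3,0,2,4,3,3,4,2,1,3,0,2,2,1,3,0,2,4,3,4,2,1,3,0,2,2,1,3,0,2,4,3,3,4,2,1,3,0,2,4,3,4,2,1,3,0,2,2,1,3,0,2,4,3,3,4,3,1,2,0,3,4,2,2,4,3,1,2,0,3,3,1,2,0,3,4,2,4,2,1,3,0,2,2,1,3,0,2,2,1,3,0,2,4,3,4,2,1,3,0,2,2,1,3,0,2,4,3,3,4,2,1,3,0,2,4,2,2,4,3,1,2,0,3,3,1,2,0,3,4,2,4,3,1,2,0,3,3,1,2,0,3,4,3,4,2,1,3,0,2,2,1,3,0,2,4,3,3,4,2,1,3,0,2,2,1,3,0,2,4,3,4,2,1,3,0,2,2,1,3,0,2,4,3,3,4,2,1,3,0,2,2,1,3,0,2,2,1,3,0,2,2,1,3,0,2,4,3,4,2,1,3,0,2,2,1,3,0,2,4,3,3,4,2,1,3,0,2,2,1,3,0,2,2,1,3,0,2,2,1,3,0,2,4,3,3,3,4,2,1,3,0,2,2,1,3,0,2,2,1,3,0,2,2,1,3,0,2,4]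 (by decide +kernel)
theorem f1787 : F [0,99] [99,0] := S.symm (f1784 S)
theorem f1788 : F [0,99,138] [99,0,138] := S.appC (f1787 S) 138 (by decide +kernel)
theorem f1789 : F [99,0,138] [17,22,62] := S.mapC (f984 S) [3,4,2,1,3,0,2,2,1,3,0,2,4,3,3,4,2,1,3,0,2,4,3,4,2,1,3,0,2,2,1,3,0,2,4,3,3,4,2,1,3,0,2,4,3,4,2,1,3,0,2,2,1,3,0,2,4,3,3,4,2,1,3,0,2,2,1,3,0,2,2,1,3,0,2,2,1,3,0,2,2,1,3,0,2,4,3,4,2,1,3,0,2,2,1,3,0,2,4,3,3,4,2,1,3,0,2,4,2,2,4,3,1,2,0,3,3,1,2,0,3,4,2,4,3,1,2,0,3,3,1,2,0,3,4,3,4,2,1,3,0,2,2,1,3,0,2,4,3,3,4,2,1,3,0,2,2,1,3,0,2,4,3,4,2,1,3,0,2,2,1,3,0,2,4,3,3,4,2,1,3,0,2,2,1,3,0,2,2,1,3,0,2,4,3,4,2,1,3,0,2,2,1,3,0,2,4,3,3,3,4,2,1,3,0,2,2,1,3,0,2,4,3,3,4,2,1,3,0,2,4,3,4,2,1,3,0,2,2,4,2,4] (by decide +kernel)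
theorem f1790 : F [0,99,138] [17,22,62] := S.trans (f1788 S) (f1789 S)
theorem f1791 : F [40,58,22] [15,138,2] := S.mapC (f1790 S) [0,2,0,3,0,3,4,0,2,0,2,2,0,4,1,3,3,1,3,1,4,2,1,2,1,3,1] (by decide +kernel)
theorem f1792 : F [236,4,137] [15,138,2] := S.trans (f1778 S) (f1791 S)
theorem f1793 : F [0,27,918] [12,917,54] := S.mapC (f1792 S) [0,3,3,4,1,2,0,3,4,2,2,4,3,1,2,0,3,4,2,2,4,3,1,2,0,3,3,1,2,0,3,4,2,4,3,1,2,0,3,4,2,2,4,3,1,2,0,3,3,1,2,0,3,4,2,4,2,1,3,0,2,4,3,4,2,1,3,0,2,2,1,3,0,2,4,3,3,4,3,1,2,0,3,4,2,2,4,3,1,2,0,3,3,1,2,0,3,4,2,4,3,1,2,0,3,3,1,2,0,3,3,1,2,0,3,3,1,2,0,3,3,1,2,0,3,4,2,2,4,3,1,2,0,3,3,1,2,0,3,4,2,4,2,1,3,0,2,2,1,3,0,2,4,3,4,2,1,3,0,2,2,1,3,0,2,4,3,3,4,3,1,2,0,3,4,2,2,4,3,1,2,0,3,3,1,2,0,3,4,2,4,3,1,2,0,3,3,1,2,0,3,3,1,2,0,3,4]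 (by decide +kernel)
theorem f1794 : F [7,151,28] [2,29,257] := S.mapC (f1793 S) [3,4,3,4,3,1,2,0,3,4,2,4,3,1,2,0,3,4,3,3,4,3,1,2,0,3,4,2,2,4,3,1,2,0,3,3,1,2,0,3,4,2,4,2,1,3,0,2,2,1,3,0,2,4,3,4,2,1,3,0,2,2,1,3,0,2,4,3,3,4,3,1,2,0,3,4,2,2,4,3,1,2,0,3,3,1,2,0,3,4,2,4,3,1,2,0,3,4,3,4,2,1,3,0,2,2,1,3,0,2,4,3,3,4,3,1,2,0,3,4,2,2,4,3,1,2,0,3,3,1,2,0,3,4,2,4,3,1,2,0,3,3,1,2,0,3,3,1,2,0,3,3,1,2,0,3,3,1,2,0,3,4,2,2,4,3,1,2,0,3,3,1,2,0,3,4,2,4,3,1,2,0,3,4,2,2,4,3,1,2,0,3,3,1,2,0,3,4,2,4,3,1,2,0,3,4,2,2,4,3,1,2,0,3,3,1,2,0,3,4,2] (by decide +kernel)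
theorem f1795 : F [0,27,28] [2,29,257] := S.trans (f1765 S) (f1794 S)
theorem f1805 : F [0,5] [6,4] := S.mapC (f148 S) [0,0,3,3,0,3,1,3,3,3,1,3,0,3,3,4,2,2,1,2,0,2,0,0,0,2,0,2,1,2,0,2,2,1,1,1,1,4,3,3,0,3,3,3,1,3,3,3,1,2,0,2,2,4,3,3,1,3,0,2,0,0,0,2,2,2,0,2,1,2,2,2] (by decide +kernel)
theorem f1806 : F [6,4] [0,5] := S.symm (f1805 S)
theorem f1807 : F [0,5] [6,4] := S.symm (f1806 S)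
theorem f1808 : F [0,5,22] [6,4,22] := S.appC (f1807 S) 22 (by decide +kernel)
theorem f1809 : F [6,4,22] [79,0] := S.mapC (f201 S) [0,0,3,3,0,3,1,3,3,3,1,3,0,3,3,4,2,2,1,2,0,2,0,0,0,2,0,2,1,2,0,2,2,1,1,1,1,4,3,3,0,3,3,3,1,3,3,3,1,2,0,2,2,4,3,3,1,3,0,2,0,0,0,2,2,2,0,2,1,2,2,2] (by decide +kernel)
theorem f1810 : F [0,5,22] [79,0] := S.trans (f1808 S) (f1809 S)
theorem f1811 : F [0,5,22,117] [79,0,117] := S.appC (f1810 S) 117 (by decide +kernel)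
theorem f1812 : F [79,0,117] [0,5,22,117] := S.symm (f1811 S)
theorem f1813 : F [23,80,0,3] [56,167,4] := S.rel0C [23,80] (by decide +kernel)
theorem f1814 : F [0,5,22,117] [177,170,7] := S.mapC (f1813 S) [1,1,2,4,2] (by decide +kernel)
theorem f1815 : F [79,0,117] [177,170,7] := S.trans (f1812 S) (f1814 S)
theorem f1823 : F [0,5,44] [116,99,32] := S.mapC (f794 S) [4,3,1,2,0,3,4,2,2,4,3,1,2,0,3,3,1,2,0,3,4,2,4,3,1,2,0,3,4,2,2,4,3,1,2,0,3,3,1,2,0,3,4,2,4,3,1,2,0,3,4,3,4,2,1,3,0,2,2,1,3,0,2,4,3,3,4,2,1,3,0,2,4,2,2,4,3,1,2,0,3,3,1,2,0,3,4,2,2,2,4,3,1,2,0,3,3,1,2,0,3,4,2,4,3,1,2,0,3,4,2,2,4,3,1,2,0,3,3,1,2,0,3,4,2,4,3,1,2,0,3,3,1,2,0,3,4,2,2,4,3,1,2,0,3,3,1,2,0,3,4,2] (by decide +kernel)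
theorem f1824 : F [177,170,7] [40,97,164] := S.mapC (f1823 S) [3,4,3,0,0,4,1,1,2,4,2] (by decide +kernel)
theorem f1825 : F [79,0,117] [40,97,164] := S.trans (f1815 S) (f1824 S)
theorem f1826 : F [0,27,434] [1118,1121,65] := S.mapC (f1825 S) [3,3,3,0,3,1,3,3,3,1,1,1,3,1,2,0,2,2,4,3,3,1,3,0,2,2,2,0,2,2,2,1,2,2,4,0,0,0,0,3,3,1,3,0,3,1,3,1,1,1,3,1,3,0,3,3,4,2,2,1,2,0,2,2,2,0,2,1,2,2,1,1,4,2,1,4,0,3,4,0,2,1] (by decide +kernel)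
theorem f1827 : F [0,27,31] [308,298,233] := S.mapC (f1826 S) [3,4,3,1,2,0,3,4,3,3,4,2,1,3,0,2,4,2,2,4,3,1,2,0,3,3,1,2,0,3,4,2,4,3,1,2,0,3,4,2,2,4,3,1,2,0,3,3,1,2,0,3,4,2,4,2,1,3,0,2,2,1,3,0,2,4,3,4,2,1,3,0,2,2,1,3,0,2,4,3,3,4,3,1,2,0,3,4,2,2,4,3,1,2,0,3,3,1,2,0,3,4,2,4,3,1,2,0,3,3,1,2,0,3,3,1,2,0,3,3,1,2,0,3,4,2,2,4,3,1,2,0,3,3,1,2,0,3,4,2,4,3,1,2,0,3,4,2,2,4,3,1,2,0,3,3,1,2,0,3,4,2] (by decide +kernel)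
theorem f1829 : F [0,5] [6,4] := S.mapC (f148 S) [0,0,4,0,0,0] (by decide +kernel)
theorem f1830 : F [6,4] [0,5] := S.symm (f1829 S)
theorem f1831 : F [0,5] [6,4] := S.symm (f1830 S)
theorem f1832 : F [0,5,0] [6,4,0] := S.appC (f1831 S) 0 (by decide +kernel)
theorem f1834 : F [5,0,4] [5] := S.pw0C [5] 1 4 (by decide +kernel)
theorem f1835 : F [0,5,6] [0] := S.mapC (f1834 S) [0,4] (by decide +kernel)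
theorem f1836 : F [6,4,0] [6] := S.mapC (f1835 S) [0,0,4,0,0,0] (by decide +kernel)
theorem f1837 : F [0,5,0] [6] := S.trans (f1832 S) (f1836 S)
theorem f1839 : F [0,5] [6,4] := S.mapC (f148 S) [0,0,4,0,0,0] (by decide +kernel)
theorem f1840 : F [6,4] [0,5] := S.symm (f1839 S)
theorem f1841 : F [0,5] [6,4] := S.symm (f1840 S)
theorem f1842 : F [0,5,1] [6,4,1] := S.appC (f1841 S) 1 (by decide +kernel)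
theorem f1843 : F [6,4,1] [6,0] := S.mapC (f822 S) [0,0,4,0,0,0] (by decide +kernel)
theorem f1844 : F [0,5,1] [6,0] := S.trans (f1842 S) (f1843 S)
theorem f1846 : F [0,5] [6,4] := S.mapC (f148 S) [0,0,4,0,0,0] (by decide +kernel)
theorem f1847 : F [6,4] [0,5] := S.symm (f1846 S)
theorem f1848 : F [0,5] [6,4] := S.symm (f1847 S)
theorem f1849 : F [0,5,2] [6,4,2] := S.appC (f1848 S) 2 (by decide +kernel)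
theorem f1850 : F [6,4,2] [5] := S.mapC (f1514 S) [0,0,4,0,0,0] (by decide +kernel)
theorem f1851 : F [0,5,2] [5] := S.trans (f1849 S) (f1850 S)
theorem f1853 : F [0,5] [6,4] := S.mapC (f148 S) [0,0,4,0,0,0] (by decide +kernel)
theorem f1854 : F [6,4] [0,5] := S.symm (f1853 S)
theorem f1855 : F [0,5] [6,4] := S.symm (f1854 S)
theorem f1856 : F [0,5,4] [6,4,4] := S.appC (f1855 S) 4 (by decide +kernel)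
theorem f1857 : F [6,4,4] [4,6] := S.mapC (f681 S) [0,0,4,0,0,0] (by decide +kernel)
theorem f1858 : F [0,5,4] [4,6] := S.trans (f1856 S) (f1857 S)
theorem f1862 : F [0,5,10] [120,165,22] := S.mapC (f755 S) [1,1,1,4,3,3,0,3,1,3,3,3,1,3,0,3,3,4,2,2,1,2,0,2,0,0,0,2,0,2,1,2,0,2,2,1] (by decide +kernel)
theorem f1866 : F [0,5,12] [120,165] := S.mapC (f731 S) [1,1,1,4,3,3,0,3,1,3,3,3,1,3,0,3,3,4,2,2,1,2,0,2,0,0,0,2,0,2,1,2,0,2,2,1] (by decide +kernel)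
theorem f1870 : F [0,5] [6,4] := S.mapC (f148 S) [0,0,3,3,0,3,1,3,3,3,1,3,0,3,3,4,2,2,1,2,0,2,0,0,0,2,0,2,1,2,0,2,2,1,1,1,1,4,3,3,0,3,3,3,1,3,3,3,1,2,0,2,2,4,3,3,1,3,0,2,0,0,0,2,2,2,0,2,1,2,2,2] (by decide +kernel)
theorem f1871 : F [6,4] [0,5] := S.symm (f1870 S)
theorem f1872 : F [0,5] [6,4] := S.symm (f1871 S)
theorem f1873 : F [0,5,22] [6,4,22] := S.appC (f1872 S) 22 (by decide +kernel)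
theorem f1874 : F [6,4,22] [79,0] := S.mapC (f201 S) [0,0,3,3,0,3,1,3,3,3,1,3,0,3,3,4,2,2,1,2,0,2,0,0,0,2,0,2,1,2,0,2,2,1,1,1,1,4,3,3,0,3,3,3,1,3,3,3,1,2,0,2,2,4,3,3,1,3,0,2,0,0,0,2,2,2,0,2,1,2,2,2] (by decide +kernel)
theorem f1875 : F [0,5,22] [79,0] := S.trans (f1873 S) (f1874 S)
theorem f1883 : F [0,5,44] [116,99,32] := S.mapC (f794 S) [4,3,1,2,0,3,4,2,2,4,3,1,2,0,3,3,1,2,0,3,4,2,4,3,1,2,0,3,4,2,2,4,3,1,2,0,3,3,1,2,0,3,4,2,4,3,1,2,0,3,4,3,4,2,1,3,0,2,2,1,3,0,2,4,3,3,4,2,1,3,0,2,4,2,2,4,3,1,2,0,3,3,1,2,0,3,4,2,2,2,4,3,1,2,0,3,3,1,2,0,3,4,2,4,3,1,2,0,3,4,2,2,4,3,1,2,0,3,3,1,2,0,3,4,2,4,3,1,2,0,3,3,1,2,0,3,4,2,2,4,3,1,2,0,3,3,1,2,0,3,4,2] (by decide +kernel)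
theorem f1887 : F [0,5] [6,4] := S.mapC (f148 S) [0,0,3,3,0,3,1,3,3,3,1,3,0,3,3,4,2,2,1,2,0,2,0,0,0,2,0,2,1,2,0,2,2,1,1,1,1,4,3,0,3,3,1,3,4,2,0,0,0,2,0,2,1,2] (by decide +kernel)
theorem f1888 : F [6,4] [0,5] := S.symm (f1887 S)
theorem f1889 : F [0,5] [6,4] := S.symm (f1888 S)
theorem f1890 : F [0,5,45] [6,4,45] := S.appC (f1889 S) 45 (by decide +kernel)
theorem f1891 : F [5,122,0,0] [5,122,1] := S.pw0C [5,122] 1 1 (by decide +kernel)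
theorem f1892 : F [0,5,38,38] [0,5,59] := S.mapC (f1891 S) [4,3,1,3] (by decide +kernel)
theorem f1893 : F [0,5,59] [0,5,38,38] := S.symm (f1892 S)
theorem f1894 : F [0,5,38,38] [3,38] := S.appC (f848 S) 38 (by decide +kernel)
theorem f1912 : F [0,187] [2,130] := S.mapC (f1532 S) [2,2,0,2,1,3,0,3,3,1,3,0,3,3,3,1] (by decide +kernel)
theorem f1913 : F [3,38] [6,124] := S.mapC (f1912 S) [4,2,1,3,0,2,2,1,3,0,2,2,1,3,0,2,4,3,4,2,1,3,0,2,2,1,3,0,2,4,3,3,4,2,1,3,0,2,4,2,2,4,3,1,2,0,3,3,1,2,0,3,4,2,4,2,1,3,0,2,4,3,4,2,1,3,0,2,2,1,3,0,2,4,3,3,4,2,1,3,0,2,4,2,2,4,3,1,2,0,3,3,1,2,0,3,4,2,4,3,1,2,0,3,4,3,4,2,1,3,0,2,2,1,3,0,2,4,3,3,3,4,2,1,3,0,2,2,1,3,0,2,4,3,3,4] (by decide +kernel)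
theorem f1914 : F [0,5,38,38] [6,124] := S.trans (f1894 S) (f1913 S)
theorem f1915 : F [0,5,59] [6,124] := S.trans (f1893 S) (f1914 S)
theorem f1916 : F [6,4,45] [0,254] := S.mapC (f1915 S) [0,0,3,3,0,3,1,3,3,3,1,3,0,3,3,4,2,2,1,2,0,2,0,0,0,2,0,2,1,2,0,2,2,1,1,1,1,4,3,0,3,3,1,3,4,2,0,0,0,2,0,2,1,2] (by decide +kernel)
theorem f1917 : F [0,5,45] [0,254] := S.trans (f1890 S) (f1916 S)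
theorem f1924 : F [0,5,65] [38,64] := S.mapC (f907 S) [1,1,1,4,3,0,3,3,1,3,4,2,0,0,0,2,0,2,1,2,1,1,1,4,3,0,3,3,1,3,4,2,0,0,0,2,0,2,1,2,1,1,1,4,3,3,0,3,3,3,1,3,3,3,1,2,0,2,2,4,3,3,1,3,0,2,0,0,0,2,2,2,0,2,1,2,2,2,1,1,1,4,3,3,0,3,1,3,3,3,1,3,0,3,3,4,2,2,1,2,0,2,0,0,0,2,0,2,1,2,0,2,2,1] (by decide +kernel)
theorem f1926 : F [0,99] [99,0] := S.mapC (f911 S) [4,3,4,3,3,1,2,0,3,3,1,2,0,3,4,3,3,4,3,1,2,0,3,3,1,2,0,3,3,1,2,0,3,4,2,4,3,1,2,0,3,3,1,2,0,3,3,1,2,0,3,3,1,2,0,3,4,2,2,4,3,1,2,0,3,3,1,2,0,3,4,2,4,3,1,2,0,3,3,1,2,0,3,4,2,2,4,3,1,2,0,3,3,1,2,0,3,4,2,4,2,1,3,0,2,2,1,3,0,2,4,3,4,2,1,3,0,2,2,1,3,0,2,4,3,3,4,3,1,2,0,3,4,2,2,4,3,1,2,0,3,3,1,2,0,3,4,2,4,3,1,2,0,3,3,1,2,0,3,3,1,2,0,3,3,1,2,0,3,4,2,2,4,3,1,2,0,3,3,1,2,0,3,4,2,4,3,1,2,0,3,4,2,2,4,3,1,2,0,3,3,1,2,0,3,4,2]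 (by decide +kernel)
theorem f1927 : F [99,0] [0,99] := S.symm (f1926 S)
theorem f1928 : F [0,99] [99,0] := S.symm (f1927 S)
theorem f1929 : F [0,99,0] [99,0,0] := S.appC (f1928 S) 0 (by decide +kernel)
theorem f1931 : F [114,0,0] [114,1] := S.pw0C [114] 1 1 (by decide +kernel)
theorem f1932 : F [0,99,99] [0,140] := S.mapC (f1931 S) [4,2,4,2,4] (by decide +kernel)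
theorem f1942 : F [99,0,0] [99,1] := S.mapC (f1932 S) [4,3,4,3,3,1,2,0,3,3,1,2,0,3,4,3,3,4,3,1,2,0,3,3,1,2,0,3,3,1,2,0,3,4,2,4,3,1,2,0,3,3,1,2,0,3,3,1,2,0,3,3,1,2,0,3,4,2,2,4,3,1,2,0,3,3,1,2,0,3,4,2,4,3,1,2,0,3,3,1,2,0,3,4,2,2,4,3,1,2,0,3,3,1,2,0,3,4,2,4,2,1,3,0,2,2,1,3,0,2,4,3,4,2,1,3,0,2,2,1,3,0,2,4,3,3,4,3,1,2,0,3,4,2,2,4,3,1,2,0,3,3,1,2,0,3,4,2,4,3,1,2,0,3,3,1,2,0,3,3,1,2,0,3,3,1,2,0,3,4,2,2,4,3,1,2,0,3,3,1,2,0,3,4,2,4,3,1,2,0,3,4,2,2,4,3,1,2,0,3,3,1,2,0,3,4,2] (by decide +kernel)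
theorem f1943 : F [0,99,0] [99,1] := S.trans (f1929 S) (f1942 S)
theorem f1945 : F [0,99] [99,0] := S.mapC (f911 S) [4,3,4,3,3,1,2,0,3,3,1,2,0,3,4,3,3,4,3,1,2,0,3,3,1,2,0,3,3,1,2,0,3,4,2,4,3,1,2,0,3,3,1,2,0,3,3,1,2,0,3,3,1,2,0,3,4,2,2,4,3,1,2,0,3,3,1,2,0,3,4,2,4,3,1,2,0,3,3,1,2,0,3,4,2,2,4,3,1,2,0,3,3,1,2,0,3,4,2,4,2,1,3,0,2,2,1,3,0,2,4,3,4,2,1,3,0,2,2,1,3,0,2,4,3,3,4,3,1,2,0,3,4,2,2,4,3,1,2,0,3,3,1,2,0,3,4,2,4,3,1,2,0,3,3,1,2,0,3,3,1,2,0,3,3,1,2,0,3,4,2,2,4,3,1,2,0,3,3,1,2,0,3,4,2,4,3,1,2,0,3,4,2,2,4,3,1,2,0,3,3,1,2,0,3,4,2] (by decide +kernel)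
theorem f1946 : F [99,0] [0,99] := S.symm (f1945 S)
theorem f1947 : F [0,99] [99,0] := S.symm (f1946 S)
theorem f1948 : F [0,99,1] [99,0,1] := S.appC (f1947 S) 1 (by decide +kernel)
theorem f1950 : F [114,0,1] [114,2] := S.pw0C [114] 1 2 (by decide +kernel)
theorem f1951 : F [0,99,140] [0,160] := S.mapC (f1950 S) [4,2,4,2,4] (by decide +kernel)
theorem f1963 : F [99,0,1] [99,2] := S.mapC (f1951 S) [4,3,4,3,3,1,2,0,3,3,1,2,0,3,4,3,3,4,3,1,2,0,3,3,1,2,0,3,3,1,2,0,3,4,2,4,3,1,2,0,3,3,1,2,0,3,3,1,2,0,3,3,1,2,0,3,4,2,2,4,3,1,2,0,3,3,1,2,0,3,4,2,4,3,1,2,0,3,3,1,2,0,3,4,2,2,4,3,1,2,0,3,3,1,2,0,3,4,2,4,2,1,3,0,2,2,1,3,0,2,4,3,4,2,1,3,0,2,2,1,3,0,2,4,3,3,4,3,1,2,0,3,4,2,2,4,3,1,2,0,3,3,1,2,0,3,4,2,4,3,1,2,0,3,3,1,2,0,3,3,1,2,0,3,3,1,2,0,3,4,2,2,4,3,1,2,0,3,3,1,2,0,3,4,2,4,3,1,2,0,3,4,2,2,4,3,1,2,0,3,3,1,2,0,3,4,2]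 (by decide +kernel)
theorem f1964 : F [0,99,1] [99,2] := S.trans (f1948 S) (f1963 S)
theorem f1966 : F [0,99] [99,0] := S.mapC (f911 S) [4,3,4,3,3,1,2,0,3,3,1,2,0,3,4,3,3,4,3,1,2,0,3,3,1,2,0,3,3,1,2,0,3,4,2,4,3,1,2,0,3,3,1,2,0,3,3,1,2,0,3,3,1,2,0,3,4,2,2,4,3,1,2,0,3,3,1,2,0,3,4,2,4,3,1,2,0,3,3,1,2,0,3,4,2,2,4,3,1,2,0,3,3,1,2,0,3,4,2,4,2,1,3,0,2,2,1,3,0,2,4,3,4,2,1,3,0,2,2,1,3,0,2,4,3,3,4,3,1,2,0,3,4,2,2,4,3,1,2,0,3,3,1,2,0,3,4,2,4,3,1,2,0,3,3,1,2,0,3,3,1,2,0,3,3,1,2,0,3,4,2,2,4,3,1,2,0,3,3,1,2,0,3,4,2,4,3,1,2,0,3,4,2,2,4,3,1,2,0,3,3,1,2,0,3,4,2] (by decide +kernel)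
theorem f1967 : F [99,0] [0,99] := S.symm (f1966 S)
theorem f1968 : F [0,99] [99,0] := S.symm (f1967 S)
theorem f1969 : F [0,99,2] [99,0,2] := S.appC (f1968 S) 2 (by decide +kernel)
theorem f1971 : F [114,0,2] [114,4] := S.pw0C [114] 1 3 (by decide +kernel)
theorem f1972 : F [0,99,160] [0,252] := S.mapC (f1971 S) [4,2,4,2,4] (by decide +kernel)
theorem f1985 : F [99,0,2] [99,4] := S.mapC (f1972 S) [4,3,4,3,3,1,2,0,3,3,1,2,0,3,4,3,3,4,3,1,2,0,3,3,1,2,0,3,3,1,2,0,3,4,2,4,3,1,2,0,3,3,1,2,0,3,3,1,2,0,3,3,1,2,0,3,4,2,2,4,3,1,2,0,3,3,1,2,0,3,4,2,4,3,1,2,0,3,3,1,2,0,3,4,2,2,4,3,1,2,0,3,3,1,2,0,3,4,2,4,2,1,3,0,2,2,1,3,0,2,4,3,4,2,1,3,0,2,2,1,3,0,2,4,3,3,4,3,1,2,0,3,4,2,2,4,3,1,2,0,3,3,1,2,0,3,4,2,4,3,1,2,0,3,3,1,2,0,3,3,1,2,0,3,3,1,2,0,3,4,2,2,4,3,1,2,0,3,3,1,2,0,3,4,2,4,3,1,2,0,3,4,2,2,4,3,1,2,0,3,3,1,2,0,3,4,2]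 (by decide +kernel)
theorem f1986 : F [0,99,2] [99,4] := S.trans (f1969 S) (f1985 S)
theorem f1997 : F [0,5,65] [38,64] := S.mapC (f907 S) [1,1,1,4,3,0,3,3,1,3,4,2,0,0,0,2,0,2,1,2,1,1,1,4,3,0,3,3,1,3,4,2,0,0,0,2,0,2,1,2,1,1,1,4,3,3,0,3,3,3,1,3,3,3,1,2,0,2,2,4,3,3,1,3,0,2,0,0,0,2,2,2,0,2,1,2,2,2,1,1,1,4,3,3,0,3,1,3,3,3,1,3,0,3,3,4,2,2,1,2,0,2,0,0,0,2,0,2,1,2,0,2,2,1] (by decide +kernel)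
theorem f1998 : F [0,5,65,76] [38,64,76] := S.appC (f1997 S) 76 (by decide +kernel)
theorem f1999 : F [38,64,76] [0,5,65,76] := S.symm (f1998 S)
theorem f2000 : F [46,332,0,4] [46,332] := S.pw0C [46,332] 1 4 (by decide +kernel)
theorem f2001 : F [0,5,65,76] [0,5] := S.mapC (f2000 S) [0,4,2,4,2] (by decide +kernel)
theorem f2002 : F [38,64,76] [0,5] := S.trans (f1999 S) (f2001 S)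
theorem f2003 : F [0,99,464] [11,149] := S.mapC (f2002 S) [2,0,2,4,3,4,3,1,2,0,3,3,1,2,0,3,4,2,4,3,1,2,0,3,3,1,2,0,3,4,2,4,3,1,2,0,3,3,1,2,0,3,3,1,2,0,3,4,2,2,4,3,1,2,0,3,3,1,2,0,3,4,2,4,3,1,2,0,3,3,1,2,0,3,3,1,2,0,3,4,2,2,4,3,1,2,0,3,3,1,2,0,3,4,2,4,2,1,3,0,2,2,1,3,0,2,4,3,4,2,1,3,0,2,2,1,3,0,2,4,3,3,4,3,1,2,0,3,4,2,2,4,3,1,2,0,3,3,1,2,0,3,4,2,4,3,1,2,0,3,3,1,2,0,3,3,1,2,0,3,4,3,4,2,1,3,0,2,2,1,3,0,2,4,3,3,4,2,1,3,0,2,4,2,2,4,3,1,2,0,3,3,1,2,0,3,4,2,4,3,1,2,0,3,4,2,2,4,3,1,2,0,3,3,1,2,0,3,4,2,4,3,1,2,0,3,3,1,2,0,3,4,2,2,4,3,1,2,0,3,3,1,2,0,3,4,2,4,3,1,2,0,3,4,2,2,4,3,1,2,0,3,3,1,2,0,3,4,2,4,3,1,2,0,3,4,2,2,4,3,1,2,0,3,3,1,2,0,3,4,2] (by decide +kernel)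
theorem f2004 : F [0,99,3] [26,65] := S.mapC (f2003 S) [2,2,4,3,1,2,0,3,4,2,2,2,4,3,1,2,0,3,4,2,2,4,3,1,2,0,3,3,1,2,0,3,4,2,4,3,1,2,0,3,4,2,2,4,3,1,2,0,3,3,1,2,0,3,4,2,2,2,4,3,1,2,0,3,3,1,2,0,3,4,2,4,3,1,2,0,3,4,3,4,2,1,3,0,2,2,1,3,0,2,4,3,3,4,2,1,3,0,2,4,2,2,4,3,1,2,0,3,3,1,2,0,3,4,2,4,3,1,2,0,3,4,2,2,4,3,1,2,0,3,3,1,2,0,3,4,2,4,2,1,3,0,2,2,1,3,0,2,4,3,4,2,1,3,0,2,2,1,3,0,2,4,3,3,4,3,1,2,0,3,4,2,2,4,3,1,2,0,3,3,1,2,0,3,4,2,4,3,1,2,0,3,3,1,2,0,3,3,1,2,0,3,3,1,2,0,3,4,2,2,4,3,1,2,0,3,3,1,2,0,3,4,2,4,3,1,2,0,3,4,2,2,4,3,1,2,0,3,3,1,2,0,3,4,2] (by decide +kernel)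

end Cfsg.Agent.Lib.TC.D.HND.Fa
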