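import Cfsg.Agent.Lib.TC.D.HND.Sys
import Cfsg.Agent.Lib.TC.D.HND.F3

namespace Cfsg.Agent.Lib.TC.D.HND.Fa

open Cfsg.Agent.Lib.TC.D.HND.Sys

set_option maxRecDepth 100000

variable {F : List Nat → List Nat → Prop} (S : Sys F)

include S

theorem f2006 : F [0,99] [99,0] := S.mapC (f911 S) [4,3,4,3,3,1,2,0,3,3,1,2,0,3,4,3,3,4,3,1,2,0,3,3,1,2,0,3,3,1,2,0,3,4,2,4,3,1,2,0,3,3,1,2,0,3,3,1,2,0,3,3,1,2,0,3,4,2,2,4,3,1,2,0,3,3,1,2,0,3,4,2,4,3,1,2,0,3,3,1,2,0,3,4,2,2,4,3,1,2,0,3,3,1,2,0,3,4,2,4,2,1,3,0,2,2,1,3,0,2,4,3,4,2,1,3,0,2,2,1,3,0,2,4,3,3,4,3,1,2,0,3,4,2,2,4,3,1,2,0,3,3,1,2,0,3,4,2,4,3,1,2,0,3,3,1,2,0,3,3,1,2,0,3,3,1,2,0,3,4,2,2,4,3,1,2,0,3,3,1,2,0,3,4,2,4,3,1,2,0,3,4,2,2,4,3,1,2,0,3,3,1,2,0,3,4,2] (by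 decide +kernel)
theorem f2007 : F [99,0] [0,99] := S.symm (f2006 S)
theorem f2008 : F [0,99] [99,0] := S.symm (f2007 S)
theorem f2009 : F [0,99,4] [99,0,4] := S.appC (f2008 S) 4 (by decide +kernel)
theorem f2011 : F [114,0,4] [114] := S.pw0C [114] 1 4 (by decide +kernel)
theorem f2012 : F [0,99,252] [0] := S.mapC (f2011 S) [4,2,4,2,4] (by decide +kernel)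
theorem f2013 : F [99,0,4] [99] := S.mapC (f2012 S) [4,3,4,3,3,1,2,0,3,3,1,2,0,3,4,3,3,4,3,1,2,0,3,3,1,2,0,3,3,1,2,0,3,4,2,4,3,1,2,0,3,3,1,2,0,3,3,1,2,0,3,3,1,2,0,3,4,2,2,4,3,1,2,0,3,3,1,2,0,3,4,2,4,3,1,2,0,3,3,1,2,0,3,4,2,2,4,3,1,2,0,3,3,1,2,0,3,4,2,4,2,1,3,0,2,2,1,3,0,2,4,3,4,2,1,3,0,2,2,1,3,0,2,4,3,3,4,3,1,2,0,3,4,2,2,4,3,1,2,0,3,3,1,2,0,3,4,2,4,3,1,2,0,3,3,1,2,0,3,3,1,2,0,3,3,1,2,0,3,4,2,2,4,3,1,2,0,3,3,1,2,0,3,4,2,4,3,1,2,0,3,4,2,2,4,3,1,2,0,3,3,1,2,0,3,4,2] (by decide +kernel)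
theorem f2014 : F [0,99,4] [99] := S.trans (f2009 S) (f2013 S)
theorem f2025 : F [0,5,65] [38,64] := S.mapC (f907 S) [1,1,1,4,3,0,3,3,1,3,4,2,0,0,0,2,0,2,1,2,1,1,1,4,3,0,3,3,1,3,4,2,0,0,0,2,0,2,1,2,1,1,1,4,3,3,0,3,3,3,1,3,3,3,1,2,0,2,2,4,3,3,1,3,0,2,0,0,0,2,2,2,0,2,1,2,2,2,1,1,1,4,3,3,0,3,1,3,3,3,1,3,0,3,3,4,2,2,1,2,0,2,0,0,0,2,0,2,1,2,0,2,2,1] (by decide +kernel)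
theorem f2026 : F [0,5,65,44] [38,64,44] := S.appC (f2025 S) 44 (by decide +kernel)
theorem f2027 : F [38,64,44] [0,5,65,44] := S.symm (f2026 S)
theorem f2028 : F [46,332,0,2] [46,332,4] := S.pw0C [46,332] 1 3 (by decide +kernel)
theorem f2029 : F [0,5,65,44] [0,5,76] := S.mapC (f2028 S) [0,4,2,4,2] (by decide +kernel)
theorem f2030 : F [38,64,44] [0,5,76] := S.trans (f2027 S) (f2029 S)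
theorem f2043 : F [0,5,76] [692,82] := S.mapC (f907 S) [3,4,2,1,3,0,2,2,1,3,0,2,4,3,3,4,2,1,3,0,2,4,3,4,2,1,3,0,2,2,1,3,0,2,4,3,3,4,2,1,3,0,2,2,1,3,0,2,2,1,3,0,2,2,1,3,0,2,4,3,4,2,1,3,0,2,2,1,3,0,2,4,3,3,4,2,1,3,0,2,4,2,2,4,3,1,2,0,3,3,1,2,0,3,4,2,4,2,1,3,0,2,4,3,4,2,1,3,0,2,2,1,3,0,2,4,3,3,4,2,1,3,0,2,4,2,2,4,3,1,2,0,3,3,1,2,0,3,4,2,4,3,1,2,0,3,4,3,4,2,1,3,0,2,2,1,3,0,2,4,3,3,4,2,1,3,0,2,4,3,4,2,1,3,0,2,2,1,3,0,2,4,3,3,4,2,1,3,0,2,4] (by decide +kernel)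
theorem f2044 : F [38,64,44] [692,82] := S.trans (f2030 S) (f2043 S)
theorem f2045 : F [0,99,601] [321,864] := S.mapC (f2044 S) [2,0,2,4,3,4,3,1,2,0,3,3,1,2,0,3,4,2,4,3,1,2,0,3,3,1,2,0,3,4,2,4,3,1,2,0,3,3,1,2,0,3,3,1,2,0,3,4,2,2,4,3,1,2,0,3,3,1,2,0,3,4,2,4,3,1,2,0,3,3,1,2,0,3,3,1,2,0,3,4,2,2,4,3,1,2,0,3,3,1,2,0,3,4,2,4,2,1,3,0,2,2,1,3,0,2,4,3,4,2,1,3,0,2,2,1,3,0,2,4,3,3,4,3,1,2,0,3,4,2,2,4,3,1,2,0,3,3,1,2,0,3,4,2,4,3,1,2,0,3,3,1,2,0,3,3,1,2,0,3,4,3,4,2,1,3,0,2,2,1,3,0,2,4,3,3,4,2,1,3,0,2,4,2,2,4,3,1,2,0,3,3,1,2,0,3,4,2,4,3,1,2,0,3,4,2,2,4,3,1,2,0,3,3,1,2,0,3,4,2,4,3,1,2,0,3,3,1,2,0,3,4,2,2,4,3,1,2,0,3,3,1,2,0,3,4,2,4,3,1,2,0,3,4,2,2,4,3,1,2,0,3,3,1,2,0,3,4,2,4,3,1,2,0,3,4,2,2,4,3,1,2,0,3,3,1,2,0,3,4,2]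 (by decide +kernel)
theorem f2046 : F [0,99,5] [123,421] := S.mapC (f2045 S) [2,2,4,3,1,2,0,3,4,2,2,2,4,3,1,2,0,3,4,2,2,4,3,1,2,0,3,3,1,2,0,3,4,2,4,3,1,2,0,3,4,2,2,4,3,1,2,0,3,3,1,2,0,3,4,2,2,2,4,3,1,2,0,3,3,1,2,0,3,4,2,4,3,1,2,0,3,4,3,4,2,1,3,0,2,2,1,3,0,2,4,3,3,4,2,1,3,0,2,4,2,2,4,3,1,2,0,3,3,1,2,0,3,4,2,4,3,1,2,0,3,4,2,2,4,3,1,2,0,3,3,1,2,0,3,4,2,4,2,1,3,0,2,2,1,3,0,2,4,3,4,2,1,3,0,2,2,1,3,0,2,4,3,3,4,3,1,2,0,3,4,2,2,4,3,1,2,0,3,3,1,2,0,3,4,2,4,3,1,2,0,3,3,1,2,0,3,3,1,2,0,3,3,1,2,0,3,4,2,2,4,3,1,2,0,3,3,1,2,0,3,4,2,4,3,1,2,0,3,4,2,2,4,3,1,2,0,3,3,1,2,0,3,4,2] (by decide +kernel)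
theorem f2051 : F [0,99,6] [140,122,496] := S.mapC (f1258 S) [2,2,4,3,1,2,0,3,4,2,2,2,4,3,1,2,0,3,4,2,2,4,3,1,2,0,3,3,1,2,0,3,4,2,4,3,1,2,0,3,4,2,2,4,3,1,2,0,3,3,1,2,0,3,4,2,2,2,4,3,1,2,0,3,3,1,2,0,3,4,2,4,3,1,2,0,3,4,3,4,2,1,3,0,2,2,1,3,0,2,4,3,3,4,2,1,3,0,2,4,2,2,4,3,1,2,0,3,3,1,2,0,3,4,2,4,3,1,2,0,3,4,2,2,4,3,1,2,0,3,3,1,2,0,3,4,2,4,2,1,3,0,2,2,1,3,0,2,4,3,4,2,1,3,0,2,2,1,3,0,2,4,3,3,4,3,1,2,0,3,4,2,2,4,3,1,2,0,3,3,1,2,0,3,4,2,4,3,1,2,0,3,3,1,2,0,3,3,1,2,0,3,3,1,2,0,3,4,2,2,4,3,1,2,0,3,3,1,2,0,3,4,2,4,3,1,2,0,3,4,2,2,4,3,1,2,0,3,3,1,2,0,3,4,2] (by decide +kernel)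
theorem f2053 : F [99,0] [0,99] := S.mapC (f911 S) [3,4,2,1,3,0,2,2,1,3,0,2,4,3,3,4,2,1,3,0,2,4,3,4,2,1,3,0,2,2,1,3,0,2,4,3,3,4,2,1,3,0,2,4,3,4,2,1,3,0,2,2,1,3,0,2,4,3,3,4,2,1,3,0,2,4,3,4,2,1,3,0,2,2,1,3,0,2,4,3,3,3,4,2,1,3,0,2,2,1,3,0,2,4,3,3,4,3,1,2,0,3,4,2,2,4,3,1,2,0,3,3,1,2,0,3,4,2,4,2,1,3,0,2,2,1,3,0,2,2,1,3,0,2,4,3,4,2,1,3,0,2,2,1,3,0,2,4,3,3,4,2,1,3,0,2,4,2,2,4,3,1,2,0,3,3,1,2,0,3,4,2,4,3,1,2,0,3,4,3,4,2,1,3,0,2,2,1,3,0,2,4,3,3,4,2,1,3,0,2,2,1,3,0,2,2,1,3,0,2,4,2,4,2,1,3,0,2,4,2,4,2,1,3,0,2,2,1,3,0,2,4,2] (by decide +kernel)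
theorem f2054 : F [0,99] [99,0] := S.mapC (f2053 S) [4,3,4,3,3,1,2,0,3,4,3,3,4,3,1,2,0,3,4,2,2,4,3,1,2,0,3,3,1,2,0,3,4,2,2,2,4,3,1,2,0,3,3,1,2,0,3,4,2,4,2,1,3,0,2,4,3,4,2,1,3,0,2,2,1,3,0,2,4,3,3,4,3,1,2,0,3,4,2,2,4,3,1,2,0,3,3,1,2,0,3,4,2,4,3,1,2,0,3,3,1,2,0,3,3,1,2,0,3,3,1,2,0,3,3,1,2,0,3,4,2,2,4,3,1,2,0,3,3,1,2,0,3,4,2,4,3,1,2,0,3,3,1,2,0,3,4,2,2,4,3,1,2,0,3,3,1,2,0,3,4,2,4,2,1,3,0,2,2,1,3,0,2,4,3,4,2,1,3,0,2,2,1,3,0,2,4,3,3,4,3,1,2,0,3,4,2,2,4,3,1,2,0,3,3,1,2,0,3,4,2,4,3,1,2,0,3,3,1,2,0,3,3,1,2,0,3,4] (by decide +kernel)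
theorem f2055 : F [99,0] [0,99] := S.symm (f2054 S)
theorem f2056 : F [0,99] [99,0] := S.symm (f2055 S)
theorem f2057 : F [0,99,7] [99,0,7] := S.appC (f2056 S) 7 (by decide +kernel)
theorem f2058 : F [99,0,7] [236,4] := S.mapC (f1012 S) [4,3,4,3,3,1,2,0,3,4,3,3,4,3,1,2,0,3,4,2,2,4,3,1,2,0,3,3,1,2,0,3,4,2,2,2,4,3,1,2,0,3,3,1,2,0,3,4,2,4,2,1,3,0,2,4,3,4,2,1,3,0,2,2,1,3,0,2,4,3,3,4,3,1,2,0,3,4,2,2,4,3,1,2,0,3,3,1,2,0,3,4,2,4,3,1,2,0,3,3,1,2,0,3,3,1,2,0,3,3,1,2,0,3,3,1,2,0,3,4,2,2,4,3,1,2,0,3,3,1,2,0,3,4,2,4,3,1,2,0,3,3,1,2,0,3,4,2,2,4,3,1,2,0,3,3,1,2,0,3,4,2,4,2,1,3,0,2,2,1,3,0,2,4,3,4,2,1,3,0,2,2,1,3,0,2,4,3,3,4,3,1,2,0,3,4,2,2,4,3,1,2,0,3,3,1,2,0,3,4,2,4,3,1,2,0,3,3,1,2,0,3,3,1,2,0,3,4] (by decide +kernel)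
theorem f2059 : F [0,99,7] [236,4] := S.trans (f2057 S) (f2058 S)
theorem f2064 : F [0,99,9] [559,124,75] := S.mapC (f984 S) [2,2,4,3,1,2,0,3,4,2,2,2,4,3,1,2,0,3,4,2,2,4,3,1,2,0,3,3,1,2,0,3,4,2,4,3,1,2,0,3,4,2,2,4,3,1,2,0,3,3,1,2,0,3,4,2,2,2,4,3,1,2,0,3,3,1,2,0,3,4,2,4,3,1,2,0,3,4,3,4,2,1,3,0,2,2,1,3,0,2,4,3,3,4,2,1,3,0,2,4,2,2,4,3,1,2,0,3,3,1,2,0,3,4,2,4,3,1,2,0,3,4,2,2,4,3,1,2,0,3,3,1,2,0,3,4,2,4,2,1,3,0,2,2,1,3,0,2,4,3,4,2,1,3,0,2,2,1,3,0,2,4,3,3,4,3,1,2,0,3,4,2,2,4,3,1,2,0,3,3,1,2,0,3,4,2,4,3,1,2,0,3,3,1,2,0,3,3,1,2,0,3,3,1,2,0,3,4,2,2,4,3,1,2,0,3,3,1,2,0,3,4,2,4,3,1,2,0,3,4,2,2,4,3,1,2,0,3,3,1,2,0,3,4,2] (by decide +kernel)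
theorem f2067 : F [99,0] [0,99] := S.mapC (f911 S) [3,4,2,1,3,0,2,2,1,3,0,2,4,3,3,4,2,1,3,0,2,4,3,4,2,1,3,0,2,2,1,3,0,2,4,3,3,4,2,1,3,0,2,4,3,4,2,1,3,0,2,2,1,3,0,2,4,3,3,4,2,1,3,0,2,4,3,4,2,1,3,0,2,2,1,3,0,2,4,3,3,3,4,2,1,3,0,2,2,1,3,0,2,4,3,3,4,3,1,2,0,3,4,2,2,4,3,1,2,0,3,3,1,2,0,3,4,2,4,2,1,3,0,2,2,1,3,0,2,2,1,3,0,2,4,3,4,2,1,3,0,2,2,1,3,0,2,4,3,3,4,2,1,3,0,2,4,2,2,4,3,1,2,0,3,3,1,2,0,3,4,2,4,3,1,2,0,3,4,3,4,2,1,3,0,2,2,1,3,0,2,4,3,3,4,2,1,3,0,2,2,1,3,0,2,2,1,3,0,2,4,2,4,2,1,3,0,2,4,2,4,2,1,3,0,2,2,1,3,0,2,4,2] (by decide +kernel)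
theorem f2068 : F [0,99] [99,0] := S.mapC (f2067 S) [4,3,4,3,4,2,4,3,1,2,0,3,4,2,2,2,4,3,1,2,0,3,4,2,2,4,3,1,2,0,3,3,1,2,0,3,4,2,4,3,1,2,0,3,3,1,2,0,3,3,1,2,0,3,4,2,2,4,3,1,2,0,3,3,1,2,0,3,4,2,4,2,1,3,0,2,2,1,3,0,2,4,3,4,2,1,3,0,2,2,1,3,0,2,4,3,3,4,3,1,2,0,3,4,2,2,4,3,1,2,0,3,3,1,2,0,3,4,2,4,3,1,2,0,3,3,1,2,0,3,3,1,2,0,3,4] (by decide +kernel)
theorem f2069 : F [99,0] [0,99] := S.symm (f2068 S)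
theorem f2070 : F [0,99] [99,0] := S.symm (f2069 S)
theorem f2071 : F [0,99,10] [99,0,10] := S.appC (f2070 S) 10 (by decide +kernel)
theorem f2072 : F [99,0,10] [358,327,390] := S.mapC (f939 S) [4,3,4,3,4,2,4,3,1,2,0,3,4,2,2,2,4,3,1,2,0,3,4,2,2,4,3,1,2,0,3,3,1,2,0,3,4,2,4,3,1,2,0,3,3,1,2,0,3,3,1,2,0,3,4,2,2,4,3,1,2,0,3,3,1,2,0,3,4,2,4,2,1,3,0,2,2,1,3,0,2,4,3,4,2,1,3,0,2,2,1,3,0,2,4,3,3,4,3,1,2,0,3,4,2,2,4,3,1,2,0,3,3,1,2,0,3,4,2,4,3,1,2,0,3,3,1,2,0,3,3,1,2,0,3,4] (by decide +kernel)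
theorem f2073 : F [0,99,10] [358,327,390] := S.trans (f2071 S) (f2072 S)
theorem f2077 : F [0,99] [99,0] := S.mapC (f911 S) [4,3,4,3,4,3,4,3,1,2,0,3,3,1,2,0,3,4,3,4,3,1,2,0,3,4,3,4,3,1,2,0,3,3,1,2,0,3,4,2,2,4,3,1,2,0,3,3,1,2,0,3,4,2,4,3,1,2,0,3,3,1,2,0,3,3,1,2,0,3,3,1,2,0,3,3,1,2,0,3,4,2,2,4,3,1,2,0,3,3,1,2,0,3,4,2,4,3,1,2,0,3,4,2,2,4,3,1,2,0,3,3,1,2,0,3,4,2,4,3,1,2,0,3,4,2,2,4,3,1,2,0,3,3,1,2,0,3,4,2] (by decide +kernel)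
theorem f2078 : F [99,0] [0,99] := S.symm (f2077 S)
theorem f2079 : F [0,99] [99,0] := S.symm (f2078 S)
theorem f2080 : F [0,99,12] [99,0,12] := S.appC (f2079 S) 12 (by decide +kernel)
theorem f2081 : F [99,0,12] [252,61] := S.mapC (f1096 S) [4,3,4,3,4,3,4,3,1,2,0,3,3,1,2,0,3,4,3,4,3,1,2,0,3,4,3,4,3,1,2,0,3,3,1,2,0,3,4,2,2,4,3,1,2,0,3,3,1,2,0,3,4,2,4,3,1,2,0,3,3,1,2,0,3,3,1,2,0,3,3,1,2,0,3,3,1,2,0,3,4,2,2,4,3,1,2,0,3,3,1,2,0,3,4,2,4,3,1,2,0,3,4,2,2,4,3,1,2,0,3,3,1,2,0,3,4,2,4,3,1,2,0,3,4,2,2,4,3,1,2,0,3,3,1,2,0,3,4,2] (by decide +kernel)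
theorem f2082 : F [0,99,12] [252,61] := S.trans (f2080 S) (f2081 S)
theorem f2088 : F [0,99,21] [303,778,863] := S.mapC (f1324 S) [2,2,4,3,1,2,0,3,3,1,2,0,3,4,2,4,3,1,2,0,3,3,1,2,0,3,3,1,2,0,3,4,2,2,4,3,1,2,0,3,3,1,2,0,3,4,2,4,3,1,2,0,3,4,3,4,2,1,3,0,2,2,1,3,0,2,4,3,3,4,3,1,2,0,3,4,2,2,4,3,1,2,0,3,3,1,2,0,3,4,2,4,3,1,2,0,3,3,1,2,0,3,3,1,2,0,3,3,1,2,0,3,4,2,2,4,3,1,2,0,3,3,1,2,0,3,4,2,4,3,1,2,0,3,4,2,2,4,3,1,2,0,3,3,1,2,0,3,4,2] (by decide +kernel)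
theorem f2090 : F [99,0] [0,99] := S.mapC (f911 S) [3,4,2,1,3,0,2,2,1,3,0,2,4,3,3,4,2,1,3,0,2,4,3,4,2,1,3,0,2,2,1,3,0,2,4,3,3,4,2,1,3,0,2,4,3,4,2,1,3,0,2,2,1,3,0,2,4,3,3,4,2,1,3,0,2,4,3,4,2,1,3,0,2,2,1,3,0,2,4,3,3,3,4,2,1,3,0,2,2,1,3,0,2,4,3,3,4,3,1,2,0,3,4,2,2,4,3,1,2,0,3,3,1,2,0,3,4,2,4,2,1,3,0,2,2,1,3,0,2,2,1,3,0,2,4,3,4,2,1,3,0,2,2,1,3,0,2,4,3,3,4,2,1,3,0,2,4,2,2,4,3,1,2,0,3,3,1,2,0,3,4,2,4,3,1,2,0,3,4,3,4,2,1,3,0,2,2,1,3,0,2,4,3,3,4,2,1,3,0,2,2,1,3,0,2,2,1,3,0,2,4,2,4,2,1,3,0,2,4,2,4,2,1,3,0,2,2,1,3,0,2,4,2] (by decide +kernel)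
theorem f2091 : F [99,0] [0,99] := S.mapC (f2090 S) [4,2,1,3,0,2,2,1,3,0,2,2,1,3,0,2,4,3,4,2,1,3,0,2,2,1,3,0,2,4,3,3,4,2,1,3,0,2,4,2,2,4,3,1,2,0,3,3,1,2,0,3,4,2,4,3,1,2,0,3,3,1,2,0,3,4,3,4,2,1,3,0,2,2,1,3,0,2,4,3,3,4,2,1,3,0,2,2,1,3,0,2,2,1,3,0,2,2,1,3,0,2,2,1,3,0,2,4,3,4,2,1,3,0,2,2,1,3,0,2,4,3,3,4,2,1,3,0,2,4,2,2,4,3,1,2,0,3,3,1,2,0,3,4,2,4,3,1,2,0,3,3,1,2,0,3,4,3,4,2,1,3,0,2,2,1,3,0,2,4,3,3,4,2,1,3,0,2,2,1,3,0,2,2,1,3,0,2,4,3,4,2,1,3,0,2,2,1,3,0,2,4,3,3,4,2,1,3,0,2,2,1,3,0,2,2,1,3,0,2,4,2,2,4,2,1,3,0,2,4,3,3,3] (by decide +kernel)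
theorem f2092 : F [0,99] [99,0] := S.mapC (f2091 S) [4,3,4,3,3,1,2,0,3,3,1,2,0,3,4,3,4,3,1,2,0,3,4,3,4,3,1,2,0,3,4,2,2,4,3,1,2,0,3,3,1,2,0,3,4,2,2,2,4,3,1,2,0,3,3,1,2,0,3,4,2,4,2,1,3,0,2,4,3,4,2,1,3,0,2,2,1,3,0,2,4,3,3,4,3,1,2,0,3,4,2,2,4,3,1,2,0,3,3,1,2,0,3,4,2,4,3,1,2,0,3,3,1,2,0,3,3,1,2,0,3,3,1,2,0,3,3,1,2,0,3,4,2,2,4,3,1,2,0,3,3,1,2,0,3,4,2,4,3,1,2,0,3,4,2,2,4,3,1,2,0,3,3,1,2,0,3,4,2,4,3,1,2,0,3,4,2,2,4,3,1,2,0,3,3,1,2,0,3,4,2] (by decide +kernel)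
theorem f2093 : F [99,0] [0,99] := S.symm (f2092 S)
theorem f2094 : F [0,99] [99,0] := S.symm (f2093 S)
theorem f2095 : F [0,99,22] [99,0,22] := S.appC (f2094 S) 22 (by decide +kernel)
theorem f2102 : F [0,5,65] [38,64] := S.mapC (f907 S) [1,1,1,4,3,0,3,3,1,3,4,2,0,0,0,2,0,2,1,2,1,1,1,4,3,0,3,3,1,3,4,2,0,0,0,2,0,2,1,2,1,1,1,4,3,3,0,3,3,3,1,3,3,3,1,2,0,2,2,4,3,3,1,3,0,2,0,0,0,2,2,2,0,2,1,2,2,2,1,1,1,4,3,3,0,3,1,3,3,3,1,3,0,3,3,4,2,2,1,2,0,2,0,0,0,2,0,2,1,2,0,2,2,1] (by decide +kernel)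
theorem f2103 : F [0,5,65,252] [38,64,252] := S.appC (f2102 S) 252 (by decide +kernel)
theorem f2104 : F [38,64,252] [0,5,65,252] := S.symm (f2103 S)
theorem f2105 : F [157,292,0,3] [342,135,4] := S.rel0C [157,292] (by decide +kernel)
theorem f2106 : F [0,5,65,252] [6,4,76] := S.mapC (f2105 S) [3,4,3,3,4,3,3,3,1,3,1,2,1,2,2] (by decide +kernel)
theorem f2107 : F [38,64,252] [6,4,76] := S.trans (f2104 S) (f2106 S)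
theorem f2119 : F [0,5] [6,4] := S.symm (f148 S)
theorem f2120 : F [0,5,99] [6,4,99] := S.appC (f2119 S) 99 (by decide +kernel)
theorem f2121 : F [6,4,99] [124,16] := S.mapC (f907 S) [3,4,2,1,3,0,2,2,1,3,0,2,4,3,3,4,2,1,3,0,2,4,3,4,2,1,3,0,2,2,1,3,0,2,4,3,3,4,2,1,3,0,2,2,1,3,0,2,2,1,3,0,2,2,1,3,0,2,4,3,4,2,1,3,0,2,2,1,3,0,2,4,3,3,4,2,1,3,0,2,4,2,2,4,3,1,2,0,3,3,1,2,0,3,4,2,4,2,1,3,0,2,4,3,4,2,1,3,0,2,2,1,3,0,2,4,3,3,4,2,1,3,0,2,4,2,2,4,3,1,2,0,3,3,1,2,0,3,4,2,4,3,1,2,0,3,4,1,4] (by decide +kernel)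
theorem f2122 : F [0,5,99] [124,16] := S.trans (f2120 S) (f2121 S)
theorem f2123 : F [6,4,76] [692,82] := S.mapC (f2122 S) [3,3,0,3,0,2,0,2,2,2,4,2,2,4,2,4,3,4,3,3,4,3,3,3,1,3,1,2,1,2,2] (by decide +kernel)
theorem f2124 : F [38,64,252] [692,82] := S.trans (f2107 S) (f2123 S)
theorem f2125 : F [0,99,977] [321,864] := S.mapC (f2124 S) [2,0,2,4,3,4,3,1,2,0,3,3,1,2,0,3,4,2,4,3,1,2,0,3,3,1,2,0,3,4,2,4,3,1,2,0,3,3,1,2,0,3,3,1,2,0,3,4,2,2,4,3,1,2,0,3,3,1,2,0,3,4,2,4,3,1,2,0,3,3,1,2,0,3,3,1,2,0,3,4,2,2,4,3,1,2,0,3,3,1,2,0,3,4,2,4,2,1,3,0,2,2,1,3,0,2,4,3,4,2,1,3,0,2,2,1,3,0,2,4,3,3,4,3,1,2,0,3,4,2,2,4,3,1,2,0,3,3,1,2,0,3,4,2,4,3,1,2,0,3,3,1,2,0,3,3,1,2,0,3,4,3,4,2,1,3,0,2,2,1,3,0,2,4,3,3,4,2,1,3,0,2,4,2,2,4,3,1,2,0,3,3,1,2,0,3,4,2,4,3,1,2,0,3,4,2,2,4,3,1,2,0,3,3,1,2,0,3,4,2,4,3,1,2,0,3,3,1,2,0,3,4,2,2,4,3,1,2,0,3,3,1,2,0,3,4,2,4,3,1,2,0,3,4,2,2,4,3,1,2,0,3,3,1,2,0,3,4,2,4,3,1,2,0,3,4,2,2,4,3,1,2,0,3,3,1,2,0,3,4,2]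 (by decide +kernel)
theorem f2126 : F [99,0,22] [507,33] := S.mapC (f2125 S) [4,3,4,3,3,1,2,0,3,3,1,2,0,3,4,3,4,3,1,2,0,3,4,3,4,3,1,2,0,3,4,2,2,4,3,1,2,0,3,3,1,2,0,3,4,2,2,2,4,3,1,2,0,3,3,1,2,0,3,4,2,4,2,1,3,0,2,4,3,4,2,1,3,0,2,2,1,3,0,2,4,3,3,4,3,1,2,0,3,4,2,2,4,3,1,2,0,3,3,1,2,0,3,4,2,4,3,1,2,0,3,3,1,2,0,3,3,1,2,0,3,3,1,2,0,3,3,1,2,0,3,4,2,2,4,3,1,2,0,3,3,1,2,0,3,4,2,4,3,1,2,0,3,4,2,2,4,3,1,2,0,3,3,1,2,0,3,4,2,4,3,1,2,0,3,4,2,2,4,3,1,2,0,3,3,1,2,0,3,4,2] (by decide +kernel)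
theorem f2127 : F [0,99,22] [507,33] := S.trans (f2095 S) (f2126 S)
theorem f2132 : F [0,99,31] [11,778,142] := S.mapC (f1043 S) [2,4,3,1,2,0,3,4,3,3,4,3,1,2,0,3,3,1,2,0,3,3,1,2,0,3,4,2,2,4,3,1,2,0,3,3,1,2,0,3,4,2,4,3,1,2,0,3,3,1,2,0,3,3,1,2,0,3,4,3,4,2,1,3,0,2,2,1,3,0,2,4,3,3,4,2,1,3,0,2,4,2,2,4,3,1,2,0,3,3,1,2,0,3,4,2,4,3,1,2,0,3,4,2,2,4,3,1,2,0,3,3,1,2,0,3,4,2,4,3,1,2,0,3,4,2,2,4,3,1,2,0,3,3,1,2,0,3,4,2,4,3,1,2,0,3,4,2,2,4,3,1,2,0,3,3,1,2,0,3,4,2] (by decide +kernel)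
theorem f2139 : F [0,99,35] [1354,1003,303] := S.mapC (f1374 S) [4,3,1,2,0,3,3,1,2,0,3,4,2,4,3,1,2,0,3,4,2,2,4,3,1,2,0,3,3,1,2,0,3,4,2,2,2,4,3,1,2,0,3,3,1,2,0,3,4,2,4,2,1,3,0,2,2,1,3,0,2,4,3,4,2,1,3,0,2,2,1,3,0,2,4,3,3,4,3,1,2,0,3,4,2,2,4,3,1,2,0,3,3,1,2,0,3,4,2,4,3,1,2,0,3,3,1,2,0,3,3,1,2,0,3,4,3,4,2,1,3,0,2,2,1,3,0,2,4,3,3,4,2,1,3,0,2,4,2,2,4,3,1,2,0,3,3,1,2,0,3,4,2,2,2,4,3,1,2,0,3,3,1,2,0,3,4,2,4,3,1,2,0,3,4,2,2,4,3,1,2,0,3,3,1,2,0,3,4,2,4,3,1,2,0,3,3,1,2,0,3,4,2,2,4,3,1,2,0,3,3,1,2,0,3,4,2] (by decide +kernel)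
theorem f2153 : F [0,5,65] [38,64] := S.mapC (f907 S) [1,1,1,4,3,0,3,3,1,3,4,2,0,0,0,2,0,2,1,2,1,1,1,4,3,0,3,3,1,3,4,2,0,0,0,2,0,2,1,2,1,1,1,4,3,3,0,3,3,3,1,3,3,3,1,2,0,2,2,4,3,3,1,3,0,2,0,0,0,2,2,2,0,2,1,2,2,2,1,1,1,4,3,3,0,3,1,3,3,3,1,3,0,3,3,4,2,2,1,2,0,2,0,0,0,2,0,2,1,2,0,2,2,1] (by decide +kernel)
theorem f2154 : F [0,5,65,630] [38,64,630] := S.appC (f2153 S) 630 (by decide +kernel)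
theorem f2155 : F [38,64,630] [0,5,65,630] := S.symm (f2154 S)
theorem f2156 : F [244,894,0,3] [486,1252,4] := S.rel0C [244,894] (by decide +kernel)
theorem f2157 : F [0,5,65,630] [864,709,76] := S.mapC (f2156 S) [0,2,2,4,2,4,2] (by decide +kernel)
theorem f2158 : F [38,64,630] [864,709,76] := S.trans (f2155 S) (f2157 S)
theorem f2170 : F [0,5] [6,4] := S.symm (f148 S)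
theorem f2171 : F [0,5,557] [6,4,557] := S.appC (f2170 S) 557 (by decide +kernel)
theorem f2172 : F [6,4,557] [77,704] := S.mapC (f907 S) [3,4,2,1,3,0,2,2,1,3,0,2,4,3,3,4,2,1,3,0,2,2,1,3,0,2,4,3,4,2,1,3,0,2,2,1,3,0,2,4,3,3,4,2,1,3,0,2,4,3,4,2,1,3,0,2,2,1,3,0,2,4,3,3,3,4,2,1,3,0,2,2,1,3,0,2,4,3,3,4,3,1,2,0,3,4,2,2,4,3,1,2,0,3,3,1,2,0,3,4,2,4,2,1,3,0,2,2,1,3,0,2,2,1,3,0,2,4,3,4,2,1,3,0,2,2,1,3,0,2,4,3,3,4,2,1,3,0,2,2,1,3,0,2,4,1,4] (by decide +kernel)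
theorem f2173 : F [0,5,557] [77,704] := S.trans (f2171 S) (f2172 S)
theorem f2174 : F [864,709,76] [1376,199] := S.mapC (f2173 S) [3,4,3,4,3,3,1,4,0,2,2,4,2,4,2] (by decide +kernel)
theorem f2175 : F [38,64,630] [1376,199] := S.trans (f2158 S) (f2174 S)
theorem f2176 : F [0,99,1099] [54,286] := S.mapC (f2175 S) [2,0,2,4,3,4,3,1,2,0,3,3,1,2,0,3,4,2,4,3,1,2,0,3,3,1,2,0,3,4,2,4,3,1,2,0,3,3,1,2,0,3,3,1,2,0,3,4,2,2,4,3,1,2,0,3,3,1,2,0,3,4,2,4,3,1,2,0,3,3,1,2,0,3,3,1,2,0,3,4,2,2,4,3,1,2,0,3,3,1,2,0,3,4,2,4,2,1,3,0,2,2,1,3,0,2,4,3,4,2,1,3,0,2,2,1,3,0,2,4,3,3,4,3,1,2,0,3,4,2,2,4,3,1,2,0,3,3,1,2,0,3,4,2,4,3,1,2,0,3,3,1,2,0,3,3,1,2,0,3,4,3,4,2,1,3,0,2,2,1,3,0,2,4,3,3,4,2,1,3,0,2,4,2,2,4,3,1,2,0,3,3,1,2,0,3,4,2,4,3,1,2,0,3,4,2,2,4,3,1,2,0,3,3,1,2,0,3,4,2,4,3,1,2,0,3,3,1,2,0,3,4,2,2,4,3,1,2,0,3,3,1,2,0,3,4,2,4,3,1,2,0,3,4,2,2,4,3,1,2,0,3,3,1,2,0,3,4,2,4,3,1,2,0,3,4,2,2,4,3,1,2,0,3,3,1,2,0,3,4,2]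 (by decide +kernel)
theorem f2177 : F [0,99,50] [52,265] := S.mapC (f2176 S) [4,3,1,2,0,3,4,2,2,2,4,3,1,2,0,3,3,1,2,0,3,4,2,2,4,3,1,2,0,3,3,1,2,0,3,4,2,4,3,1,2,0,3,4,2,2,4,3,1,2,0,3,3,1,2,0,3,4,2,4,3,1,2,0,3,3,1,2,0,3,3,1,2,0,3,4,2,2,4,3,1,2,0,3,3,1,2,0,3,4,2,4,2,1,3,0,2,2,1,3,0,2,4,3,4,2,1,3,0,2,2,1,3,0,2,4,3,3,4,3,1,2,0,3,4,2,2,4,3,1,2,0,3,3,1,2,0,3,4,2,4,3,1,2,0,3,3,1,2,0,3,3,1,2,0,3,4,3,4,2,1,3,0,2,2,1,3,0,2,4,3,3,4,2,1,3,0,2,4,2,2,4,3,1,2,0,3,3,1,2,0,3,4,2,4,3,1,2,0,3,4,2,2,4,3,1,2,0,3,3,1,2,0,3,4,2,4,3,1,2,0,3,3,1,2,0,3,4,2,2,4,3,1,2,0,3,3,1,2,0,3,4,2,4,3,1,2,0,3,4,2,2,4,3,1,2,0,3,3,1,2,0,3,4,2,4,3,1,2,0,3,4,2,2,4,3,1,2,0,3,3,1,2,0,3,4,2] (by decide +kernel)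
theorem f2179 : F [0,6] [3,2] := S.mapC (f132 S) [0,4,0] (by decide +kernel)
theorem f2180 : F [3,2] [0,6] := S.symm (f2179 S)
theorem f2181 : F [0,6] [3,2] := S.symm (f2180 S)
theorem f2182 : F [0,6,0] [3,2,0] := S.appC (f2181 S) 0 (by decide +kernel)
theorem f2184 : F [6,0,1] [6,2] := S.pw0C [6] 1 2 (by decide +kernel)
theorem f2185 : F [0,6,3] [0,9] := S.mapC (f2184 S) [1,4] (by decide +kernel)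
theorem f2186 : F [0,6,3] [5,0] := S.trans (f2185 S) (f33 S)
theorem f2187 : F [3,2,0] [1,3] := S.mapC (f2186 S) [0,4,0] (by decide +kernel)
theorem f2188 : F [0,6,0] [1,3] := S.trans (f2182 S) (f2187 S)
theorem f2190 : F [9,1] [4,5] := S.mapC (f132 S) [1,1] (by decide +kernel)
theorem f2191 : F [9,1] [0,6] := S.trans (f2190 S) (f154 S)
theorem f2192 : F [0,6] [9,1] := S.mapC (f2191 S) [0,0,0,4,0] (by decide +kernel)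
theorem f2193 : F [9,1] [0,6] := S.symm (f2192 S)
theorem f2194 : F [0,6] [9,1] := S.symm (f2193 S)
theorem f2195 : F [0,6,1] [9,1,1] := S.appC (f2194 S) 1 (by decide +kernel)
theorem f2196 : F [9,1,1] [3] := S.mapC (f842 S) [0,0,0,4,0] (by decide +kernel)
theorem f2197 : F [0,6,1] [3] := S.trans (f2195 S) (f2196 S)
theorem f2199 : F [4,5] [0,6] := S.mapC (f154 S) [4,2,1,3,0,2,2,1,3,0,2,2,1,3,0,2,4,3,4,2,1,3,0,2,2,1,3,0,2,4,3,3,4,2,1,3,0,2,4,2,2,4,3,1,2,0,3,3,1,2,0,3,4,2,4,3,1,2,0,3,3,1,2,0,3,4,3,4,2,1,3,0,2,2,1,3,0,2,4,3,3,4,2,1,3,0,2,2,1,3,0,2,4,3,4,2,1,3,0,2,2,1,3,0,2,4,3,3,4,2,1,3,0,2,2,1,3,0,2,2,1,3,0,2,4,3,4,2,1,3,0,2,2,1,3,0,2,4,3,3,4,2,1,3,0,2,2,1,3,0,2,2,1,3,0,2,4,3,4,2,1,3,0,2,2,1,3,0,2,4,3,3,3,4,2,1,3,0,2,2,1,3,0,2,4,3,3]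 (by decide +kernel)
theorem f2200 : F [4,5] [0,6] := S.mapC (f2199 S) [3,4,2,1,3,0,2,2,1,3,0,2,4,3,3,4,2,1,3,0,2,4,3,4,2,1,3,0,2,2,1,3,0,2,4,3,3,4,2,1,3,0,2,4,3,4,2,1,3,0,2,2,1,3,0,2,4,3,3,4,2,1,3,0,2,4,3,4,2,1,3,0,2,2,1,3,0,2,4,3,3,3,4,2,1,3,0,2,2,1,3,0,2,4,3,3,4,3,1,2,0,3,4,2,2,4,3,1,2,0,3,3,1,2,0,3,4,2,4,2,1,3,0,2,2,1,3,0,2,2,1,3,0,2,4,3,4,2,1,3,0,2,2,1,3,0,2,4,3,3,4,2,1,3,0,2,4,2,2,4,3,1,2,0,3,3,1,2,0,3,4,2,4,3,1,2,0,3,3,1,2,0,3,4,3,4,2,1,3,0,2,2,1,3,0,2,4,3,3,4,2,1,3,0,2,2,1,3,0,2,2,1,3,0,2,2,1,3,0,2,4,3,4,2,1,3,0,2,2,1,3,0,2,4,3,3,4,2,1,3,0,2,4] (by decide +kernel)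
theorem f2201 : F [4,5] [0,6] := S.mapC (f2200 S) [3,4,2,1,3,0,2,2,1,3,0,2,4,3,3,4,2,1,3,0,2,4,3,4,2,1,3,0,2,2,1,3,0,2,4,3,3,4,2,1,3,0,2,4,3,4,2,1,3,0,2,2,1,3,0,2,4,3,3,4,2,1,3,0,2,4,3,4,2,1,3,0,2,2,1,3,0,2,4,3,3,3,4,2,1,3,0,2,2,1,3,0,2,4,3,3,4,3,1,2,0,3,4,2,2,4,3,1,2,0,3,3,1,2,0,3,4,2,4,2,1,3,0,2,2,1,3,0,2,2,1,3,0,2,4,3,4,2,1,3,0,2,2,1,3,0,2,4,3,3,4,2,1,3,0,2,4,2,2,4,3,1,2,0,3,3,1,2,0,3,4,2,4,3,1,2,0,3,3,1,2,0,3,4,3,4,2,1,3,0,2,2,1,3,0,2,4,3,3,4,2,1,3,0,2,2,1,3,0,2,2,1,3,0,2,2,1,3,0,2,4,3,4,2,1,3,0,2,2,1,3,0,2,4,3,3,4,2,1,3,0,2,4] (by decide +kernel)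
theorem f2202 : F [4,5] [0,6] := S.mapC (f2201 S) [4,2,1,3,0,2,2,1,3,0,2,2,1,3,0,2,4,3,4,2,1,3,0,2,2,1,3,0,2,4,3,3,4,2,1,3,0,2,4,2,2,4,3,1,2,0,3,3,1,2,0,3,4,2,4,3,1,2,0,3,3,1,2,0,3,4,3,4,2,1,3,0,2,2,1,3,0,2,4,3,3,4,2,1,3,0,2,2,1,3,0,2,4,3,4,2,1,3,0,2,2,1,3,0,2,4,3,3,4,2,1,3,0,2,2,1,3,0,2,2,1,3,0,2,4,3,4,2,1,3,0,2,2,1,3,0,2,4,3,3,4,2,1,3,0,2,2,1,3,0,2,2,1,3,0,2,4,3,4,2,1,3,0,2,2,1,3,0,2,4,3,3,3,4,2,1,3,0,2,2,1,3,0,2,4,3,3] (by decide +kernel)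
theorem f2203 : F [4,5] [0,6] := S.mapC (f2202 S) [3,4,2,1,3,0,2,2,1,3,0,2,4,3,3,4,2,1,3,0,2,4,3,4,2,1,3,0,2,2,1,3,0,2,4,3,3,4,2,1,3,0,2,4,3,4,2,1,3,0,2,2,1,3,0,2,4,3,3,4,2,1,3,0,2,4,3,4,2,1,3,0,2,2,1,3,0,2,4,3,3,3,4,2,1,3,0,2,2,1,3,0,2,4,3,3,4,3,1,2,0,3,4,2,2,4,3,1,2,0,3,3,1,2,0,3,4,2,4,2,1,3,0,2,2,1,3,0,2,2,1,3,0,2,4,3,4,2,1,3,0,2,2,1,3,0,2,4,3,3,4,2,1,3,0,2,4,2,2,4,3,1,2,0,3,3,1,2,0,3,4,2,4,3,1,2,0,3,3,1,2,0,3,4,3,4,2,1,3,0,2,2,1,3,0,2,4,3,3,4,2,1,3,0,2,2,1,3,0,2,2,1,3,0,2,2,1,3,0,2,4,3,4,2,1,3,0,2,2,1,3,0,2,4,3,3,4,2,1,3,0,2,4] (by decide +kernel)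
theorem f2204 : F [0,6] [4,5] := S.mapC (f2203 S) [0,0,4,3,1,2,0,3,3,1,2,0,3,3,1,2,0,3,3,1,2,0,3,4,2,2,4,3,1,2,0,3,3,1,2,0,3,4,2,4,3,1,2,0,3,4,3,4,2,1,3,0,2,2,1,3,0,2,4,3,3,4,3,1,2,0,3,4,2,2,4,3,1,2,0,3,3,1,2,0,3,4,2,4,3,1,2,0,3,3,1,2,0,3,3,1,2,0,3,4,3,4,2,1,3,0,2,2,1,3,0,2,4,3,3,4,2,1,3,0,2,4,2,2,4,3,1,2,0,3,3,1,2,0,3,4,2,4,3,1,2,0,3,4,2,2,4,3,1,2,0,3,3,1,2,0,3,4,2,4,3,1,2,0,3,4,2,2,4,3,1,2,0,3,3,1,2,0,3,4,2,4,3,1,2,0,3,4,2,2,4,3,1,2,0,3,3,1,2,0,3,4,2] (by decide +kernel)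
theorem f2205 : F [4,5] [0,6] := S.symm (f2204 S)
theorem f2206 : F [0,6] [4,5] := S.symm (f2205 S)
theorem f2207 : F [0,6,7] [4,5,7] := S.appC (f2206 S) 7 (by decide +kernel)
theorem f2208 : F [0,12,0,3] [3,33,4] := S.rel0C [0,12] (by decide +kernel)
theorem f2209 : F [0,6,0,8] [8,77,4] := S.mapC (f2208 S) [3] (by decide +kernel)
theorem f2210 : F [8,77,4] [0,6,0,8] := S.symm (f2209 S)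
theorem f2212 : F [0,6] [3,2] := S.mapC (f132 S) [0,4,0] (by decide +kernel)
theorem f2213 : F [3,2] [0,6] := S.symm (f2212 S)
theorem f2214 : F [0,6] [3,2] := S.symm (f2213 S)
theorem f2215 : F [0,6,0] [3,2,0] := S.appC (f2214 S) 0 (by decide +kernel)
theorem f2216 : F [3,2,0] [1,3] := S.mapC (f2186 S) [0,4,0] (by decide +kernel)
theorem f2217 : F [0,6,0] [1,3] := S.trans (f2215 S) (f2216 S)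
theorem f2218 : F [0,6,0,8] [1,3,8] := S.appC (f2217 S) 8 (by decide +kernel)
theorem f2225 : F [0,5,19] [118,162,29] := S.mapC (f755 S) [1,1,1,4,3,3,0,3,1,3,3,3,1,3,0,3,3,4,2,2,1,2,0,2,0,0,0,2,0,2,1,2,0,2,2,1,3,3,3,0,3,1,3,3,3,1,1,1,3,1,2,0,2,2,4,3,3,1,3,0,2,2,2,0,2,2,2,1,2,2,4,0,0,0,0,3,3,1,3,0,3,1,3,1,1,1,3,1,3,0,3,3,4,2,2,1,2,0,2,2,2,0,2,1,2,2,4,0,0,0] (by decide +kernel)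
theorem f2226 : F [1,3,8] [77,254,11] := S.mapC (f2225 S) [1,1,1,4,0,4,0] (by decide +kernel)
theorem f2227 : F [0,6,0,8] [77,254,11] := S.trans (f2218 S) (f2226 S)
theorem f2228 : F [8,77,4] [77,254,11] := S.trans (f2210 S) (f2227 S)
theorem f2229 : F [0,6,23] [6,56,1] := S.mapC (f2228 S) [2,4,3] (by decide +kernel)
theorem f2230 : F [4,5,7] [5,17,2] := S.mapC (f2229 S) [0,0,4,3,1,2,0,3,3,1,2,0,3,3,1,2,0,3,3,1,2,0,3,4,2,2,4,3,1,2,0,3,3,1,2,0,3,4,2,4,3,1,2,0,3,4,3,4,2,1,3,0,2,2,1,3,0,2,4,3,3,4,3,1,2,0,3,4,2,2,4,3,1,2,0,3,3,1,2,0,3,4,2,4,3,1,2,0,3,3,1,2,0,3,3,1,2,0,3,4,3,4,2,1,3,0,2,2,1,3,0,2,4,3,3,4,2,1,3,0,2,4,2,2,4,3,1,2,0,3,3,1,2,0,3,4,2,4,3,1,2,0,3,4,2,2,4,3,1,2,0,3,3,1,2,0,3,4,2,4,3,1,2,0,3,4,2,2,4,3,1,2,0,3,3,1,2,0,3,4,2,4,3,1,2,0,3,4,2,2,4,3,1,2,0,3,3,1,2,0,3,4,2]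 (by decide +kernel)
theorem f2231 : F [0,6,7] [5,17,2] := S.trans (f2207 S) (f2230 S)
theorem f2233 : F [3,2] [0,6] := S.mapC (f132 S) [4,2,1,3,0,2,2,1,3,0,2,2,1,3,0,2,4,3,4,2,1,3,0,2,2,1,3,0,2,4,3,3,4,2,1,3,0,2,4,2,2,4,3,1,2,0,3,3,1,2,0,3,4,2,4,3,1,2,0,3,3,1,2,0,3,4,3,4,2,1,3,0,2,2,1,3,0,2,4,3,3,4,2,1,3,0,2,2,1,3,0,2,4,3,4,2,1,3,0,2,2,1,3,0,2,4,3,3,4,2,1,3,0,2,2,1,3,0,2,2,1,3,0,2,4,3,4,2,1,3,0,2,2,1,3,0,2,4,3,3,4,2,1,3,0,2,2,1,3,0,2,2,1,3,0,2,4,3,4,2,1,3,0,2,2,1,3,0,2,4,3,3,3,4,2,1,3,0,2,2,1,3,0,2,4,3,3] (by decide +kernel)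
theorem f2234 : F [3,2] [0,6] := S.mapC (f2233 S) [3,4,2,1,3,0,2,2,1,3,0,2,4,3,3,4,2,1,3,0,2,4,3,4,2,1,3,0,2,2,1,3,0,2,4,3,3,4,2,1,3,0,2,4,3,4,2,1,3,0,2,2,1,3,0,2,4,3,3,4,2,1,3,0,2,4,3,4,2,1,3,0,2,2,1,3,0,2,4,3,3,3,4,2,1,3,0,2,2,1,3,0,2,4,3,3,4,3,1,2,0,3,4,2,2,4,3,1,2,0,3,3,1,2,0,3,4,2,4,2,1,3,0,2,2,1,3,0,2,2,1,3,0,2,4,3,4,2,1,3,0,2,2,1,3,0,2,4,3,3,4,2,1,3,0,2,4,2,2,4,3,1,2,0,3,3,1,2,0,3,4,2,4,3,1,2,0,3,3,1,2,0,3,4,3,4,2,1,3,0,2,2,1,3,0,2,4,3,3,4,2,1,3,0,2,2,1,3,0,2,2,1,3,0,2,2,1,3,0,2,4,3,4,2,1,3,0,2,2,1,3,0,2,4,3,3,4,2,1,3,0,2,4] (by decide +kernel)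
theorem f2235 : F [3,2] [0,6] := S.mapC (f2234 S) [3,4,2,1,3,0,2,2,1,3,0,2,4,3,3,4,2,1,3,0,2,4,3,4,2,1,3,0,2,2,1,3,0,2,4,3,3,4,2,1,3,0,2,4,3,4,2,1,3,0,2,2,1,3,0,2,4,3,3,4,2,1,3,0,2,4,3,4,2,1,3,0,2,2,1,3,0,2,4,3,3,3,4,2,1,3,0,2,2,1,3,0,2,4,3,3,4,3,1,2,0,3,4,2,2,4,3,1,2,0,3,3,1,2,0,3,4,2,4,2,1,3,0,2,2,1,3,0,2,2,1,3,0,2,4,3,4,2,1,3,0,2,2,1,3,0,2,4,3,3,4,2,1,3,0,2,4,2,2,4,3,1,2,0,3,3,1,2,0,3,4,2,4,3,1,2,0,3,3,1,2,0,3,4,3,4,2,1,3,0,2,2,1,3,0,2,4,3,3,4,2,1,3,0,2,2,1,3,0,2,2,1,3,0,2,2,1,3,0,2,4,3,4,2,1,3,0,2,2,1,3,0,2,4,3,3,4,2,1,3,0,2,4] (by decide +kernel)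
theorem f2236 : F [3,2] [0,6] := S.mapC (f2235 S) [4,2,1,3,0,2,2,1,3,0,2,2,1,3,0,2,4,3,4,2,1,3,0,2,2,1,3,0,2,4,3,3,4,2,1,3,0,2,4,2,2,4,3,1,2,0,3,3,1,2,0,3,4,2,4,3,1,2,0,3,3,1,2,0,3,4,3,4,2,1,3,0,2,2,1,3,0,2,4,3,3,4,2,1,3,0,2,2,1,3,0,2,4,3,4,2,1,3,0,2,2,1,3,0,2,4,3,3,4,2,1,3,0,2,2,1,3,0,2,2,1,3,0,2,4,3,4,2,1,3,0,2,2,1,3,0,2,4,3,3,4,2,1,3,0,2,2,1,3,0,2,2,1,3,0,2,4,3,4,2,1,3,0,2,2,1,3,0,2,4,3,3,3,4,2,1,3,0,2,2,1,3,0,2,4,3,3] (by decide +kernel)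
theorem f2237 : F [3,2] [0,6] := S.mapC (f2236 S) [3,4,2,1,3,0,2,2,1,3,0,2,4,3,3,4,2,1,3,0,2,4,3,4,2,1,3,0,2,2,1,3,0,2,4,3,3,4,2,1,3,0,2,4,3,4,2,1,3,0,2,2,1,3,0,2,4,3,3,4,2,1,3,0,2,4,3,4,2,1,3,0,2,2,1,3,0,2,4,3,3,3,4,2,1,3,0,2,2,1,3,0,2,4,3,3,4,3,1,2,0,3,4,2,2,4,3,1,2,0,3,3,1,2,0,3,4,2,4,2,1,3,0,2,2,1,3,0,2,2,1,3,0,2,4,3,4,2,1,3,0,2,2,1,3,0,2,4,3,3,4,2,1,3,0,2,4,2,2,4,3,1,2,0,3,3,1,2,0,3,4,2,4,3,1,2,0,3,3,1,2,0,3,4,3,4,2,1,3,0,2,2,1,3,0,2,4,3,3,4,2,1,3,0,2,2,1,3,0,2,2,1,3,0,2,2,1,3,0,2,4,3,4,2,1,3,0,2,2,1,3,0,2,4,3,3,4,2,1,3,0,2,4] (by decide +kernel)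
theorem f2238 : F [0,6] [3,2] := S.mapC (f2237 S) [3,1,2,0,3,3,1,2,0,3,3,1,2,0,3,3,1,2,0,3,4,2,2,4,3,1,2,0,3,3,1,2,0,3,4,2,4,3,1,2,0,3,4,3,4,2,1,3,0,2,2,1,3,0,2,4,3,3,4,3,1,2,0,3,4,2,2,4,3,1,2,0,3,3,1,2,0,3,4,2,4,3,1,2,0,3,3,1,2,0,3,3,1,2,0,3,4,3,4,2,1,3,0,2,2,1,3,0,2,4,3,3,4,2,1,3,0,2,4,2,2,4,3,1,2,0,3,3,1,2,0,3,4,2,4,3,1,2,0,3,4,2,2,4,3,1,2,0,3,3,1,2,0,3,4,2,4,3,1,2,0,3,4,2,2,4,3,1,2,0,3,3,1,2,0,3,4,2,4,3,1,2,0,3,4,2,2,4,3,1,2,0,3,3,1,2,0,3,4,2] (by decide +kernel)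
theorem f2239 : F [3,2] [0,6] := S.symm (f2238 S)
theorem f2240 : F [0,6] [3,2] := S.symm (f2239 S)
theorem f2241 : F [0,6,10] [3,2,10] := S.appC (f2240 S) 10 (by decide +kernel)
theorem f2242 : F [3,2,10] [120,1] := S.mapC (f474 S) [3,1,2,0,3,3,1,2,0,3,3,1,2,0,3,3,1,2,0,3,4,2,2,4,3,1,2,0,3,3,1,2,0,3,4,2,4,3,1,2,0,3,4,3,4,2,1,3,0,2,2,1,3,0,2,4,3,3,4,3,1,2,0,3,4,2,2,4,3,1,2,0,3,3,1,2,0,3,4,2,4,3,1,2,0,3,3,1,2,0,3,3,1,2,0,3,4,3,4,2,1,3,0,2,2,1,3,0,2,4,3,3,4,2,1,3,0,2,4,2,2,4,3,1,2,0,3,3,1,2,0,3,4,2,4,3,1,2,0,3,4,2,2,4,3,1,2,0,3,3,1,2,0,3,4,2,4,3,1,2,0,3,4,2,2,4,3,1,2,0,3,3,1,2,0,3,4,2,4,3,1,2,0,3,4,2,2,4,3,1,2,0,3,3,1,2,0,3,4,2] (by decide +kernel)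
theorem f2243 : F [0,6,10] [120,1] := S.trans (f2241 S) (f2242 S)
theorem f2245 : F [0,5,7] [22,79,4] := S.mapC (f703 S) [3,4,0,0,2] (by decide +kernel)
theorem f2246 : F [22,79,4] [0,5,7] := S.symm (f2245 S)
theorem f2247 : F [0,5,7] [22,79,4] := S.symm (f2246 S)
theorem f2248 : F [0,5,7,0] [22,79,4,0] := S.appC (f2247 S) 0 (by decide +kernel)
theorem f2250 : F [3,31,0,4] [3,31] := S.pw0C [3,31] 1 4 (by decide +kernel)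
theorem f2251 : F [0,5,7,22] [0,5] := S.mapC (f2250 S) [4,2] (by decide +kernel)
theorem f2252 : F [22,79,4,0] [22,79] := S.mapC (f2251 S) [3,4,0,0,2] (by decide +kernel)
theorem f2253 : F [0,5,7,0] [22,79] := S.trans (f2248 S) (f2252 S)
theorem f2255 : F [0,5,7] [22,79,4] := S.mapC (f703 S) [3,4,0,0,2] (by decide +kernel)
theorem f2256 : F [22,79,4] [0,5,7] := S.symm (f2255 S)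
theorem f2257 : F [0,5,7] [22,79,4] := S.symm (f2256 S)
theorem f2258 : F [0,5,7,1] [22,79,4,1] := S.appC (f2257 S) 1 (by decide +kernel)
theorem f2260 : F [3,31,0,2] [3,31,4] := S.pw0C [3,31] 1 3 (by decide +kernel)
theorem f2261 : F [0,5,7,12] [0,5,22] := S.mapC (f2260 S) [4,2] (by decide +kernel)
theorem f2265 : F [0,5] [6,4] := S.mapC (f148 S) [0,0,3,3,0,3,1,3,3,3,1,3,0,3,3,4,2,2,1,2,0,2,0,0,0,2,0,2,1,2,0,2,2,1,1,1,1,4,3,3,0,3,3,3,1,3,3,3,1,2,0,2,2,4,3,3,1,3,0,2,0,0,0,2,2,2,0,2,1,2,2,2] (by decide +kernel)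
theorem f2266 : F [6,4] [0,5] := S.symm (f2265 S)
theorem f2267 : F [0,5] [6,4] := S.symm (f2266 S)
theorem f2268 : F [0,5,22] [6,4,22] := S.appC (f2267 S) 22 (by decide +kernel)
theorem f2269 : F [6,4,22] [79,0] := S.mapC (f201 S) [0,0,3,3,0,3,1,3,3,3,1,3,0,3,3,4,2,2,1,2,0,2,0,0,0,2,0,2,1,2,0,2,2,1,1,1,1,4,3,3,0,3,3,3,1,3,3,3,1,2,0,2,2,4,3,3,1,3,0,2,0,0,0,2,2,2,0,2,1,2,2,2] (by decide +kernel)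
theorem f2270 : F [0,5,22] [79,0] := S.trans (f2268 S) (f2269 S)
theorem f2271 : F [0,5,7,12] [79,0] := S.trans (f2261 S) (f2270 S)
theorem f2272 : F [22,79,4,1] [5,22] := S.mapC (f2271 S) [3,4,0,0,2] (by decide +kernel)
theorem f2273 : F [0,5,7,1] [5,22] := S.trans (f2258 S) (f2272 S)
theorem f2275 : F [0,5,7] [22,79,4] := S.mapC (f703 S) [3,4,0,0,2] (by decide +kernel)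
theorem f2276 : F [22,79,4] [0,5,7] := S.symm (f2275 S)
theorem f2277 : F [0,5,7] [22,79,4] := S.symm (f2276 S)
theorem f2278 : F [0,5,7,2] [22,79,4,2] := S.appC (f2277 S) 2 (by decide +kernel)
theorem f2280 : F [3,31,0,1] [3,31,2] := S.pw0C [3,31] 1 2 (by decide +kernel)
theorem f2281 : F [0,5,7,10] [0,5,12] := S.mapC (f2280 S) [4,2] (by decide +kernel)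
theorem f2285 : F [0,5,12] [120,165] := S.mapC (f731 S) [1,1,1,4,3,3,0,3,1,3,3,3,1,3,0,3,3,4,2,2,1,2,0,2,0,0,0,2,0,2,1,2,0,2,2,1] (by decide +kernel)
theorem f2286 : F [0,5,7,10] [120,165] := S.trans (f2281 S) (f2285 S)
theorem f2287 : F [22,79,4,2] [3,27] := S.mapC (f2286 S) [3,4,0,0,2] (by decide +kernel)
theorem f2288 : F [0,5,7,2] [3,27] := S.trans (f2278 S) (f2287 S)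
theorem f2290 : F [0,5,7] [22,79,4] := S.mapC (f703 S) [3,4,0,0,2] (by decide +kernel)
theorem f2291 : F [22,79,4] [0,5,7] := S.symm (f2290 S)
theorem f2292 : F [0,5,7] [22,79,4] := S.symm (f2291 S)
theorem f2293 : F [0,5,7,4] [22,79,4,4] := S.appC (f2292 S) 4 (by decide +kernel)
theorem f2294 : F [22,79,4,4] [110,27,51] := S.mapC (f1280 S) [3,4,0,0,2] (by decide +kernel)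
theorem f2295 : F [0,5,7,4] [110,27,51] := S.trans (f2293 S) (f2294 S)
theorem f2300 : F [0,99,9] [559,124,75] := S.mapC (f984 S) [2,2,4,3,1,2,0,3,4,2,2,2,4,3,1,2,0,3,4,2,2,4,3,1,2,0,3,3,1,2,0,3,4,2,4,3,1,2,0,3,4,2,2,4,3,1,2,0,3,3,1,2,0,3,4,2,2,2,4,3,1,2,0,3,3,1,2,0,3,4,2,4,3,1,2,0,3,4,3,4,2,1,3,0,2,2,1,3,0,2,4,3,3,4,2,1,3,0,2,4,2,2,4,3,1,2,0,3,3,1,2,0,3,4,2,4,3,1,2,0,3,4,2,2,4,3,1,2,0,3,3,1,2,0,3,4,2,4,2,1,3,0,2,2,1,3,0,2,4,3,4,2,1,3,0,2,2,1,3,0,2,4,3,3,4,3,1,2,0,3,4,2,2,4,3,1,2,0,3,3,1,2,0,3,4,2,4,3,1,2,0,3,3,1,2,0,3,3,1,2,0,3,3,1,2,0,3,4,2,2,4,3,1,2,0,3,3,1,2,0,3,4,2,4,3,1,2,0,3,4,2,2,4,3,1,2,0,3,3,1,2,0,3,4,2] (by decide +kernel)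
theorem f2301 : F [0,99,9,124] [559,124,75,124] := S.appC (f2300 S) 124 (by decide +kernel)
theorem f2302 : F [559,124,75,124] [0,99,9,124] := S.symm (f2301 S)
theorem f2303 : F [59,702,0,3] [124,394,4] := S.rel0C [59,702] (by decide +kernel)
theorem f2304 : F [0,99,9,124] [59,43,3] := S.mapC (f2303 S) [1,3,1,3,4] (by decide +kernel)
theorem f2305 : F [559,124,75,124] [59,43,3] := S.trans (f2302 S) (f2304 S)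
theorem f2316 : F [0,99,122] [32,252] := S.mapC (f1012 S) [4,3,4,3,3,1,2,0,3,4,3,3,4,3,1,2,0,3,4,2,2,4,3,1,2,0,3,3,1,2,0,3,4,2,2,2,4,3,1,2,0,3,3,1,2,0,3,4,2,4,3,1,2,0,3,4,3,4,2,1,3,0,2,2,1,3,0,2,4,3,4,2,1,3,0,2,4,2,4,2,1,3,0,2,2,1,3,0,2,4,2,4,2,4,2,4] (by decide +kernel)
theorem f2317 : F [59,43,3] [65,116] := S.mapC (f2316 S) [4,2,0,2,0,4,1,3,1,3,4] (by decide +kernel)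
theorem f2318 : F [559,124,75,124] [65,116] := S.trans (f2305 S) (f2317 S)
theorem f2319 : F [0,5,7,5] [110,12] := S.mapC (f2318 S) [4,3,3,4,2,2,4,1,3,4,3,1,2,0,3,3,1,2,0,3,3,1,2,0,3,4,2,2,2,4,3,1,2,0,3,3,1,2,0,3,3,1,2,0,3,4,2,2,4,3,1,2,0,3,3,1,2,0,3,4,2,4,3,1,2,0,3,3,1,2,0,3,4,2,2,4,3,1,2,0,3,3,1,2,0,3,4,2,4,3,1,2,0,3,4,2,2,4,3,1,2,0,3,3,1,2,0,3,4,2,4,2,1,3,0,2,2,1,3,0,2,4,3,4,2,1,3,0,2,2,1,3,0,2,4,3,3,4,3,1,2,0,3,4,2,2,4,3,1,2,0,3,3,1,2,0,3,4,2,4,3,1,2,0,3,3,1,2,0,3,3,1,2,0,3,3,1,2,0,3,4,2,2,4,3,1,2,0,3,3,1,2,0,3,4,2,4,3,1,2,0,3,4,2,2,4,3,1,2,0,3,3,1,2,0,3,4,2] (by decide +kernel)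
theorem f2321 : F [0,5,7] [257,79,54] := S.mapC (f450 S) [0,3,3,1,3,0,3,1,3,1,1,1,3,1,3,0,3,3,4,2,2,1,2,0,2,2,2,0,2,1,2,2,1,1,4,3,4,1,4,0,4,2,4,0,3,3,3,1,3,3,0,3,1,3,3,3,1,1,4,2,1,2,0,4,1,3,0,3,4,2,2,2,0,2,1,2,2,0,2,2,2,1,4,2,2,1,2,2,0,2,0,2,2,2,4,3,3,3,1,3,1,3,3,0,3,3,3,4,1,4,0,4,2,4] (by decide +kernel)
theorem f2322 : F [257,79,54] [0,5,7] := S.symm (f2321 S)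
theorem f2323 : F [0,5,7] [257,79,54] := S.symm (f2322 S)
theorem f2324 : F [0,5,7,6] [257,79,54,6] := S.appC (f2323 S) 6 (by decide +kernel)
theorem f2326 : F [4,5] [0,6] := S.mapC (f154 S) [4,2,1,3,0,2,2,1,3,0,2,2,1,3,0,2,4,3,4,2,1,3,0,2,2,1,3,0,2,4,3,3,4,2,1,3,0,2,4,2,2,4,3,1,2,0,3,3,1,2,0,3,4,2,4,3,1,2,0,3,3,1,2,0,3,4,3,4,2,1,3,0,2,2,1,3,0,2,4,3,3,4,2,1,3,0,2,2,1,3,0,2,4,3,4,2,1,3,0,2,2,1,3,0,2,4,3,3,4,2,1,3,0,2,2,1,3,0,2,2,1,3,0,2,4,3,4,2,1,3,0,2,2,1,3,0,2,4,3,3,4,2,1,3,0,2,2,1,3,0,2,2,1,3,0,2,4,3,4,2,1,3,0,2,2,1,3,0,2,4,3,3,3,4,2,1,3,0,2,2,1,3,0,2,4,3,3] (by decide +kernel)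
theorem f2327 : F [4,5] [0,6] := S.mapC (f2326 S) [3,4,2,1,3,0,2,2,1,3,0,2,4,3,3,4,2,1,3,0,2,4,3,4,2,1,3,0,2,2,1,3,0,2,4,3,3,4,2,1,3,0,2,4,3,4,2,1,3,0,2,2,1,3,0,2,4,3,3,4,2,1,3,0,2,4,3,4,2,1,3,0,2,2,1,3,0,2,4,3,3,3,4,2,1,3,0,2,2,1,3,0,2,4,3,3,4,3,1,2,0,3,4,2,2,4,3,1,2,0,3,3,1,2,0,3,4,2,4,2,1,3,0,2,2,1,3,0,2,2,1,3,0,2,4,3,4,2,1,3,0,2,2,1,3,0,2,4,3,3,4,2,1,3,0,2,4,2,2,4,3,1,2,0,3,3,1,2,0,3,4,2,4,3,1,2,0,3,3,1,2,0,3,4,3,4,2,1,3,0,2,2,1,3,0,2,4,3,3,4,2,1,3,0,2,2,1,3,0,2,2,1,3,0,2,2,1,3,0,2,4,3,4,2,1,3,0,2,2,1,3,0,2,4,3,3,4,2,1,3,0,2,4] (by decide +kernel)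
theorem f2328 : F [4,5] [0,6] := S.mapC (f2327 S) [3,4,2,1,3,0,2,2,1,3,0,2,4,3,3,4,2,1,3,0,2,4,3,4,2,1,3,0,2,2,1,3,0,2,4,3,3,4,2,1,3,0,2,4,3,4,2,1,3,0,2,2,1,3,0,2,4,3,3,4,2,1,3,0,2,4,3,4,2,1,3,0,2,2,1,3,0,2,4,3,3,3,4,2,1,3,0,2,2,1,3,0,2,4,3,3,4,3,1,2,0,3,4,2,2,4,3,1,2,0,3,3,1,2,0,3,4,2,4,2,1,3,0,2,2,1,3,0,2,2,1,3,0,2,4,3,4,2,1,3,0,2,2,1,3,0,2,4,3,3,4,2,1,3,0,2,4,2,2,4,3,1,2,0,3,3,1,2,0,3,4,2,4,3,1,2,0,3,3,1,2,0,3,4,3,4,2,1,3,0,2,2,1,3,0,2,4,3,3,4,2,1,3,0,2,2,1,3,0,2,2,1,3,0,2,2,1,3,0,2,4,3,4,2,1,3,0,2,2,1,3,0,2,4,3,3,4,2,1,3,0,2,4] (by decide +kernel)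
theorem f2329 : F [4,5] [0,6] := S.mapC (f2328 S) [4,2,1,3,0,2,2,1,3,0,2,2,1,3,0,2,4,3,4,2,1,3,0,2,2,1,3,0,2,4,3,3,4,2,1,3,0,2,4,2,2,4,3,1,2,0,3,3,1,2,0,3,4,2,4,3,1,2,0,3,3,1,2,0,3,4,3,4,2,1,3,0,2,2,1,3,0,2,4,3,3,4,2,1,3,0,2,2,1,3,0,2,4,3,4,2,1,3,0,2,2,1,3,0,2,4,3,3,4,2,1,3,0,2,2,1,3,0,2,2,1,3,0,2,4,3,4,2,1,3,0,2,2,1,3,0,2,4,3,3,4,2,1,3,0,2,2,1,3,0,2,2,1,3,0,2,4,3,4,2,1,3,0,2,2,1,3,0,2,4,3,3,3,4,2,1,3,0,2,2,1,3,0,2,4,3,3] (by decide +kernel)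
theorem f2330 : F [4,5] [0,6] := S.mapC (f2329 S) [3,4,2,1,3,0,2,2,1,3,0,2,4,3,3,4,2,1,3,0,2,4,3,4,2,1,3,0,2,2,1,3,0,2,4,3,3,4,2,1,3,0,2,4,3,4,2,1,3,0,2,2,1,3,0,2,4,3,3,4,2,1,3,0,2,4,3,4,2,1,3,0,2,2,1,3,0,2,4,3,3,3,4,2,1,3,0,2,2,1,3,0,2,4,3,3,4,3,1,2,0,3,4,2,2,4,3,1,2,0,3,3,1,2,0,3,4,2,4,2,1,3,0,2,2,1,3,0,2,2,1,3,0,2,4,3,4,2,1,3,0,2,2,1,3,0,2,4,3,3,4,2,1,3,0,2,4,2,2,4,3,1,2,0,3,3,1,2,0,3,4,2,4,3,1,2,0,3,3,1,2,0,3,4,3,4,2,1,3,0,2,2,1,3,0,2,4,3,3,4,2,1,3,0,2,2,1,3,0,2,2,1,3,0,2,2,1,3,0,2,4,3,4,2,1,3,0,2,2,1,3,0,2,4,3,3,4,2,1,3,0,2,4] (by decide +kernel)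
theorem f2331 : F [0,6] [4,5] := S.mapC (f2330 S) [0,0,4,3,1,2,0,3,3,1,2,0,3,3,1,2,0,3,3,1,2,0,3,4,2,2,4,3,1,2,0,3,3,1,2,0,3,4,2,4,3,1,2,0,3,4,3,4,2,1,3,0,2,2,1,3,0,2,4,3,3,4,3,1,2,0,3,4,2,2,4,3,1,2,0,3,3,1,2,0,3,4,2,4,3,1,2,0,3,3,1,2,0,3,3,1,2,0,3,4,3,4,2,1,3,0,2,2,1,3,0,2,4,3,3,4,2,1,3,0,2,4,2,2,4,3,1,2,0,3,3,1,2,0,3,4,2,4,3,1,2,0,3,4,2,2,4,3,1,2,0,3,3,1,2,0,3,4,2,4,3,1,2,0,3,4,2,2,4,3,1,2,0,3,3,1,2,0,3,4,2,4,3,1,2,0,3,4,2,2,4,3,1,2,0,3,3,1,2,0,3,4,2] (by decide +kernel)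
theorem f2332 : F [4,5] [0,6] := S.symm (f2331 S)
theorem f2333 : F [0,6] [4,5] := S.symm (f2332 S)
theorem f2334 : F [0,6,7] [4,5,7] := S.appC (f2333 S) 7 (by decide +kernel)

end Cfsg.Agent.Lib.TC.D.HND.Fa
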