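import Cfsg.Agent.Lib.TC.D.HND.Sys
import Cfsg.Agent.Lib.TC.D.HND.F4

namespace Cfsg.Agent.Lib.TC.D.HND.Fa

open Cfsg.Agent.Lib.TC.D.HND.Sys

set_option maxRecDepth 100000

variable {F : List Nat → List Nat → Prop} (S : Sys F)

include S

theorem f2335 : F [4,5,7] [5,17,2] := S.mapC (f2229 S) [0,0,4,3,1,2,0,3,3,1,2,0,3,3,1,2,0,3,3,1,2,0,3,4,2,2,4,3,1,2,0,3,3,1,2,0,3,4,2,4,3,1,2,0,3,4,3,4,2,1,3,0,2,2,1,3,0,2,4,3,3,4,3,1,2,0,3,4,2,2,4,3,1,2,0,3,3,1,2,0,3,4,2,4,3,1,2,0,3,3,1,2,0,3,3,1,2,0,3,4,3,4,2,1,3,0,2,2,1,3,0,2,4,3,3,4,2,1,3,0,2,4,2,2,4,3,1,2,0,3,3,1,2,0,3,4,2,4,3,1,2,0,3,4,2,2,4,3,1,2,0,3,3,1,2,0,3,4,2,4,3,1,2,0,3,4,2,2,4,3,1,2,0,3,3,1,2,0,3,4,2,4,3,1,2,0,3,4,2,2,4,3,1,2,0,3,3,1,2,0,3,4,2] (by decide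 +kernel)
theorem f2336 : F [0,6,7] [5,17,2] := S.trans (f2334 S) (f2335 S)
theorem f2337 : F [0,6,7,22] [5,17,2,22] := S.appC (f2336 S) 22 (by decide +kernel)
theorem f2338 : F [5,17,2,22] [0,6,7,22] := S.symm (f2337 S)
theorem f2339 : F [3,35,0,4] [3,35] := S.pw0C [3,35] 1 4 (by decide +kernel)
theorem f2340 : F [0,6,7,22] [0,6] := S.mapC (f2339 S) [4,2] (by decide +kernel)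
theorem f2341 : F [5,17,2,22] [0,6] := S.trans (f2338 S) (f2340 S)
theorem f2342 : F [0,5,7,72] [10,4] := S.mapC (f2341 S) [4,1,4,3,1,2,0,3,4,2,4,2,1,3,0,2,2,1,3,0,2,4,3,4,2,1,3,0,2,2,1,3,0,2,4,3,3,4,3,1,2,0,3,4,2,2,4,3,1,2,0,3,3,1,2,0,3,4,2,4,3,1,2,0,3,3,1,2,0,3,3,1,2,0,3,4,3,4,2,1,3,0,2,2,1,3,0,2,4,3,3,4,2,1,3,0,2,4,2,2,4,3,1,2,0,3,3,1,2,0,3,4,2,2,2,4,3,1,2,0,3,3,1,2,0,3,4,2,4,3,1,2,0,3,4,2,2,4,3,1,2,0,3,3,1,2,0,3,4,2,4,3,1,2,0,3,3,1,2,0,3,4,2,2,4,3,1,2,0,3,3,1,2,0,3,4,2,4,3,1,2,0,3,4,2,2,4,3,1,2,0,3,3,1,2,0,3,4,2,4,3,1,2,0,3,4,2,2,4,3,1,2,0,3,3,1,2,0,3,4,2] (by decide +kernel)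
theorem f2343 : F [257,79,54,6] [33,110] := S.mapC (f2342 S) [0,3,3,1,3,0,3,1,3,1,1,1,3,1,3,0,3,3,4,2,2,1,2,0,2,2,2,0,2,1,2,2,1,1,4,3,4,1,4,0,4,2,4,0,3,3,3,1,3,3,0,3,1,3,3,3,1,1,4,2,1,2,0,4,1,3,0,3,4,2,2,2,0,2,1,2,2,0,2,2,2,1,4,2,2,1,2,2,0,2,0,2,2,2,4,3,3,3,1,3,1,3,3,0,3,3,3,4,1,4,0,4,2,4] (by decide +kernel)
theorem f2344 : F [0,5,7,6] [33,110] := S.trans (f2324 S) (f2343 S)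
theorem f2359 : F [0,5,44] [116,99,32] := S.mapC (f794 S) [4,3,1,2,0,3,4,2,2,4,3,1,2,0,3,3,1,2,0,3,4,2,4,3,1,2,0,3,4,2,2,4,3,1,2,0,3,3,1,2,0,3,4,2,4,3,1,2,0,3,4,3,4,2,1,3,0,2,2,1,3,0,2,4,3,3,4,2,1,3,0,2,4,2,2,4,3,1,2,0,3,3,1,2,0,3,4,2,2,2,4,3,1,2,0,3,3,1,2,0,3,4,2,4,3,1,2,0,3,4,2,2,4,3,1,2,0,3,3,1,2,0,3,4,2,4,3,1,2,0,3,3,1,2,0,3,4,2,2,4,3,1,2,0,3,3,1,2,0,3,4,2] (by decide +kernel)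
theorem f2360 : F [0,5,44,498] [116,99,32,498] := S.appC (f2359 S) 498 (by decide +kernel)
theorem f2361 : F [116,99,32,498] [0,5,44,498] := S.symm (f2360 S)
theorem f2362 : F [98,433,0,3] [214,470,4] := S.rel0C [98,433] (by decide +kernel)
theorem f2363 : F [0,5,44,498] [185,702,117] := S.mapC (f2362 S) [3,3,1,3,0,4,2,4,2] (by decide +kernel)
theorem f2364 : F [116,99,32,498] [185,702,117] := S.trans (f2361 S) (f2363 S)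
theorem f2373 : F [6,4] [0,5] := S.mapC (f148 S) [3,3,3,3,0,3,1,1,1,1,3,1,2,2,0,4,1,3,3,0,2,0,2,1,2,2,2,2,4,0,0,0] (by decide +kernel)
theorem f2376 : F [0,5] [6,4] := S.symm (f2373 S)
theorem f2377 : F [0,5,214] [6,4,214] := S.appC (f2376 S) 214 (by decide +kernel)
theorem f2378 : F [6,4,214] [990,42] := S.mapC (f907 S) [4,2,1,3,0,2,2,1,3,0,2,2,1,3,0,2,4,3,4,2,1,3,0,2,2,1,3,0,2,4,3,3,4,2,1,3,0,2,4,2,2,4,3,1,2,0,3,3,1,2,0,3,4,2,4,3,1,2,0,3,3,1,2,0,3,4,3,4,2,1,3,0,2,2,1,3,0,2,4,3,3,4,2,1,3,0,2,4,3,4,2,1,3,0,2,2,1,3,0,2,4,3,3,4,3,1,2,0,3,4,2,2,4,3,1,2,0,3,3,1,2,0,3,4,2,4,2,1,3,0,2,4,3,4,2,1,3,0,2,2,1,3,0,2,4,3,3,3,4,2,1,3,0,2,2,1,3,0,2,4,3,3,4,2,1,3,0,2,4,3,4,2,1,3,0,2,2,1,3,0,2,4,3,3,4,2,1,3,0,2,4,3,4,2,1,3,0,2,2,1,3,0,2,4,3,3,4,2,1,3,0,2,4,1,4]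 (by decide +kernel)
theorem f2379 : F [0,5,214] [990,42] := S.trans (f2377 S) (f2378 S)
theorem f2380 : F [185,702,117] [567,1094] := S.mapC (f2379 S) [3,4,3,4,1,2,0,2,2,4,3,3,1,3,0,4,2,4,2] (by decide +kernel)
theorem f2381 : F [116,99,32,498] [567,1094] := S.trans (f2364 S) (f2380 S)
theorem f2382 : F [0,5,7,377] [489,877] := S.mapC (f2381 S) [4,3,3,4,0,0,3,4,3,1,2,0,3,3,1,2,0,3,4,2,2,2,4,3,1,2,0,3,4,2,2,4,3,1,2,0,3,3,1,2,0,3,4,2,2,2,4,3,1,2,0,3,3,1,2,0,3,4,2,4,3,1,2,0,3,3,1,2,0,3,4,2,2,4,3,1,2,0,3,3,1,2,0,3,4,2,4,3,1,2,0,3,3,1,2,0,3,4,2,2,4,3,1,2,0,3,3,1,2,0,3,4,2,4,2,1,3,0,2,2,1,3,0,2,4,3,4,2,1,3,0,2,2,1,3,0,2,4,3,3,4,3,1,2,0,3,4,2,2,4,3,1,2,0,3,3,1,2,0,3,4,2,4,3,1,2,0,3,3,1,2,0,3,3,1,2,0,3,4,3,4,2,1,3,0,2,2,1,3,0,2,4,3,3,4,2,1,3,0,2,4,2,2,4,3,1,2,0,3,3,1,2,0,3,4,2,4,3,1,2,0,3,4,2,2,4,3,1,2,0,3,3,1,2,0,3,4,2,4,3,1,2,0,3,3,1,2,0,3,4,2,2,4,3,1,2,0,3,3,1,2,0,3,4,2]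 (by decide +kernel)
theorem f2383 : F [0,5,7,8] [489,209] := S.mapC (f2382 S) [4,2,1,3,0,2,2,1,3,0,2,4,3,4,2,1,3,0,2,2,1,3,0,2,4,3,3,4,3,1,2,0,3,4,2,2,4,3,1,2,0,3,3,1,2,0,3,4,2,4,3,1,2,0,3,3,1,2,0,3,3,1,2,0,3,4,3,4,2,1,3,0,2,2,1,3,0,2,4,3,3,4,2,1,3,0,2,4,2,2,4,3,1,2,0,3,3,1,2,0,3,4,2,2,2,4,3,1,2,0,3,3,1,2,0,3,4,2,4,3,1,2,0,3,4,2,2,4,3,1,2,0,3,3,1,2,0,3,4,2,4,3,1,2,0,3,3,1,2,0,3,4,2,2,4,3,1,2,0,3,3,1,2,0,3,4,2,4,3,1,2,0,3,4,2,2,4,3,1,2,0,3,3,1,2,0,3,4,2,4,3,1,2,0,3,4,2,2,4,3,1,2,0,3,3,1,2,0,3,4,2] (by decide +kernel)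
theorem f2388 : F [0,99,6] [140,122,496] := S.mapC (f1258 S) [2,2,4,3,1,2,0,3,4,2,2,2,4,3,1,2,0,3,4,2,2,4,3,1,2,0,3,3,1,2,0,3,4,2,4,3,1,2,0,3,4,2,2,4,3,1,2,0,3,3,1,2,0,3,4,2,2,2,4,3,1,2,0,3,3,1,2,0,3,4,2,4,3,1,2,0,3,4,3,4,2,1,3,0,2,2,1,3,0,2,4,3,3,4,2,1,3,0,2,4,2,2,4,3,1,2,0,3,3,1,2,0,3,4,2,4,3,1,2,0,3,4,2,2,4,3,1,2,0,3,3,1,2,0,3,4,2,4,2,1,3,0,2,2,1,3,0,2,4,3,4,2,1,3,0,2,2,1,3,0,2,4,3,3,4,3,1,2,0,3,4,2,2,4,3,1,2,0,3,3,1,2,0,3,4,2,4,3,1,2,0,3,3,1,2,0,3,3,1,2,0,3,3,1,2,0,3,4,2,2,4,3,1,2,0,3,3,1,2,0,3,4,2,4,3,1,2,0,3,4,2,2,4,3,1,2,0,3,3,1,2,0,3,4,2] (by decide +kernel)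
theorem f2389 : F [0,99,6,83] [140,122,496,83] := S.appC (f2388 S) 83 (by decide +kernel)
theorem f2390 : F [140,122,496,83] [0,99,6,83] := S.symm (f2389 S)
theorem f2391 : F [36,402,0,3] [81,193,4] := S.rel0C [36,402] (by decide +kernel)
theorem f2392 : F [0,99,6,83] [57,116,5] := S.mapC (f2391 S) [3,1,3,4] (by decide +kernel)
theorem f2393 : F [140,122,496,83] [57,116,5] := S.trans (f2390 S) (f2392 S)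
theorem f2405 : F [0,99,81] [4,64] := S.mapC (f1096 S) [3,4,2,1,3,0,2,2,1,3,0,2,4,3,3,4,2,1,3,0,2,2,1,3,0,2,4,3,4,2,1,3,0,2,2,1,3,0,2,4,3,3,4,2,1,3,0,2,4,3,4,2,1,3,0,2,2,1,3,0,2,4,3,3,3,4,2,1,3,0,2,2,1,3,0,2,4,3,3,4,3,1,2,0,3,4,2,2,4,3,1,2,0,3,3,1,2,0,3,4,2,4,2,1,3,0,2,2,1,3,0,2,2,1,3,0,2,4,3,4,2,1,3,0,2,2,1,3,0,2,4,3,3,4,2,1,3,0,2,4,2,2,4,3,1,2,0,3,3,1,2,0,3,4,2,4,3,1,2,0,3,4,3,4,2,1,3,0,2,2,1,3,0,2,4,3,3,4,2,1,3,0,2,4,3,4,2,1,3,0,2,2,1,3,0,2,4,3,3,4,2,1,3,0,2,2,1,3,0,2,4,2,4,2,1,3,0,2,4,2,4,2,1,3,0,2,4] (by decide +kernel)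
theorem f2406 : F [57,116,5] [59,160] := S.mapC (f2405 S) [4,2,0,2,4,3,1,3,4] (by decide +kernel)
theorem f2407 : F [140,122,496,83] [59,160] := S.trans (f2393 S) (f2406 S)
theorem f2408 : F [0,5,7,9] [33,4] := S.mapC (f2407 S) [4,3,4,3,4,1,2,4,3,1,2,0,3,3,1,2,0,3,3,1,2,0,3,3,1,2,0,3,4,2,2,4,3,1,2,0,3,3,1,2,0,3,4,2,4,3,1,2,0,3,3,1,2,0,3,3,1,2,0,3,4,3,4,2,1,3,0,2,2,1,3,0,2,4,3,3,4,2,1,3,0,2,4,2,2,4,3,1,2,0,3,3,1,2,0,3,4,2,2,2,4,3,1,2,0,3,3,1,2,0,3,4,2,4,3,1,2,0,3,4,2,2,4,3,1,2,0,3,3,1,2,0,3,4,2,4,3,1,2,0,3,3,1,2,0,3,4,2,2,4,3,1,2,0,3,3,1,2,0,3,4,2] (by decide +kernel)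
theorem f2416 : F [0,5,7,11] [8,110,29] := S.mapC (f1047 S) [4,3,1,2,0,3,3,1,2,0,3,4,2,2,4,3,1,2,0,3,3,1,2,0,3,4,2] (by decide +kernel)
theorem f2418 : F [22,79,4] [0,5,7] := S.mapC (f703 S) [4,2,1,3,0,2,2,1,3,0,2,2,1,3,0,2,4,3,4,2,1,3,0,2,2,1,3,0,2,4,3,3,4,2,1,3,0,2,4,2,2,4,3,1,2,0,3,3,1,2,0,3,4,2,4,3,1,2,0,3,3,1,2,0,3,4,3,4,2,1,3,0,2,2,1,3,0,2,4,3,3,4,2,1,3,0,2,2,1,3,0,2,4,3,4,2,1,3,0,2,2,1,3,0,2,4,3,3,4,2,1,3,0,2,4,3,4,2,1,3,0,2,2,1,3,0,2,4,3,3,4,3,1,2,0,3,4,2,2,4,3,1,2,0,3,3,1,2,0,3,4,2] (by decide +kernel)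
theorem f2419 : F [17,5,110] [257,79,54] := S.mapC (f2418 S) [4,3,4,1,4,0,4,2,2,2,1,2,2,0,2,0,2,2,2,4,3,3,3,1,3,1,3,3,0,3,3,4,0,3,3,3,1,3,3,0,3,1,3,3,3,4,2,1,2,0,4,1,3,0,3,4,0,0,2,2,2,0,2,1,2,2,0,2,2,2,1,4,3,4,1,4,0,4,2,4,0,0,3,3,0,3,1,3,3,3,1,3,0,3,3,4,2,2,1,2,0,2,0,0,0,2,0,2,1,2,0,2,2,1] (by decide +kernel)
theorem f2420 : F [17,5,110] [0,5,7] := S.trans (f2419 S) (f450 S)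
theorem f2421 : F [0,5,7] [17,5,110] := S.mapC (f2420 S) [4,3,3,1,2,0,3,3,1,2,0,3,3,1,2,0,3,3,1,2,0,3,4,2,2,4,3,1,2,0,3,3,1,2,0,3,4,2,4,3,1,2,0,3,4,3,4,2,1,3,0,2,2,1,3,0,2,4,3,3,4,3,1,2,0,3,4,2,2,4,3,1,2,0,3,3,1,2,0,3,4,2,4,3,1,2,0,3,3,1,2,0,3,3,1,2,0,3,4] (by decide +kernel)
theorem f2422 : F [17,5,110] [0,5,7] := S.symm (f2421 S)
theorem f2423 : F [0,5,7] [17,5,110] := S.symm (f2422 S)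
theorem f2424 : F [0,5,7,13] [17,5,110,13] := S.appC (f2423 S) 13 (by decide +kernel)
theorem f2432 : F [0,5,44] [116,99,32] := S.mapC (f794 S) [4,3,1,2,0,3,4,2,2,4,3,1,2,0,3,3,1,2,0,3,4,2,4,3,1,2,0,3,4,2,2,4,3,1,2,0,3,3,1,2,0,3,4,2,4,3,1,2,0,3,4,3,4,2,1,3,0,2,2,1,3,0,2,4,3,3,4,2,1,3,0,2,4,2,2,4,3,1,2,0,3,3,1,2,0,3,4,2,2,2,4,3,1,2,0,3,3,1,2,0,3,4,2,4,3,1,2,0,3,4,2,2,4,3,1,2,0,3,3,1,2,0,3,4,2,4,3,1,2,0,3,3,1,2,0,3,4,2,2,4,3,1,2,0,3,3,1,2,0,3,4,2] (by decide +kernel)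
theorem f2433 : F [0,5,44,299] [116,99,32,299] := S.appC (f2432 S) 299 (by decide +kernel)
theorem f2434 : F [116,99,32,299] [0,5,44,299] := S.symm (f2433 S)
theorem f2435 : F [328,352,0,3] [560,164,4] := S.rel0C [328,352] (by decide +kernel)
theorem f2436 : F [0,5,44,299] [257,79,117] := S.mapC (f2435 S) [1,3,0,3,4,2,4,2] (by decide +kernel)
theorem f2437 : F [116,99,32,299] [257,79,117] := S.trans (f2434 S) (f2436 S)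
theorem f2445 : F [0,5] [6,4] := S.symm (f148 S)
theorem f2446 : F [0,5,302] [6,4,302] := S.appC (f2445 S) 302 (by decide +kernel)
theorem f2447 : F [6,4,302] [124,61] := S.mapC (f907 S) [1,1,1,4,3,0,3,3,1,3,4,2,0,0,0,2,0,2,1,2,1,1,1,4,3,0,3,3,1,3,4,2,0,0,0,2,0,2,1,2,1,1,1,4,3,3,0,3,3,3,1,3,3,3,1,2,0,2,2,4,3,3,1,3,0,2,0,0,0,2,2,2,0,2,1,2,2,2,1,1,1,4,3,3,0,3,1,3,3,3,1,3,0,3,3,4,2,2,1,2,0,2,0,0,0,2,0,2,1,2,0,2,2,1,1,1,1,4,1,1] (by decide +kernel)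
theorem f2448 : F [0,5,302] [124,61] := S.trans (f2446 S) (f2447 S)
theorem f2449 : F [257,79,117] [632,235] := S.mapC (f2448 S) [3,4,3,4,2,1,2,0,4,1,3,0,3,4,2,4,2] (by decide +kernel)
theorem f2450 : F [116,99,32,299] [632,235] := S.trans (f2437 S) (f2449 S)
theorem f2451 : F [0,5,7,207] [41,125] := S.mapC (f2450 S) [4,3,3,4,0,0,3,4,3,1,2,0,3,3,1,2,0,3,4,2,2,2,4,3,1,2,0,3,4,2,2,4,3,1,2,0,3,3,1,2,0,3,4,2,2,2,4,3,1,2,0,3,3,1,2,0,3,4,2,4,3,1,2,0,3,3,1,2,0,3,4,2,2,4,3,1,2,0,3,3,1,2,0,3,4,2,4,3,1,2,0,3,3,1,2,0,3,4,2,2,4,3,1,2,0,3,3,1,2,0,3,4,2,4,2,1,3,0,2,2,1,3,0,2,4,3,4,2,1,3,0,2,2,1,3,0,2,4,3,3,4,3,1,2,0,3,4,2,2,4,3,1,2,0,3,3,1,2,0,3,4,2,4,3,1,2,0,3,3,1,2,0,3,3,1,2,0,3,4,3,4,2,1,3,0,2,2,1,3,0,2,4,3,3,4,2,1,3,0,2,4,2,2,4,3,1,2,0,3,3,1,2,0,3,4,2,4,3,1,2,0,3,4,2,2,4,3,1,2,0,3,3,1,2,0,3,4,2,4,3,1,2,0,3,3,1,2,0,3,4,2,2,4,3,1,2,0,3,3,1,2,0,3,4,2]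 (by decide +kernel)
theorem f2452 : F [17,5,110,13] [18,274] := S.mapC (f2451 S) [4,3,3,1,2,0,3,3,1,2,0,3,3,1,2,0,3,3,1,2,0,3,4,2,2,4,3,1,2,0,3,3,1,2,0,3,4,2,4,3,1,2,0,3,4,3,4,2,1,3,0,2,2,1,3,0,2,4,3,3,4,3,1,2,0,3,4,2,2,4,3,1,2,0,3,3,1,2,0,3,4,2,4,3,1,2,0,3,3,1,2,0,3,3,1,2,0,3,4] (by decide +kernel)
theorem f2453 : F [0,5,7,13] [18,274] := S.trans (f2424 S) (f2452 S)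
theorem f2458 : F [0,5,7,14] [10,51,2] := S.mapC (f1379 S) [4,3,1,2,0,3,3,1,2,0,3,4,2,2,4,3,1,2,0,3,3,1,2,0,3,4,2,4,3,1,2,0,3,3,1,2,0,3,4,2,2,4,3,1,2,0,3,3,1,2,0,3,4,2,4,2,1,3,0,2,2,1,3,0,2,4,3,4,2,1,3,0,2,2,1,3,0,2,4,3,3,4,3,1,2,0,3,4,2,2,4,3,1,2,0,3,3,1,2,0,3,4,2,4,3,1,2,0,3,3,1,2,0,3,3,1,2,0,3,4] (by decide +kernel)
theorem f2460 : F [17,5,110] [22,79,4] := S.mapC (f450 S) [3,1,1,4,2] (by decide +kernel)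
theorem f2461 : F [17,5,110] [0,5,7] := S.trans (f2460 S) (f703 S)
theorem f2462 : F [0,5,7] [17,5,110] := S.mapC (f2461 S) [3,4,0,0,2,0,3,3,1,3,0,3,1,3,1,1,1,3,1,3,0,3,3,4,2,2,1,2,0,2,2,2,0,2,1,2,2,1,1,4,3,4,1,4,0,4,2,4,0,3,3,3,1,3,3,0,3,1,3,3,3,1,1,4,2,1,2,0,4,1,3,0,3,4,2,2,2,0,2,1,2,2,0,2,2,2,1,4,2,2,1,2,2,0,2,0,2,2,2,4,3,3,3,1,3,1,3,3,0,3,3,3,4,1,4,0,4,2,4] (by decide +kernel)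
theorem f2463 : F [17,5,110] [0,5,7] := S.symm (f2462 S)
theorem f2464 : F [0,5,7] [17,5,110] := S.symm (f2463 S)
theorem f2465 : F [0,5,7,15] [17,5,110,15] := S.appC (f2464 S) 15 (by decide +kernel)
theorem f2467 : F [4,5] [0,6] := S.mapC (f154 S) [4,2,1,3,0,2,2,1,3,0,2,2,1,3,0,2,4,3,4,2,1,3,0,2,2,1,3,0,2,4,3,3,4,2,1,3,0,2,4,2,2,4,3,1,2,0,3,3,1,2,0,3,4,2,4,3,1,2,0,3,3,1,2,0,3,4,3,4,2,1,3,0,2,2,1,3,0,2,4,3,3,4,2,1,3,0,2,2,1,3,0,2,4,3,4,2,1,3,0,2,2,1,3,0,2,4,3,3,4,2,1,3,0,2,2,1,3,0,2,2,1,3,0,2,4,3,4,2,1,3,0,2,2,1,3,0,2,4,3,3,4,2,1,3,0,2,2,1,3,0,2,2,1,3,0,2,4,3,4,2,1,3,0,2,2,1,3,0,2,4,3,3,3,4,2,1,3,0,2,2,1,3,0,2,4,3,3] (by decide +kernel)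
theorem f2468 : F [4,5] [0,6] := S.mapC (f2467 S) [3,4,2,1,3,0,2,2,1,3,0,2,4,3,3,4,2,1,3,0,2,4,3,4,2,1,3,0,2,2,1,3,0,2,4,3,3,4,2,1,3,0,2,4,3,4,2,1,3,0,2,2,1,3,0,2,4,3,3,4,2,1,3,0,2,4,3,4,2,1,3,0,2,2,1,3,0,2,4,3,3,3,4,2,1,3,0,2,2,1,3,0,2,4,3,3,4,3,1,2,0,3,4,2,2,4,3,1,2,0,3,3,1,2,0,3,4,2,4,2,1,3,0,2,2,1,3,0,2,2,1,3,0,2,4,3,4,2,1,3,0,2,2,1,3,0,2,4,3,3,4,2,1,3,0,2,4,2,2,4,3,1,2,0,3,3,1,2,0,3,4,2,4,3,1,2,0,3,3,1,2,0,3,4,3,4,2,1,3,0,2,2,1,3,0,2,4,3,3,4,2,1,3,0,2,2,1,3,0,2,2,1,3,0,2,2,1,3,0,2,4,3,4,2,1,3,0,2,2,1,3,0,2,4,3,3,4,2,1,3,0,2,4] (by decide +kernel)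
theorem f2469 : F [4,5] [0,6] := S.mapC (f2468 S) [3,4,2,1,3,0,2,2,1,3,0,2,4,3,3,4,2,1,3,0,2,4,3,4,2,1,3,0,2,2,1,3,0,2,4,3,3,4,2,1,3,0,2,4,3,4,2,1,3,0,2,2,1,3,0,2,4,3,3,4,2,1,3,0,2,4,3,4,2,1,3,0,2,2,1,3,0,2,4,3,3,3,4,2,1,3,0,2,2,1,3,0,2,4,3,3,4,3,1,2,0,3,4,2,2,4,3,1,2,0,3,3,1,2,0,3,4,2,4,2,1,3,0,2,2,1,3,0,2,2,1,3,0,2,4,3,4,2,1,3,0,2,2,1,3,0,2,4,3,3,4,2,1,3,0,2,4,2,2,4,3,1,2,0,3,3,1,2,0,3,4,2,4,3,1,2,0,3,3,1,2,0,3,4,3,4,2,1,3,0,2,2,1,3,0,2,4,3,3,4,2,1,3,0,2,2,1,3,0,2,2,1,3,0,2,2,1,3,0,2,4,3,4,2,1,3,0,2,2,1,3,0,2,4,3,3,4,2,1,3,0,2,4] (by decide +kernel)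
theorem f2470 : F [4,5] [0,6] := S.mapC (f2469 S) [4,2,1,3,0,2,2,1,3,0,2,2,1,3,0,2,4,3,4,2,1,3,0,2,2,1,3,0,2,4,3,3,4,2,1,3,0,2,4,2,2,4,3,1,2,0,3,3,1,2,0,3,4,2,4,3,1,2,0,3,3,1,2,0,3,4,3,4,2,1,3,0,2,2,1,3,0,2,4,3,3,4,2,1,3,0,2,2,1,3,0,2,4,3,4,2,1,3,0,2,2,1,3,0,2,4,3,3,4,2,1,3,0,2,2,1,3,0,2,2,1,3,0,2,4,3,4,2,1,3,0,2,2,1,3,0,2,4,3,3,4,2,1,3,0,2,2,1,3,0,2,2,1,3,0,2,4,3,4,2,1,3,0,2,2,1,3,0,2,4,3,3,3,4,2,1,3,0,2,2,1,3,0,2,4,3,3] (by decide +kernel)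
theorem f2471 : F [4,5] [0,6] := S.mapC (f2470 S) [3,4,2,1,3,0,2,2,1,3,0,2,4,3,3,4,2,1,3,0,2,4,3,4,2,1,3,0,2,2,1,3,0,2,4,3,3,4,2,1,3,0,2,4,3,4,2,1,3,0,2,2,1,3,0,2,4,3,3,4,2,1,3,0,2,4,3,4,2,1,3,0,2,2,1,3,0,2,4,3,3,3,4,2,1,3,0,2,2,1,3,0,2,4,3,3,4,3,1,2,0,3,4,2,2,4,3,1,2,0,3,3,1,2,0,3,4,2,4,2,1,3,0,2,2,1,3,0,2,2,1,3,0,2,4,3,4,2,1,3,0,2,2,1,3,0,2,4,3,3,4,2,1,3,0,2,4,2,2,4,3,1,2,0,3,3,1,2,0,3,4,2,4,3,1,2,0,3,3,1,2,0,3,4,3,4,2,1,3,0,2,2,1,3,0,2,4,3,3,4,2,1,3,0,2,2,1,3,0,2,2,1,3,0,2,2,1,3,0,2,4,3,4,2,1,3,0,2,2,1,3,0,2,4,3,3,4,2,1,3,0,2,4] (by decide +kernel)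
theorem f2472 : F [0,6] [4,5] := S.mapC (f2471 S) [0,0,4,3,1,2,0,3,3,1,2,0,3,3,1,2,0,3,3,1,2,0,3,4,2,2,4,3,1,2,0,3,3,1,2,0,3,4,2,4,3,1,2,0,3,4,3,4,2,1,3,0,2,2,1,3,0,2,4,3,3,4,3,1,2,0,3,4,2,2,4,3,1,2,0,3,3,1,2,0,3,4,2,4,3,1,2,0,3,3,1,2,0,3,3,1,2,0,3,4,3,4,2,1,3,0,2,2,1,3,0,2,4,3,3,4,2,1,3,0,2,4,2,2,4,3,1,2,0,3,3,1,2,0,3,4,2,4,3,1,2,0,3,4,2,2,4,3,1,2,0,3,3,1,2,0,3,4,2,4,3,1,2,0,3,4,2,2,4,3,1,2,0,3,3,1,2,0,3,4,2,4,3,1,2,0,3,4,2,2,4,3,1,2,0,3,3,1,2,0,3,4,2] (by decide +kernel)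
theorem f2473 : F [4,5] [0,6] := S.symm (f2472 S)
theorem f2474 : F [0,6] [4,5] := S.symm (f2473 S)
theorem f2475 : F [0,6,7] [4,5,7] := S.appC (f2474 S) 7 (by decide +kernel)
theorem f2476 : F [4,5,7] [5,17,2] := S.mapC (f2229 S) [0,0,4,3,1,2,0,3,3,1,2,0,3,3,1,2,0,3,3,1,2,0,3,4,2,2,4,3,1,2,0,3,3,1,2,0,3,4,2,4,3,1,2,0,3,4,3,4,2,1,3,0,2,2,1,3,0,2,4,3,3,4,3,1,2,0,3,4,2,2,4,3,1,2,0,3,3,1,2,0,3,4,2,4,3,1,2,0,3,3,1,2,0,3,3,1,2,0,3,4,3,4,2,1,3,0,2,2,1,3,0,2,4,3,3,4,2,1,3,0,2,4,2,2,4,3,1,2,0,3,3,1,2,0,3,4,2,4,3,1,2,0,3,4,2,2,4,3,1,2,0,3,3,1,2,0,3,4,2,4,3,1,2,0,3,4,2,2,4,3,1,2,0,3,3,1,2,0,3,4,2,4,3,1,2,0,3,4,2,2,4,3,1,2,0,3,3,1,2,0,3,4,2] (by decide +kernel)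
theorem f2477 : F [0,6,7] [5,17,2] := S.trans (f2475 S) (f2476 S)
theorem f2478 : F [0,6,7,58] [5,17,2,58] := S.appC (f2477 S) 58 (by decide +kernel)
theorem f2479 : F [5,17,2,58] [0,6,7,58] := S.symm (f2478 S)
theorem f2480 : F [24,33,0,3] [58,12,4] := S.rel0C [24,33] (by decide +kernel)
theorem f2481 : F [0,6,7,58] [110,79,22] := S.mapC (f2480 S) [1,3,0,4,2] (by decide +kernel)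
theorem f2482 : F [5,17,2,58] [110,79,22] := S.trans (f2479 S) (f2481 S)
theorem f2484 : F [4,5] [0,6] := S.mapC (f154 S) [4,2,1,3,0,2,2,1,3,0,2,2,1,3,0,2,4,3,4,2,1,3,0,2,2,1,3,0,2,4,3,3,4,2,1,3,0,2,4,2,2,4,3,1,2,0,3,3,1,2,0,3,4,2,4,3,1,2,0,3,3,1,2,0,3,4,3,4,2,1,3,0,2,2,1,3,0,2,4,3,3,4,2,1,3,0,2,2,1,3,0,2,4,3,4,2,1,3,0,2,2,1,3,0,2,4,3,3,4,2,1,3,0,2,2,1,3,0,2,2,1,3,0,2,4,3,4,2,1,3,0,2,2,1,3,0,2,4,3,3,4,2,1,3,0,2,2,1,3,0,2,2,1,3,0,2,4,3,4,2,1,3,0,2,2,1,3,0,2,4,3,3,3,4,2,1,3,0,2,2,1,3,0,2,4,3,3] (by decide +kernel)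
theorem f2485 : F [4,5] [0,6] := S.mapC (f2484 S) [3,4,2,1,3,0,2,2,1,3,0,2,4,3,3,4,2,1,3,0,2,4,3,4,2,1,3,0,2,2,1,3,0,2,4,3,3,4,2,1,3,0,2,4,3,4,2,1,3,0,2,2,1,3,0,2,4,3,3,4,2,1,3,0,2,4,3,4,2,1,3,0,2,2,1,3,0,2,4,3,3,3,4,2,1,3,0,2,2,1,3,0,2,4,3,3,4,3,1,2,0,3,4,2,2,4,3,1,2,0,3,3,1,2,0,3,4,2,4,2,1,3,0,2,2,1,3,0,2,2,1,3,0,2,4,3,4,2,1,3,0,2,2,1,3,0,2,4,3,3,4,2,1,3,0,2,4,2,2,4,3,1,2,0,3,3,1,2,0,3,4,2,4,3,1,2,0,3,3,1,2,0,3,4,3,4,2,1,3,0,2,2,1,3,0,2,4,3,3,4,2,1,3,0,2,2,1,3,0,2,2,1,3,0,2,2,1,3,0,2,4,3,4,2,1,3,0,2,2,1,3,0,2,4,3,3,4,2,1,3,0,2,4] (by decide +kernel)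
theorem f2486 : F [4,5] [0,6] := S.mapC (f2485 S) [3,4,2,1,3,0,2,2,1,3,0,2,4,3,3,4,2,1,3,0,2,4,3,4,2,1,3,0,2,2,1,3,0,2,4,3,3,4,2,1,3,0,2,4,3,4,2,1,3,0,2,2,1,3,0,2,4,3,3,4,2,1,3,0,2,4,3,4,2,1,3,0,2,2,1,3,0,2,4,3,3,3,4,2,1,3,0,2,2,1,3,0,2,4,3,3,4,3,1,2,0,3,4,2,2,4,3,1,2,0,3,3,1,2,0,3,4,2,4,2,1,3,0,2,2,1,3,0,2,2,1,3,0,2,4,3,4,2,1,3,0,2,2,1,3,0,2,4,3,3,4,2,1,3,0,2,4,2,2,4,3,1,2,0,3,3,1,2,0,3,4,2,4,3,1,2,0,3,3,1,2,0,3,4,3,4,2,1,3,0,2,2,1,3,0,2,4,3,3,4,2,1,3,0,2,2,1,3,0,2,2,1,3,0,2,2,1,3,0,2,4,3,4,2,1,3,0,2,2,1,3,0,2,4,3,3,4,2,1,3,0,2,4] (by decide +kernel)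
theorem f2487 : F [4,5] [0,6] := S.mapC (f2486 S) [4,2,1,3,0,2,2,1,3,0,2,2,1,3,0,2,4,3,4,2,1,3,0,2,2,1,3,0,2,4,3,3,4,2,1,3,0,2,4,2,2,4,3,1,2,0,3,3,1,2,0,3,4,2,4,3,1,2,0,3,3,1,2,0,3,4,3,4,2,1,3,0,2,2,1,3,0,2,4,3,3,4,2,1,3,0,2,2,1,3,0,2,4,3,4,2,1,3,0,2,2,1,3,0,2,4,3,3,4,2,1,3,0,2,2,1,3,0,2,2,1,3,0,2,4,3,4,2,1,3,0,2,2,1,3,0,2,4,3,3,4,2,1,3,0,2,2,1,3,0,2,2,1,3,0,2,4,3,4,2,1,3,0,2,2,1,3,0,2,4,3,3,3,4,2,1,3,0,2,2,1,3,0,2,4,3,3] (by decide +kernel)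
theorem f2488 : F [4,5] [0,6] := S.mapC (f2487 S) [3,4,2,1,3,0,2,2,1,3,0,2,4,3,3,4,2,1,3,0,2,4,3,4,2,1,3,0,2,2,1,3,0,2,4,3,3,4,2,1,3,0,2,4,3,4,2,1,3,0,2,2,1,3,0,2,4,3,3,4,2,1,3,0,2,4,3,4,2,1,3,0,2,2,1,3,0,2,4,3,3,3,4,2,1,3,0,2,2,1,3,0,2,4,3,3,4,3,1,2,0,3,4,2,2,4,3,1,2,0,3,3,1,2,0,3,4,2,4,2,1,3,0,2,2,1,3,0,2,2,1,3,0,2,4,3,4,2,1,3,0,2,2,1,3,0,2,4,3,3,4,2,1,3,0,2,4,2,2,4,3,1,2,0,3,3,1,2,0,3,4,2,4,3,1,2,0,3,3,1,2,0,3,4,3,4,2,1,3,0,2,2,1,3,0,2,4,3,3,4,2,1,3,0,2,2,1,3,0,2,2,1,3,0,2,2,1,3,0,2,4,3,4,2,1,3,0,2,2,1,3,0,2,4,3,3,4,2,1,3,0,2,4] (by decide +kernel)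
theorem f2490 : F [9,1] [4,5] := S.mapC (f132 S) [1,1] (by decide +kernel)
theorem f2491 : F [9,1] [0,6] := S.trans (f2490 S) (f154 S)
theorem f2492 : F [187,127] [86,279] := S.mapC (f2491 S) [3,4,2,1,3,0,2,2,1,3,0,2,4,3,3,4,2,1,3,0,2,4,3,4,2,1,3,0,2,2,1,3,0,2,4,3,3,4,2,1,3,0,2,4,3,4,2,1,3,0,2,2,1,3,0,2,4,3,3,4,2,1,3,0,2,4,3,4,2,1,3,0,2,2,1,3,0,2,4,3,3,4,3,1,2,0,3,4,2,2,4,3,1,2,0,3,3,1,2,0,3,4,2,4,2,1,3,0,2,2,1,3,0,2,2,1,3,0,2,4,3,4,2,1,3,0,2,2,1,3,0,2,4,3,3,4,2,1,3,0,2,4,2,2,4,3,1,2,0,3,3,1,2,0,3,4,2,4,2,1,3,0,2,4,3,4,2,1,3,0,2,2,1,3,0,2,4,3,3,4,2,1,3,0,2,4,2,2,4,3,1,2,0,3,3,1,2,0,3,4,2,4,2,1,3,0,2,4,3,4,2,1,3,0,2,4,2,4,3,3,0,2] (by decide +kernel)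
theorem f2493 : F [187,127] [0,6] := S.trans (f2492 S) (f646 S)
theorem f2494 : F [9,1] [86,279] := S.mapC (f2493 S) [3,4,2,1,3,0,2,2,1,3,0,2,4,3,3,4,2,1,3,0,2,4,3,4,2,1,3,0,2,2,1,3,0,2,4,3,3,4,2,1,3,0,2,4,3,4,2,1,3,0,2,2,1,3,0,2,4,3,3,4,2,1,3,0,2,4,3,4,2,1,3,0,2,2,1,3,0,2,4,3,3,4,3,1,2,0,3,4,2,2,4,3,1,2,0,3,3,1,2,0,3,4,2,4,2,1,3,0,2,2,1,3,0,2,2,1,3,0,2,4,3,4,2,1,3,0,2,2,1,3,0,2,4,3,3,4,2,1,3,0,2,4,2,2,4,3,1,2,0,3,3,1,2,0,3,4,2,4,2,1,3,0,2,4,3,4,2,1,3,0,2,2,1,3,0,2,4,3,3,4,2,1,3,0,2,4,2,2,4,3,1,2,0,3,3,1,2,0,3,4,2,4,2,1,3,0,2,4,3,4,2,1,3,0,2,4,2,4,3,3,0,2] (by decide +kernel)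
theorem f2495 : F [9,1] [0,6] := S.trans (f2494 S) (f646 S)
theorem f2496 : F [0,6] [4,5] := S.mapC (f2488 S) [0,0,4,3,1,2,0,3,3,1,2,0,3,3,1,2,0,3,3,1,2,0,3,4,2,2,4,3,1,2,0,3,3,1,2,0,3,4,2,4,3,1,2,0,3,4,3,4,2,1,3,0,2,2,1,3,0,2,4,3,3,4,3,1,2,0,3,4,2,2,4,3,1,2,0,3,3,1,2,0,3,4,2,4,3,1,2,0,3,3,1,2,0,3,3,1,2,0,3,4,3,4,2,1,3,0,2,2,1,3,0,2,4,3,3,4,2,1,3,0,2,4,2,2,4,3,1,2,0,3,3,1,2,0,3,4,2,4,3,1,2,0,3,4,2,2,4,3,1,2,0,3,3,1,2,0,3,4,2,4,3,1,2,0,3,4,2,2,4,3,1,2,0,3,3,1,2,0,3,4,2,4,3,1,2,0,3,4,2,2,4,3,1,2,0,3,3,1,2,0,3,4,2] (by decide +kernel)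
theorem f2497 : F [4,5] [0,6] := S.symm (f2496 S)
theorem f2498 : F [3,2] [9,1] := S.mapC (f2497 S) [3,4,2,1,3,0,2,2,1,3,0,2,4,3,3,4,2,1,3,0,2,2,1,3,0,2,2,1,3,0,2,2,1,3,0,2,2,1,3,0,2,4,3,4,2,1,3,0,2,2,1,3,0,2,4,3,3,4,2,1,3,0,2,4,2,2,4,3,1,2,0,3,3,1,2,0,3,4,2,4,3,1,2,0,3,3,1,2,0,3,4,3,4,2,1,3,0,2,2,1,3,0,2,4,3,3,4,2,1,3,0,2,2,1,3,0,2,4,3,4,2,1,3,0,2,2,1,3,0,2,4,3,3,4,2,1,3,0,2,4,3,4,2,1,3,0,2,2,1,3,0,2,4,3,3,4,3,1,2,0,3,4,2,2,4,3,1,2,0,3,3,1,2,0,3,4,2,4,2,1,3,0,2,2,1,3,0,2,4,3,4,2,1,3,0,2,2,1,3,0,2,4,3,3,4,2,1,3,0,2,2,1,3,0,2,2,1,3,0,2,2,1,3,0,2,4,1,1,4] (by decide +kernel)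
theorem f2499 : F [3,2] [0,6] := S.trans (f2498 S) (f2495 S)
theorem f2500 : F [0,6] [3,2] := S.symm (f2499 S)
theorem f2501 : F [0,6,60] [3,2,60] := S.appC (f2500 S) 60 (by decide +kernel)
theorem f2502 : F [3,2,60] [2,25,5] := S.mapC (f2229 S) [3,4,2,1,3,0,2,2,1,3,0,2,4,3,3,4,2,1,3,0,2,4,3,4,2,1,3,0,2,2,1,3,0,2,4,3,3,4,2,1,3,0,2,4,3,4,2,1,3,0,2,2,1,3,0,2,4,3,3,3,4,2,1,3,0,2,2,1,3,0,2,4,3,3,4,2,1,3,0,2] (by decide +kernel)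
theorem f2503 : F [0,6,60] [2,25,5] := S.trans (f2501 S) (f2502 S)
theorem f2504 : F [110,79,22] [165,54,72] := S.mapC (f2503 S) [3,4,1,2,0,4,1,3,0,4,2] (by decide +kernel)
theorem f2505 : F [5,17,2,58] [165,54,72] := S.trans (f2482 S) (f2504 S)
theorem f2506 : F [0,5,7,805] [54,6,257] := S.mapC (f2505 S) [4,1,4,3,1,2,0,3,4,2,4,2,1,3,0,2,2,1,3,0,2,4,3,4,2,1,3,0,2,2,1,3,0,2,4,3,3,4,3,1,2,0,3,4,2,2,4,3,1,2,0,3,3,1,2,0,3,4,2,4,3,1,2,0,3,3,1,2,0,3,3,1,2,0,3,4,3,4,2,1,3,0,2,2,1,3,0,2,4,3,3,4,2,1,3,0,2,4,2,2,4,3,1,2,0,3,3,1,2,0,3,4,2,2,2,4,3,1,2,0,3,3,1,2,0,3,4,2,4,3,1,2,0,3,4,2,2,4,3,1,2,0,3,3,1,2,0,3,4,2,4,3,1,2,0,3,3,1,2,0,3,4,2,2,4,3,1,2,0,3,3,1,2,0,3,4,2,4,3,1,2,0,3,4,2,2,4,3,1,2,0,3,3,1,2,0,3,4,2,4,3,1,2,0,3,4,2,2,4,3,1,2,0,3,3,1,2,0,3,4,2]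 (by decide +kernel)
theorem f2507 : F [17,5,110,15] [4,6,22] := S.mapC (f2506 S) [3,4,0,0,2,0,3,3,1,3,0,3,1,3,1,1,1,3,1,3,0,3,3,4,2,2,1,2,0,2,2,2,0,2,1,2,2,1,1,4,3,4,1,4,0,4,2,4,0,3,3,3,1,3,3,0,3,1,3,3,3,1,1,4,2,1,2,0,4,1,3,0,3,4,2,2,2,0,2,1,2,2,0,2,2,2,1,4,2,2,1,2,2,0,2,0,2,2,2,4,3,3,3,1,3,1,3,3,0,3,3,3,4,1,4,0,4,2,4] (by decide +kernel)
theorem f2508 : F [0,5,7,15] [4,6,22] := S.trans (f2465 S) (f2507 S)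
theorem f2510 : F [22,79,4] [0,5,7] := S.mapC (f703 S) [4,2,1,3,0,2,2,1,3,0,2,2,1,3,0,2,4,3,4,2,1,3,0,2,2,1,3,0,2,4,3,3,4,2,1,3,0,2,4,2,2,4,3,1,2,0,3,3,1,2,0,3,4,2,4,3,1,2,0,3,3,1,2,0,3,4,3,4,2,1,3,0,2,2,1,3,0,2,4,3,3,4,2,1,3,0,2,2,1,3,0,2,4,3,4,2,1,3,0,2,2,1,3,0,2,4,3,3,4,2,1,3,0,2,4,3,4,2,1,3,0,2,2,1,3,0,2,4,3,3,4,3,1,2,0,3,4,2,2,4,3,1,2,0,3,3,1,2,0,3,4,2] (by decide +kernel)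
theorem f2511 : F [17,5,110] [257,79,54] := S.mapC (f2510 S) [4,3,4,1,4,0,4,2,2,2,1,2,2,0,2,0,2,2,2,4,3,3,3,1,3,1,3,3,0,3,3,4,0,3,3,3,1,3,3,0,3,1,3,3,3,4,2,1,2,0,4,1,3,0,3,4,0,0,2,2,2,0,2,1,2,2,0,2,2,2,1,4,3,4,1,4,0,4,2,4,0,0,3,3,0,3,1,3,3,3,1,3,0,3,3,4,2,2,1,2,0,2,0,0,0,2,0,2,1,2,0,2,2,1] (by decide +kernel)
theorem f2512 : F [17,5,110] [0,5,7] := S.trans (f2511 S) (f450 S)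
theorem f2513 : F [0,5,7] [17,5,110] := S.mapC (f2512 S) [4,3,3,1,2,0,3,3,1,2,0,3,3,1,2,0,3,3,1,2,0,3,4,2,2,4,3,1,2,0,3,3,1,2,0,3,4,2,4,3,1,2,0,3,4,3,4,2,1,3,0,2,2,1,3,0,2,4,3,3,4,3,1,2,0,3,4,2,2,4,3,1,2,0,3,3,1,2,0,3,4,2,4,3,1,2,0,3,3,1,2,0,3,3,1,2,0,3,4] (by decide +kernel)
theorem f2514 : F [17,5,110] [0,5,7] := S.symm (f2513 S)
theorem f2515 : F [0,5,7] [17,5,110] := S.symm (f2514 S)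
theorem f2516 : F [0,5,7,18] [17,5,110,18] := S.appC (f2515 S) 18 (by decide +kernel)
theorem f2524 : F [0,5,44] [116,99,32] := S.mapC (f794 S) [4,3,1,2,0,3,4,2,2,4,3,1,2,0,3,3,1,2,0,3,4,2,4,3,1,2,0,3,4,2,2,4,3,1,2,0,3,3,1,2,0,3,4,2,4,3,1,2,0,3,4,3,4,2,1,3,0,2,2,1,3,0,2,4,3,3,4,2,1,3,0,2,4,2,2,4,3,1,2,0,3,3,1,2,0,3,4,2,2,2,4,3,1,2,0,3,3,1,2,0,3,4,2,4,3,1,2,0,3,4,2,2,4,3,1,2,0,3,3,1,2,0,3,4,2,4,3,1,2,0,3,3,1,2,0,3,4,2,2,4,3,1,2,0,3,3,1,2,0,3,4,2] (by decide +kernel)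
theorem f2525 : F [0,5,44,632] [116,99,32,632] := S.appC (f2524 S) 632 (by decide +kernel)
theorem f2526 : F [116,99,32,632] [0,5,44,632] := S.symm (f2525 S)
theorem f2527 : F [170,610,0,3] [358,327,4] := S.rel0C [170,610] (by decide +kernel)
theorem f2528 : F [0,5,44,632] [32,125,117] := S.mapC (f2527 S) [1,3,3,0,4,2,4,2] (by decide +kernel)
theorem f2529 : F [116,99,32,632] [32,125,117] := S.trans (f2526 S) (f2528 S)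
theorem f2536 : F [0,5,559] [3,632] := S.mapC (f1590 S) [0,3,3,1,3,0,3,1,3,1,1,1,3,1,3,0,3,3,4,2,2,1,2,0,2,2,2,0,2,1,2,2,4,0,0,0,3,0,3,1,3,1,1,1,3,4,2,0,2,2,1,2,4,0,0,0,3,0,3,1,3,1,1,1,3,4,2,0,2,2,1,2,4,0,0,0,3,3,3,3,0,3,1,1,1,1,3,1,2,2,0,4,1,3,3,0,2,0,2,1,2,2,2,2,4,0,0,0] (by decide +kernel)
theorem f2537 : F [32,125,117] [84,44] := S.mapC (f2536 S) [3,4,3,4,1,2,2,0,4,1,3,3,0,4,2,4,2] (by decide +kernel)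
theorem f2538 : F [116,99,32,632] [84,44] := S.trans (f2529 S) (f2537 S)
theorem f2539 : F [0,5,7,41] [51,128] := S.mapC (f2538 S) [4,3,3,4,0,0,3,4,3,1,2,0,3,3,1,2,0,3,4,2,2,2,4,3,1,2,0,3,4,2,2,4,3,1,2,0,3,3,1,2,0,3,4,2,2,2,4,3,1,2,0,3,3,1,2,0,3,4,2,4,3,1,2,0,3,3,1,2,0,3,4,2,2,4,3,1,2,0,3,3,1,2,0,3,4,2,4,3,1,2,0,3,3,1,2,0,3,4,2,2,4,3,1,2,0,3,3,1,2,0,3,4,2,4,2,1,3,0,2,2,1,3,0,2,4,3,4,2,1,3,0,2,2,1,3,0,2,4,3,3,4,3,1,2,0,3,4,2,2,4,3,1,2,0,3,3,1,2,0,3,4,2,4,3,1,2,0,3,3,1,2,0,3,3,1,2,0,3,4,3,4,2,1,3,0,2,2,1,3,0,2,4,3,3,4,2,1,3,0,2,4,2,2,4,3,1,2,0,3,3,1,2,0,3,4,2,4,3,1,2,0,3,4,2,2,4,3,1,2,0,3,3,1,2,0,3,4,2,4,3,1,2,0,3,3,1,2,0,3,4,2,2,4,3,1,2,0,3,3,1,2,0,3,4,2] (by decide +kernel)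
theorem f2540 : F [17,5,110,18] [51,66] := S.mapC (f2539 S) [4,3,3,1,2,0,3,3,1,2,0,3,3,1,2,0,3,3,1,2,0,3,4,2,2,4,3,1,2,0,3,3,1,2,0,3,4,2,4,3,1,2,0,3,4,3,4,2,1,3,0,2,2,1,3,0,2,4,3,3,4,3,1,2,0,3,4,2,2,4,3,1,2,0,3,3,1,2,0,3,4,2,4,3,1,2,0,3,3,1,2,0,3,3,1,2,0,3,4] (by decide +kernel)
theorem f2541 : F [0,5,7,18] [51,66] := S.trans (f2516 S) (f2540 S)
theorem f2546 : F [257,79,54] [0,5,7] := S.mapC (f450 S) [4,2,1,3,0,2,2,1,3,0,2,2,1,3,0,2,4,3,4,2,1,3,0,2,2,1,3,0,2,4,3,3,4,2,1,3,0,2,4,2,2,4,3,1,2,0,3,3,1,2,0,3,4,2,4,3,1,2,0,3,3,1,2,0,3,4,3,4,2,1,3,0,2,2,1,3,0,2,4,3,3,4,2,1,3,0,2,2,1,3,0,2,4,3,4,2,1,3,0,2,2,1,3,0,2,4,3,3,4,2,1,3,0,2,4,3,4,2,1,3,0,2,2,1,3,0,2,4,3,3,4,3,1,2,0,3,4,2,2,4,3,1,2,0,3,3,1,2,0,3,4,2]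 (by decide +kernel)
theorem f2547 : F [0,5,7] [257,79,54] := S.mapC (f2546 S) [4,3,4,2,4,0,0,3,4,3,1,2,0,3,3,1,2,0,3,3,1,2,0,3,4,2,2,4,3,1,2,0,3,3,1,2,0,3,4,2,4,3,1,2,0,3,3,1,2,0,3,4] (by decide +kernel)
theorem f2548 : F [257,79,54] [0,5,7] := S.symm (f2547 S)
theorem f2549 : F [0,5,7] [257,79,54] := S.symm (f2548 S)
theorem f2550 : F [0,5,7,21] [257,79,54,21] := S.appC (f2549 S) 21 (by decide +kernel)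
theorem f2551 : F [257,79,54,21] [513,72,201] := S.mapC (f1425 S) [4,3,4,2,4,0,0,3,4,3,1,2,0,3,3,1,2,0,3,3,1,2,0,3,4,2,2,4,3,1,2,0,3,3,1,2,0,3,4,2,4,3,1,2,0,3,3,1,2,0,3,4] (by decide +kernel)
theorem f2552 : F [0,5,7,21] [513,72,201] := S.trans (f2550 S) (f2551 S)
theorem f2558 : F [0,5,7,23] [7,174,276] := S.mapC (f1469 S) [4,2,1,3,0,2,2,1,3,0,2,4,3,4,2,1,3,0,2,2,1,3,0,2,4,3,3,4,3,1,2,0,3,4,2,2,4,3,1,2,0,3,3,1,2,0,3,4,2,4,3,1,2,0,3,3,1,2,0,3,3,1,2,0,3,4,3,4,2,1,3,0,2,2,1,3,0,2,4,3,3,4,2,1,3,0,2,4,2,2,4,3,1,2,0,3,3,1,2,0,3,4,2,4,3,1,2,0,3,4,2,2,4,3,1,2,0,3,3,1,2,0,3,4,2,4,3,1,2,0,3,4,2,2,4,3,1,2,0,3,3,1,2,0,3,4,2,4,3,1,2,0,3,4,2,2,4,3,1,2,0,3,3,1,2,0,3,4,2] (by decide +kernel)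
theorem f2560 : F [0,5,7] [22,79,4] := S.mapC (f703 S) [3,4,0,0,2] (by decide +kernel)
theorem f2561 : F [22,79,4] [0,5,7] := S.symm (f2560 S)
theorem f2562 : F [0,5,7] [22,79,4] := S.symm (f2561 S)
theorem f2563 : F [0,5,7,25] [22,79,4,25] := S.appC (f2562 S) 25 (by decide +kernel)
theorem f2570 : F [0,99,35] [1354,1003,303] := S.mapC (f1374 S) [4,3,1,2,0,3,3,1,2,0,3,4,2,4,3,1,2,0,3,4,2,2,4,3,1,2,0,3,3,1,2,0,3,4,2,2,2,4,3,1,2,0,3,3,1,2,0,3,4,2,4,2,1,3,0,2,2,1,3,0,2,4,3,4,2,1,3,0,2,2,1,3,0,2,4,3,3,4,3,1,2,0,3,4,2,2,4,3,1,2,0,3,3,1,2,0,3,4,2,4,3,1,2,0,3,3,1,2,0,3,3,1,2,0,3,4,3,4,2,1,3,0,2,2,1,3,0,2,4,3,3,4,2,1,3,0,2,4,2,2,4,3,1,2,0,3,3,1,2,0,3,4,2,2,2,4,3,1,2,0,3,3,1,2,0,3,4,2,4,3,1,2,0,3,4,2,2,4,3,1,2,0,3,3,1,2,0,3,4,2,4,3,1,2,0,3,3,1,2,0,3,4,2,2,4,3,1,2,0,3,3,1,2,0,3,4,2]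 (by decide +kernel)
theorem f2571 : F [0,99,35,643] [1354,1003,303,643] := S.appC (f2570 S) 643 (by decide +kernel)
theorem f2572 : F [1354,1003,303,643] [0,99,35,643] := S.symm (f2571 S)
theorem f2573 : F [243,819,0,3] [484,667,4] := S.rel0C [243,819] (by decide +kernel)
theorem f2574 : F [0,99,35,643] [104,1060,31] := S.mapC (f2573 S) [1,2,2,1,2,0,4,3,4] (by decide +kernel)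
theorem f2575 : F [1354,1003,303,643] [104,1060,31] := S.trans (f2572 S) (f2574 S)
theorem f2586 : F [0,99] [99,0] := S.symm (f911 S)
theorem f2587 : F [0,99,623] [99,0,623] := S.appC (f2586 S) 623 (by decide +kernel)
theorem f2588 : F [99,0,623] [1139,751,1391] := S.mapC (f1324 S) [3,4,2,1,3,0,2,2,1,3,0,2,4,3,3,4,2,1,3,0,2,4,3,4,2,1,3,0,2,2,1,3,0,2,4,3,3,4,2,1,3,0,2,2,1,3,0,2,2,1,3,0,2,2,1,3,0,2,4,3,4,2,1,3,0,2,2,1,3,0,2,4,3,3,4,2,1,3,0,2,4,2,2,4,3,1,2,0,3,3,1,2,0,3,4,2,4,3,1,2,0,3,3,1,2,0,3,4,3,4,2,1,3,0,2,2,1,3,0,2,4,3,3,4,2,1,3,0,2,2,1,3,0,2,2,1,3,0,2,4,3,4,2,1,3,0,2,2,1,3,0,2,4,3,3,4,2,1,3,0,2,4,3,4,2,1,3,0,2,2,1,3,0,2,4,3,3,4,2,1,3,0,2,2,1,3,0,2,4,3,3,3,4,2,1,3,0,2,4,2,4,2,4,2,4] (by decide +kernel)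
theorem f2589 : F [0,99,623] [1139,751,1391] := S.trans (f2587 S) (f2588 S)
theorem f2590 : F [104,1060,31] [212,91,1362] := S.mapC (f2589 S) [4,2,4,1,3,0,3,3,0,4,1,2,2,1,2,0,4,3,4] (by decide +kernel)
theorem f2591 : F [1354,1003,303,643] [212,91,1362] := S.trans (f2575 S) (f2590 S)
theorem f2592 : F [0,5,7,58] [10,51,2] := S.mapC (f2591 S) [4,1,2,0,3,3,4,0,3,4,2,4,3,1,2,0,3,4,2,2,2,4,3,1,2,0,3,3,1,2,0,3,3,1,2,0,3,3,1,2,0,3,3,1,2,0,3,4,2,2,4,3,1,2,0,3,3,1,2,0,3,4,2,4,2,1,3,0,2,2,1,3,0,2,4,3,4,2,1,3,0,2,2,1,3,0,2,4,3,3,4,3,1,2,0,3,4,2,2,4,3,1,2,0,3,3,1,2,0,3,4,2,4,3,1,2,0,3,3,1,2,0,3,3,1,2,0,3,4,3,4,2,1,3,0,2,2,1,3,0,2,4,3,3,4,2,1,3,0,2,4,2,2,4,3,1,2,0,3,3,1,2,0,3,4,2,2,2,4,3,1,2,0,3,3,1,2,0,3,4,2,4,3,1,2,0,3,4,2,2,4,3,1,2,0,3,3,1,2,0,3,4,2,4,3,1,2,0,3,4,2,2,4,3,1,2,0,3,3,1,2,0,3,4,2,4,3,1,2,0,3,4,2,2,4,3,1,2,0,3,3,1,2,0,3,4,2]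 (by decide +kernel)
theorem f2593 : F [22,79,4,25] [2,9,10] := S.mapC (f2592 S) [3,4,0,0,2] (by decide +kernel)
theorem f2594 : F [0,5,7,25] [2,9,10] := S.trans (f2563 S) (f2593 S)
theorem f2596 : F [22,79,4] [0,5,7] := S.mapC (f703 S) [4,2,1,3,0,2,2,1,3,0,2,2,1,3,0,2,4,3,4,2,1,3,0,2,2,1,3,0,2,4,3,3,4,2,1,3,0,2,4,2,2,4,3,1,2,0,3,3,1,2,0,3,4,2,4,3,1,2,0,3,3,1,2,0,3,4,3,4,2,1,3,0,2,2,1,3,0,2,4,3,3,4,2,1,3,0,2,2,1,3,0,2,4,3,4,2,1,3,0,2,2,1,3,0,2,4,3,3,4,2,1,3,0,2,4,3,4,2,1,3,0,2,2,1,3,0,2,4,3,3,4,3,1,2,0,3,4,2,2,4,3,1,2,0,3,3,1,2,0,3,4,2] (by decide +kernel)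
theorem f2597 : F [17,5,110] [257,79,54] := S.mapC (f2596 S) [4,3,4,1,4,0,4,2,2,2,1,2,2,0,2,0,2,2,2,4,3,3,3,1,3,1,3,3,0,3,3,4,0,3,3,3,1,3,3,0,3,1,3,3,3,4,2,1,2,0,4,1,3,0,3,4,0,0,2,2,2,0,2,1,2,2,0,2,2,2,1,4,3,4,1,4,0,4,2,4,0,0,3,3,0,3,1,3,3,3,1,3,0,3,3,4,2,2,1,2,0,2,0,0,0,2,0,2,1,2,0,2,2,1] (by decide +kernel)
theorem f2598 : F [17,5,110] [0,5,7] := S.trans (f2597 S) (f450 S)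
theorem f2599 : F [0,5,7] [17,5,110] := S.mapC (f2598 S) [4,3,3,1,2,0,3,3,1,2,0,3,3,1,2,0,3,3,1,2,0,3,4,2,2,4,3,1,2,0,3,3,1,2,0,3,4,2,4,3,1,2,0,3,4,3,4,2,1,3,0,2,2,1,3,0,2,4,3,3,4,3,1,2,0,3,4,2,2,4,3,1,2,0,3,3,1,2,0,3,4,2,4,3,1,2,0,3,3,1,2,0,3,3,1,2,0,3,4] (by decide +kernel)
theorem f2600 : F [17,5,110] [0,5,7] := S.symm (f2599 S)
theorem f2601 : F [0,5,7] [17,5,110] := S.symm (f2600 S)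
theorem f2602 : F [0,5,7,28] [17,5,110,28] := S.appC (f2601 S) 28 (by decide +kernel)
theorem f2607 : F [0,99,9] [559,124,75] := S.mapC (f984 S) [2,2,4,3,1,2,0,3,4,2,2,2,4,3,1,2,0,3,4,2,2,4,3,1,2,0,3,3,1,2,0,3,4,2,4,3,1,2,0,3,4,2,2,4,3,1,2,0,3,3,1,2,0,3,4,2,2,2,4,3,1,2,0,3,3,1,2,0,3,4,2,4,3,1,2,0,3,4,3,4,2,1,3,0,2,2,1,3,0,2,4,3,3,4,2,1,3,0,2,4,2,2,4,3,1,2,0,3,3,1,2,0,3,4,2,4,3,1,2,0,3,4,2,2,4,3,1,2,0,3,3,1,2,0,3,4,2,4,2,1,3,0,2,2,1,3,0,2,4,3,4,2,1,3,0,2,2,1,3,0,2,4,3,3,4,3,1,2,0,3,4,2,2,4,3,1,2,0,3,3,1,2,0,3,4,2,4,3,1,2,0,3,3,1,2,0,3,3,1,2,0,3,3,1,2,0,3,4,2,2,4,3,1,2,0,3,3,1,2,0,3,4,2,4,3,1,2,0,3,4,2,2,4,3,1,2,0,3,3,1,2,0,3,4,2] (by decide +kernel)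
theorem f2608 : F [0,99,9,4] [559,124,75,4] := S.appC (f2607 S) 4 (by decide +kernel)
theorem f2609 : F [559,124,75,4] [0,99,9,4] := S.symm (f2608 S)
theorem f2610 : F [9,117,0,3] [4,252,4] := S.rel0C [9,117] (by decide +kernel)
theorem f2611 : F [0,99,9,4] [3,44,3] := S.mapC (f2610 S) [1,1,4] (by decide +kernel)
theorem f2612 : F [559,124,75,4] [3,44,3] := S.trans (f2609 S) (f2611 S)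
theorem f2614 : F [0,99] [99,0] := S.mapC (f911 S) [4,3,4,3,3,1,2,0,3,3,1,2,0,3,4,3,3,4,3,1,2,0,3,3,1,2,0,3,3,1,2,0,3,4,2,4,3,1,2,0,3,3,1,2,0,3,3,1,2,0,3,3,1,2,0,3,4,2,2,4,3,1,2,0,3,3,1,2,0,3,4,2,4,3,1,2,0,3,3,1,2,0,3,4,2,2,4,3,1,2,0,3,3,1,2,0,3,4,2,4,2,1,3,0,2,2,1,3,0,2,4,3,4,2,1,3,0,2,2,1,3,0,2,4,3,3,4,3,1,2,0,3,4,2,2,4,3,1,2,0,3,3,1,2,0,3,4,2,4,3,1,2,0,3,3,1,2,0,3,3,1,2,0,3,3,1,2,0,3,4,2,2,4,3,1,2,0,3,3,1,2,0,3,4,2,4,3,1,2,0,3,4,2,2,4,3,1,2,0,3,3,1,2,0,3,4,2] (by decide +kernel)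
theorem f2615 : F [99,0] [0,99] := S.symm (f2614 S)
theorem f2616 : F [0,99] [99,0] := S.symm (f2615 S)
theorem f2617 : F [0,99,0] [99,0,0] := S.appC (f2616 S) 0 (by decide +kernel)

end Cfsg.Agent.Lib.TC.D.HND.Fa
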