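import Cfsg.Agent.Lib.TC.D.HND.Sys
import Cfsg.Agent.Lib.TC.D.HND.F5

namespace Cfsg.Agent.Lib.TC.D.HND.Fa

open Cfsg.Agent.Lib.TC.D.HND.Sys

set_option maxRecDepth 100000

variable {F : List Nat → List Nat → Prop} (S : Sys F)

include S

theorem f2618 : F [99,0,0] [99,1] := S.mapC (f1932 S) [4,3,4,3,3,1,2,0,3,3,1,2,0,3,4,3,3,4,3,1,2,0,3,3,1,2,0,3,3,1,2,0,3,4,2,4,3,1,2,0,3,3,1,2,0,3,3,1,2,0,3,3,1,2,0,3,4,2,2,4,3,1,2,0,3,3,1,2,0,3,4,2,4,3,1,2,0,3,3,1,2,0,3,4,2,2,4,3,1,2,0,3,3,1,2,0,3,4,2,4,2,1,3,0,2,2,1,3,0,2,4,3,4,2,1,3,0,2,2,1,3,0,2,4,3,3,4,3,1,2,0,3,4,2,2,4,3,1,2,0,3,3,1,2,0,3,4,2,4,3,1,2,0,3,3,1,2,0,3,3,1,2,0,3,3,1,2,0,3,4,2,2,4,3,1,2,0,3,3,1,2,0,3,4,2,4,3,1,2,0,3,4,2,2,4,3,1,2,0,3,3,1,2,0,3,4,2] (by decide +kernel)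
theorem f2619 : F [0,99,0] [99,1] := S.trans (f2617 S) (f2618 S)
theorem f2620 : F [3,44,3] [44,5] := S.mapC (f2619 S) [4,0,0,4,1,1,4] (by decide +kernel)
theorem f2621 : F [559,124,75,4] [44,5] := S.trans (f2612 S) (f2620 S)
theorem f2622 : F [0,5,7,62] [165,131] := S.mapC (f2621 S) [4,3,3,4,2,2,4,1,3,4,3,1,2,0,3,3,1,2,0,3,3,1,2,0,3,4,2,2,2,4,3,1,2,0,3,3,1,2,0,3,3,1,2,0,3,4,2,2,4,3,1,2,0,3,3,1,2,0,3,4,2,4,3,1,2,0,3,3,1,2,0,3,4,2,2,4,3,1,2,0,3,3,1,2,0,3,4,2,4,3,1,2,0,3,4,2,2,4,3,1,2,0,3,3,1,2,0,3,4,2,4,2,1,3,0,2,2,1,3,0,2,4,3,4,2,1,3,0,2,2,1,3,0,2,4,3,3,4,3,1,2,0,3,4,2,2,4,3,1,2,0,3,3,1,2,0,3,4,2,4,3,1,2,0,3,3,1,2,0,3,3,1,2,0,3,3,1,2,0,3,4,2,2,4,3,1,2,0,3,3,1,2,0,3,4,2,4,3,1,2,0,3,4,2,2,4,3,1,2,0,3,3,1,2,0,3,4,2] (by decide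 +kernel)
theorem f2623 : F [17,5,110,28] [12,77] := S.mapC (f2622 S) [4,3,3,1,2,0,3,3,1,2,0,3,3,1,2,0,3,3,1,2,0,3,4,2,2,4,3,1,2,0,3,3,1,2,0,3,4,2,4,3,1,2,0,3,4,3,4,2,1,3,0,2,2,1,3,0,2,4,3,3,4,3,1,2,0,3,4,2,2,4,3,1,2,0,3,3,1,2,0,3,4,2,4,3,1,2,0,3,3,1,2,0,3,3,1,2,0,3,4] (by decide +kernel)
theorem f2624 : F [0,5,7,28] [12,77] := S.trans (f2602 S) (f2623 S)
theorem f2630 : F [257,79,54] [0,5,7] := S.mapC (f450 S) [3,4,2,1,3,0,2,2,1,3,0,2,4,3,3,4,2,1,3,0,2,4,3,4,2,1,3,0,2,2,1,3,0,2,4,3,3,4,2,1,3,0,2,4,3,4,2,1,3,0,2,2,1,3,0,2,4,3,3,4,2,1,3,0,2,2,1,3,0,2,4,3,4,2,1,3,0,2,2,1,3,0,2,4,3,3,4,2,1,3,0,2,4,3,4,2,1,3,0,2,2,1,3,0,2,4,3,3,3,4,2,1,3,0,2,2,1,3,0,2,4,3,3,4,3,1,2,0,3,4,2,2,4,3,1,2,0,3,3,1,2,0,3,4,2] (by decide +kernel)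
theorem f2631 : F [0,5,7] [257,79,54] := S.mapC (f2630 S) [4,3,4,2,4,0,0,3,4,3,1,2,0,3,3,1,2,0,3,3,1,2,0,3,4,2,2,4,3,1,2,0,3,3,1,2,0,3,4,2,4,3,1,2,0,3,3,1,2,0,3,3,1,2,0,3,3,1,2,0,3,4,2,2,4,3,1,2,0,3,3,1,2,0,3,4,2,4,2,1,3,0,2,2,1,3,0,2,4,3,4,2,1,3,0,2,2,1,3,0,2,4,3,3,4,3,1,2,0,3,4,2,2,4,3,1,2,0,3,3,1,2,0,3,4,2,4,3,1,2,0,3,3,1,2,0,3,3,1,2,0,3,4,3,4,2,1,3,0,2,2,1,3,0,2,4,3,3,4,2,1,3,0,2,4,2,2,4,3,1,2,0,3,3,1,2,0,3,4,2,4,3,1,2,0,3,4,2,2,4,3,1,2,0,3,3,1,2,0,3,4,2,4,3,1,2,0,3,3,1,2,0,3,4,2,2,4,3,1,2,0,3,3,1,2,0,3,4,2] (by decide +kernel)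
theorem f2632 : F [257,79,54] [0,5,7] := S.symm (f2631 S)
theorem f2633 : F [0,5,7] [257,79,54] := S.symm (f2632 S)
theorem f2634 : F [0,5,7,31] [257,79,54,31] := S.appC (f2633 S) 31 (by decide +kernel)
theorem f2640 : F [0,99,21] [303,778,863] := S.mapC (f1324 S) [2,2,4,3,1,2,0,3,3,1,2,0,3,4,2,4,3,1,2,0,3,3,1,2,0,3,3,1,2,0,3,4,2,2,4,3,1,2,0,3,3,1,2,0,3,4,2,4,3,1,2,0,3,4,3,4,2,1,3,0,2,2,1,3,0,2,4,3,3,4,3,1,2,0,3,4,2,2,4,3,1,2,0,3,3,1,2,0,3,4,2,4,3,1,2,0,3,3,1,2,0,3,3,1,2,0,3,3,1,2,0,3,4,2,2,4,3,1,2,0,3,3,1,2,0,3,4,2,4,3,1,2,0,3,4,2,2,4,3,1,2,0,3,3,1,2,0,3,4,2] (by decide +kernel)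
theorem f2641 : F [0,99,21,981] [303,778,863,981] := S.appC (f2640 S) 981 (by decide +kernel)
theorem f2642 : F [303,778,863,981] [0,99,21,981] := S.symm (f2641 S)
theorem f2643 : F [291,843,0,3] [556,1229,4] := S.rel0C [291,843] (by decide +kernel)
theorem f2644 : F [0,99,21,981] [88,543,56] := S.mapC (f2643 S) [1,3,4,3,1,3,1,2,0,4] (by decide +kernel)
theorem f2645 : F [303,778,863,981] [88,543,56] := S.trans (f2642 S) (f2644 S)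
theorem f2653 : F [0,99] [99,0] := S.symm (f911 S)
theorem f2654 : F [0,99,980] [99,0,980] := S.appC (f2653 S) 980 (by decide +kernel)
theorem f2655 : F [99,0,980] [660,526,742] := S.mapC (f1043 S) [2,4,3,1,2,0,3,4,3,3,4,2,1,3,0,2,2,1,3,0,2,4,3,3,3,4,2,1,3,0,2,2,1,3,0,2,4,2,2,4,2,1,3,0,2,2,4,2,4] (by decide +kernel)
theorem f2656 : F [0,99,980] [660,526,742] := S.trans (f2654 S) (f2655 S)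
theorem f2657 : F [88,543,56] [1285,488,394] := S.mapC (f2656 S) [4,1,3,0,2,0,2,4,2,0,4,1,3,4,3,1,3,1,2,0,4] (by decide +kernel)
theorem f2658 : F [303,778,863,981] [1285,488,394] := S.trans (f2645 S) (f2657 S)
theorem f2659 : F [0,5,7,1077] [1080,414,784] := S.mapC (f2658 S) [0,3,3,4,3,4,0,4,3,1,2,0,3,4,2,4,3,1,2,0,3,3,1,2,0,3,3,1,2,0,3,4,2,2,4,3,1,2,0,3,3,1,2,0,3,4,2,4,3,1,2,0,3,3,1,2,0,3,3,1,2,0,3,4,2,2,4,3,1,2,0,3,3,1,2,0,3,4,2,4,3,1,2,0,3,4,2,2,4,3,1,2,0,3,3,1,2,0,3,4,2,4,2,1,3,0,2,2,1,3,0,2,4,3,4,2,1,3,0,2,2,1,3,0,2,4,3,3,4,3,1,2,0,3,4,2,2,4,3,1,2,0,3,3,1,2,0,3,4,2,4,3,1,2,0,3,3,1,2,0,3,3,1,2,0,3,4] (by decide +kernel)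
theorem f2660 : F [257,79,54,31] [555,510,192] := S.mapC (f2659 S) [4,3,4,2,4,0,0,3,4,3,1,2,0,3,3,1,2,0,3,3,1,2,0,3,4,2,2,4,3,1,2,0,3,3,1,2,0,3,4,2,4,3,1,2,0,3,3,1,2,0,3,3,1,2,0,3,3,1,2,0,3,4,2,2,4,3,1,2,0,3,3,1,2,0,3,4,2,4,2,1,3,0,2,2,1,3,0,2,4,3,4,2,1,3,0,2,2,1,3,0,2,4,3,3,4,3,1,2,0,3,4,2,2,4,3,1,2,0,3,3,1,2,0,3,4,2,4,3,1,2,0,3,3,1,2,0,3,3,1,2,0,3,4,3,4,2,1,3,0,2,2,1,3,0,2,4,3,3,4,2,1,3,0,2,4,2,2,4,3,1,2,0,3,3,1,2,0,3,4,2,4,3,1,2,0,3,4,2,2,4,3,1,2,0,3,3,1,2,0,3,4,2,4,3,1,2,0,3,3,1,2,0,3,4,2,2,4,3,1,2,0,3,3,1,2,0,3,4,2] (by decide +kernel)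
theorem f2661 : F [0,5,7,31] [555,510,192] := S.trans (f2634 S) (f2660 S)
theorem f2666 : F [0,5,7] [257,79,54] := S.mapC (f450 S) [4,3,4,2,4,0,0,3,4,3,1,2,0,3,3,1,2,0,3,3,1,2,0,3,4,2,2,4,3,1,2,0,3,3,1,2,0,3,4,2,4,3,1,2,0,3,3,1,2,0,3,4,3,4,2,1,3,0,2,2,1,3,0,2,4,3,3,4,2,1,3,0,2,4,2,2,4,3,1,2,0,3,3,1,2,0,3,4,2,4,3,1,2,0,3,4,2,2,4,3,1,2,0,3,3,1,2,0,3,4,2,4,3,1,2,0,3,3,1,2,0,3,4,2,2,4,3,1,2,0,3,3,1,2,0,3,4,2,4,2,1,3,0,2,2,1,3,0,2,4,3,4,2,1,3,0,2,2,1,3,0,2,4,3,3,4,3,1,2,0,3,4,2,2,4,3,1,2,0,3,3,1,2,0,3,4,2,4,3,1,2,0,3,3,1,2,0,3,3,1,2,0,3,4] (by decide +kernel)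
theorem f2667 : F [257,79,54] [0,5,7] := S.symm (f2666 S)
theorem f2668 : F [0,5,7] [257,79,54] := S.symm (f2667 S)
theorem f2669 : F [0,5,7,35] [257,79,54,35] := S.appC (f2668 S) 35 (by decide +kernel)
theorem f2677 : F [0,5,44] [116,99,32] := S.mapC (f794 S) [4,3,1,2,0,3,4,2,2,4,3,1,2,0,3,3,1,2,0,3,4,2,4,3,1,2,0,3,4,2,2,4,3,1,2,0,3,3,1,2,0,3,4,2,4,3,1,2,0,3,4,3,4,2,1,3,0,2,2,1,3,0,2,4,3,3,4,2,1,3,0,2,4,2,2,4,3,1,2,0,3,3,1,2,0,3,4,2,2,2,4,3,1,2,0,3,3,1,2,0,3,4,2,4,3,1,2,0,3,4,2,2,4,3,1,2,0,3,3,1,2,0,3,4,2,4,3,1,2,0,3,3,1,2,0,3,4,2,2,4,3,1,2,0,3,3,1,2,0,3,4,2] (by decide +kernel)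
theorem f2678 : F [0,5,44,7] [116,99,32,7] := S.appC (f2677 S) 7 (by decide +kernel)
theorem f2679 : F [116,99,32,7] [0,5,44,7] := S.symm (f2678 S)
theorem f2680 : F [21,155,0,3] [8,73,4] := S.rel0C [21,155] (by decide +kernel)
theorem f2681 : F [0,5,44,7] [177,170,117] := S.mapC (f2680 S) [4,2,4,2] (by decide +kernel)
theorem f2682 : F [116,99,32,7] [177,170,117] := S.trans (f2679 S) (f2681 S)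
theorem f2686 : F [0,5] [6,4] := S.mapC (f148 S) [0,0,3,3,0,3,1,3,3,3,1,3,0,3,3,4,2,2,1,2,0,2,0,0,0,2,0,2,1,2,0,2,2,1,1,1,1,4,3,3,0,3,3,3,1,3,3,3,1,2,0,2,2,4,3,3,1,3,0,2,0,0,0,2,2,2,0,2,1,2,2,2] (by decide +kernel)
theorem f2687 : F [6,4] [0,5] := S.symm (f2686 S)
theorem f2688 : F [0,5] [6,4] := S.symm (f2687 S)
theorem f2689 : F [0,5,22] [6,4,22] := S.appC (f2688 S) 22 (by decide +kernel)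
theorem f2690 : F [6,4,22] [79,0] := S.mapC (f201 S) [0,0,3,3,0,3,1,3,3,3,1,3,0,3,3,4,2,2,1,2,0,2,0,0,0,2,0,2,1,2,0,2,2,1,1,1,1,4,3,3,0,3,3,3,1,3,3,3,1,2,0,2,2,4,3,3,1,3,0,2,0,0,0,2,2,2,0,2,1,2,2,2] (by decide +kernel)
theorem f2691 : F [0,5,22] [79,0] := S.trans (f2689 S) (f2690 S)
theorem f2692 : F [177,170,117] [640,177] := S.mapC (f2691 S) [3,4,3,4,2,4,2] (by decide +kernel)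
theorem f2693 : F [116,99,32,7] [640,177] := S.trans (f2682 S) (f2692 S)
theorem f2694 : F [0,5,7,560] [330,421] := S.mapC (f2693 S) [4,3,3,4,0,0,3,4,3,1,2,0,3,3,1,2,0,3,4,2,2,2,4,3,1,2,0,3,4,2,2,4,3,1,2,0,3,3,1,2,0,3,4,2,2,2,4,3,1,2,0,3,3,1,2,0,3,4,2,4,3,1,2,0,3,3,1,2,0,3,4,2,2,4,3,1,2,0,3,3,1,2,0,3,4,2,4,3,1,2,0,3,3,1,2,0,3,4,2,2,4,3,1,2,0,3,3,1,2,0,3,4,2,4,2,1,3,0,2,2,1,3,0,2,4,3,4,2,1,3,0,2,2,1,3,0,2,4,3,3,4,3,1,2,0,3,4,2,2,4,3,1,2,0,3,3,1,2,0,3,4,2,4,3,1,2,0,3,3,1,2,0,3,3,1,2,0,3,4,3,4,2,1,3,0,2,2,1,3,0,2,4,3,3,4,2,1,3,0,2,4,2,2,4,3,1,2,0,3,3,1,2,0,3,4,2,4,3,1,2,0,3,4,2,2,4,3,1,2,0,3,3,1,2,0,3,4,2,4,3,1,2,0,3,3,1,2,0,3,4,2,2,4,3,1,2,0,3,3,1,2,0,3,4,2] (by decide +kernel)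
theorem f2695 : F [257,79,54,35] [67,182] := S.mapC (f2694 S) [4,3,4,2,4,0,0,3,4,3,1,2,0,3,3,1,2,0,3,3,1,2,0,3,4,2,2,4,3,1,2,0,3,3,1,2,0,3,4,2,4,3,1,2,0,3,3,1,2,0,3,4,3,4,2,1,3,0,2,2,1,3,0,2,4,3,3,4,2,1,3,0,2,4,2,2,4,3,1,2,0,3,3,1,2,0,3,4,2,4,3,1,2,0,3,4,2,2,4,3,1,2,0,3,3,1,2,0,3,4,2,4,3,1,2,0,3,3,1,2,0,3,4,2,2,4,3,1,2,0,3,3,1,2,0,3,4,2,4,2,1,3,0,2,2,1,3,0,2,4,3,4,2,1,3,0,2,2,1,3,0,2,4,3,3,4,3,1,2,0,3,4,2,2,4,3,1,2,0,3,3,1,2,0,3,4,2,4,3,1,2,0,3,3,1,2,0,3,3,1,2,0,3,4] (by decide +kernel)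
theorem f2696 : F [0,5,7,35] [67,182] := S.trans (f2669 S) (f2695 S)
theorem f2701 : F [0,5,7] [22,79,4] := S.mapC (f703 S) [3,4,0,0,2,4,2,1,3,0,2,2,1,3,0,2,4,3,4,2,1,3,0,2,2,1,3,0,2,4,3,3,4,3,1,2,0,3,4,2,2,4,3,1,2,0,3,3,1,2,0,3,4,2,4,3,1,2,0,3,4,3,4,2,1,3,0,2,2,1,3,0,2,4,3,3,4,3,1,2,0,3,4,2,2,4,3,1,2,0,3,3,1,2,0,3,4,2,4,3,1,2,0,3,3,1,2,0,3,3,1,2,0,3,4] (by decide +kernel)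
theorem f2702 : F [22,79,4] [0,5,7] := S.symm (f2701 S)
theorem f2703 : F [0,5,7] [22,79,4] := S.symm (f2702 S)
theorem f2704 : F [0,5,7,36] [22,79,4,36] := S.appC (f2703 S) 36 (by decide +kernel)
theorem f2712 : F [0,5,44] [116,99,32] := S.mapC (f794 S) [4,3,1,2,0,3,4,2,2,4,3,1,2,0,3,3,1,2,0,3,4,2,4,3,1,2,0,3,4,2,2,4,3,1,2,0,3,3,1,2,0,3,4,2,4,3,1,2,0,3,4,3,4,2,1,3,0,2,2,1,3,0,2,4,3,3,4,2,1,3,0,2,4,2,2,4,3,1,2,0,3,3,1,2,0,3,4,2,2,2,4,3,1,2,0,3,3,1,2,0,3,4,2,4,3,1,2,0,3,4,2,2,4,3,1,2,0,3,3,1,2,0,3,4,2,4,3,1,2,0,3,3,1,2,0,3,4,2,2,4,3,1,2,0,3,3,1,2,0,3,4,2] (by decide +kernel)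
theorem f2713 : F [0,5,44,76] [116,99,32,76] := S.appC (f2712 S) 76 (by decide +kernel)
theorem f2714 : F [116,99,32,76] [0,5,44,76] := S.symm (f2713 S)
theorem f2715 : F [21,155,0,2] [21,155,4] := S.pw0C [21,155] 1 3 (by decide +kernel)
theorem f2716 : F [0,5,44,76] [0,5,117] := S.mapC (f2715 S) [4,2,4,2] (by decide +kernel)
theorem f2717 : F [116,99,32,76] [0,5,117] := S.trans (f2714 S) (f2716 S)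
theorem f2731 : F [0,5,117] [123,252,177] := S.mapC (f794 S) [3,4,2,1,3,0,2,2,1,3,0,2,4,3,3,4,2,1,3,0,2,4,3,4,2,1,3,0,2,2,1,3,0,2,4,3,3,4,2,1,3,0,2,4,3,4,2,1,3,0,2,2,1,3,0,2,4,3,3,4,2,1,3,0,2,4,3,4,2,1,3,0,2,2,1,3,0,2,4,3,3,4,3,1,2,0,3,4,2,2,4,3,1,2,0,3,3,1,2,0,3,4,2,4,2,1,3,0,2,2,1,3,0,2,2,1,3,0,2,4,3,4,2,1,3,0,2,2,1,3,0,2,4,3,3,4,2,1,3,0,2,4,2,2,4,3,1,2,0,3,3,1,2,0,3,4,2,4,2,1,3,0,2,4,3,4,2,1,3,0,2,2,1,3,0,2,4,3,3,4,2,1,3,0,2,4,2,2,4,3,1,2,0,3,3,1,2,0,3,4,2,4,3,1,2,0,3,4,3,4,2,1,3,0,2,2,1,3,0,2,4,3,3,4,2,1,3,0,2,2,1,3,0,2,2,1,3,0,2,4,3,4,2,1,3,0,2,2,1,3,0,2,4,3,3,3,4,2,1,3,0,2,2,1,3,0,2,4,3,3] (by decide +kernel)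
theorem f2732 : F [116,99,32,76] [123,252,177] := S.trans (f2717 S) (f2731 S)
theorem f2733 : F [0,5,7,87] [79,6,421] := S.mapC (f2732 S) [4,3,3,4,0,0,3,4,3,1,2,0,3,3,1,2,0,3,4,2,2,2,4,3,1,2,0,3,4,2,2,4,3,1,2,0,3,3,1,2,0,3,4,2,2,2,4,3,1,2,0,3,3,1,2,0,3,4,2,4,3,1,2,0,3,3,1,2,0,3,4,2,2,4,3,1,2,0,3,3,1,2,0,3,4,2,4,3,1,2,0,3,3,1,2,0,3,4,2,2,4,3,1,2,0,3,3,1,2,0,3,4,2,4,2,1,3,0,2,2,1,3,0,2,4,3,4,2,1,3,0,2,2,1,3,0,2,4,3,3,4,3,1,2,0,3,4,2,2,4,3,1,2,0,3,3,1,2,0,3,4,2,4,3,1,2,0,3,3,1,2,0,3,3,1,2,0,3,4,3,4,2,1,3,0,2,2,1,3,0,2,4,3,3,4,2,1,3,0,2,4,2,2,4,3,1,2,0,3,3,1,2,0,3,4,2,4,3,1,2,0,3,4,2,2,4,3,1,2,0,3,3,1,2,0,3,4,2,4,3,1,2,0,3,3,1,2,0,3,4,2,2,4,3,1,2,0,3,3,1,2,0,3,4,2] (by decide +kernel)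
theorem f2734 : F [22,79,4,36] [5,72,84] := S.mapC (f2733 S) [3,4,0,0,2,4,2,1,3,0,2,2,1,3,0,2,4,3,4,2,1,3,0,2,2,1,3,0,2,4,3,3,4,3,1,2,0,3,4,2,2,4,3,1,2,0,3,3,1,2,0,3,4,2,4,3,1,2,0,3,4,3,4,2,1,3,0,2,2,1,3,0,2,4,3,3,4,3,1,2,0,3,4,2,2,4,3,1,2,0,3,3,1,2,0,3,4,2,4,3,1,2,0,3,3,1,2,0,3,3,1,2,0,3,4] (by decide +kernel)
theorem f2735 : F [0,5,7,36] [5,72,84] := S.trans (f2704 S) (f2734 S)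
theorem f2740 : F [0,5,7] [22,79,4] := S.mapC (f703 S) [3,4,0,0,2,4,2,1,3,0,2,2,1,3,0,2,4,3,4,2,1,3,0,2,2,1,3,0,2,4,3,3,4,3,1,2,0,3,4,2,2,4,3,1,2,0,3,3,1,2,0,3,4,2,4,3,1,2,0,3,4,3,4,2,1,3,0,2,2,1,3,0,2,4,3,3,4,3,1,2,0,3,4,2,2,4,3,1,2,0,3,3,1,2,0,3,4,2,4,3,1,2,0,3,3,1,2,0,3,3,1,2,0,3,4] (by decide +kernel)
theorem f2741 : F [22,79,4] [0,5,7] := S.symm (f2740 S)
theorem f2742 : F [0,5,7] [22,79,4] := S.symm (f2741 S)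
theorem f2743 : F [0,5,7,38] [22,79,4,38] := S.appC (f2742 S) 38 (by decide +kernel)
theorem f2751 : F [0,5,44] [116,99,32] := S.mapC (f794 S) [4,3,1,2,0,3,4,2,2,4,3,1,2,0,3,3,1,2,0,3,4,2,4,3,1,2,0,3,4,2,2,4,3,1,2,0,3,3,1,2,0,3,4,2,4,3,1,2,0,3,4,3,4,2,1,3,0,2,2,1,3,0,2,4,3,3,4,2,1,3,0,2,4,2,2,4,3,1,2,0,3,3,1,2,0,3,4,2,2,2,4,3,1,2,0,3,3,1,2,0,3,4,2,4,3,1,2,0,3,4,2,2,4,3,1,2,0,3,3,1,2,0,3,4,2,4,3,1,2,0,3,3,1,2,0,3,4,2,2,4,3,1,2,0,3,3,1,2,0,3,4,2] (by decide +kernel)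
theorem f2752 : F [0,5,44,65] [116,99,32,65] := S.appC (f2751 S) 65 (by decide +kernel)
theorem f2753 : F [116,99,32,65] [0,5,44,65] := S.symm (f2752 S)
theorem f2754 : F [21,155,0,1] [21,155,2] := S.pw0C [21,155] 1 2 (by decide +kernel)
theorem f2755 : F [0,5,44,65] [0,5,76] := S.mapC (f2754 S) [4,2,4,2] (by decide +kernel)
theorem f2756 : F [116,99,32,65] [0,5,76] := S.trans (f2753 S) (f2755 S)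
theorem f2769 : F [0,5,76] [692,82] := S.mapC (f907 S) [3,4,2,1,3,0,2,2,1,3,0,2,4,3,3,4,2,1,3,0,2,4,3,4,2,1,3,0,2,2,1,3,0,2,4,3,3,4,2,1,3,0,2,2,1,3,0,2,2,1,3,0,2,2,1,3,0,2,4,3,4,2,1,3,0,2,2,1,3,0,2,4,3,3,4,2,1,3,0,2,4,2,2,4,3,1,2,0,3,3,1,2,0,3,4,2,4,2,1,3,0,2,4,3,4,2,1,3,0,2,2,1,3,0,2,4,3,3,4,2,1,3,0,2,4,2,2,4,3,1,2,0,3,3,1,2,0,3,4,2,4,3,1,2,0,3,4,3,4,2,1,3,0,2,2,1,3,0,2,4,3,3,4,2,1,3,0,2,4,3,4,2,1,3,0,2,2,1,3,0,2,4,3,3,4,2,1,3,0,2,4] (by decide +kernel)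
theorem f2770 : F [116,99,32,65] [692,82] := S.trans (f2756 S) (f2769 S)
theorem f2771 : F [0,5,7,90] [61,120] := S.mapC (f2770 S) [4,3,3,4,0,0,3,4,3,1,2,0,3,3,1,2,0,3,4,2,2,2,4,3,1,2,0,3,4,2,2,4,3,1,2,0,3,3,1,2,0,3,4,2,2,2,4,3,1,2,0,3,3,1,2,0,3,4,2,4,3,1,2,0,3,3,1,2,0,3,4,2,2,4,3,1,2,0,3,3,1,2,0,3,4,2,4,3,1,2,0,3,3,1,2,0,3,4,2,2,4,3,1,2,0,3,3,1,2,0,3,4,2,4,2,1,3,0,2,2,1,3,0,2,4,3,4,2,1,3,0,2,2,1,3,0,2,4,3,3,4,3,1,2,0,3,4,2,2,4,3,1,2,0,3,3,1,2,0,3,4,2,4,3,1,2,0,3,3,1,2,0,3,3,1,2,0,3,4,3,4,2,1,3,0,2,2,1,3,0,2,4,3,3,4,2,1,3,0,2,4,2,2,4,3,1,2,0,3,3,1,2,0,3,4,2,4,3,1,2,0,3,4,2,2,4,3,1,2,0,3,3,1,2,0,3,4,2,4,3,1,2,0,3,3,1,2,0,3,4,2,2,4,3,1,2,0,3,3,1,2,0,3,4,2] (by decide +kernel)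
theorem f2772 : F [22,79,4,38] [164,3] := S.mapC (f2771 S) [3,4,0,0,2,4,2,1,3,0,2,2,1,3,0,2,4,3,4,2,1,3,0,2,2,1,3,0,2,4,3,3,4,3,1,2,0,3,4,2,2,4,3,1,2,0,3,3,1,2,0,3,4,2,4,3,1,2,0,3,4,3,4,2,1,3,0,2,2,1,3,0,2,4,3,3,4,3,1,2,0,3,4,2,2,4,3,1,2,0,3,3,1,2,0,3,4,2,4,3,1,2,0,3,3,1,2,0,3,3,1,2,0,3,4] (by decide +kernel)
theorem f2773 : F [0,5,7,38] [164,3] := S.trans (f2743 S) (f2772 S)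
theorem f2779 : F [257,79,54] [0,5,7] := S.mapC (f450 S) [3,4,2,1,3,0,2,2,1,3,0,2,4,3,3,4,2,1,3,0,2,4,3,4,2,1,3,0,2,2,1,3,0,2,4,3,3,4,2,1,3,0,2,4,3,4,2,1,3,0,2,2,1,3,0,2,4,3,3,4,2,1,3,0,2,2,1,3,0,2,4,3,4,2,1,3,0,2,2,1,3,0,2,4,3,3,4,2,1,3,0,2,4,3,4,2,1,3,0,2,2,1,3,0,2,4,3,3,3,4,2,1,3,0,2,2,1,3,0,2,4,3,3,4,3,1,2,0,3,4,2,2,4,3,1,2,0,3,3,1,2,0,3,4,2] (by decide +kernel)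
theorem f2780 : F [0,5,7] [257,79,54] := S.mapC (f2779 S) [4,3,4,2,4,0,0,3,4,3,1,2,0,3,3,1,2,0,3,3,1,2,0,3,4,2,2,4,3,1,2,0,3,3,1,2,0,3,4,2,4,3,1,2,0,3,3,1,2,0,3,3,1,2,0,3,3,1,2,0,3,4,2,2,4,3,1,2,0,3,3,1,2,0,3,4,2,4,3,1,2,0,3,4,2,2,4,3,1,2,0,3,3,1,2,0,3,4,2,4,3,1,2,0,3,4,2,2,4,3,1,2,0,3,3,1,2,0,3,4,2] (by decide +kernel)
theorem f2781 : F [257,79,54] [0,5,7] := S.symm (f2780 S)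
theorem f2782 : F [0,5,7] [257,79,54] := S.symm (f2781 S)
theorem f2783 : F [0,5,7,52] [257,79,54,52] := S.appC (f2782 S) 52 (by decide +kernel)
theorem f2791 : F [0,5,44] [116,99,32] := S.mapC (f794 S) [4,3,1,2,0,3,4,2,2,4,3,1,2,0,3,3,1,2,0,3,4,2,4,3,1,2,0,3,4,2,2,4,3,1,2,0,3,3,1,2,0,3,4,2,4,3,1,2,0,3,4,3,4,2,1,3,0,2,2,1,3,0,2,4,3,3,4,2,1,3,0,2,4,2,2,4,3,1,2,0,3,3,1,2,0,3,4,2,2,2,4,3,1,2,0,3,3,1,2,0,3,4,2,4,3,1,2,0,3,4,2,2,4,3,1,2,0,3,3,1,2,0,3,4,2,4,3,1,2,0,3,3,1,2,0,3,4,2,2,4,3,1,2,0,3,3,1,2,0,3,4,2] (by decide +kernel)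
theorem f2792 : F [0,5,44,472] [116,99,32,472] := S.appC (f2791 S) 472 (by decide +kernel)
theorem f2793 : F [116,99,32,472] [0,5,44,472] := S.symm (f2792 S)
theorem f2794 : F [237,1030,0,3] [475,1346,4] := S.rel0C [237,1030] (by decide +kernel)
theorem f2795 : F [0,5,44,472] [904,1372,117] := S.mapC (f2794 S) [3,3,3,4,2,4,2] (by decide +kernel)
theorem f2796 : F [116,99,32,472] [904,1372,117] := S.trans (f2793 S) (f2795 S)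
theorem f2804 : F [6,4] [0,5] := S.mapC (f148 S) [3,3,3,0,3,1,3,3,3,1,1,1,3,1,2,0,2,2,4,3,3,1,3,0,2,2,2,0,2,2,2,1,2,2,4,0,0,0] (by decide +kernel)
theorem f2807 : F [0,5] [6,4] := S.symm (f2804 S)
theorem f2808 : F [0,5,216] [6,4,216] := S.appC (f2807 S) 216 (by decide +kernel)
theorem f2809 : F [6,4,216] [19,232,67] := S.mapC (f794 S) [3,4,2,1,3,0,2,2,1,3,0,2,4,3,3,4,2,1,3,0,2,4,3,4,2,1,3,0,2,2,1,3,0,2,4,3,3,4,2,1,3,0,2,2,1,3,0,2,2,1,3,0,2,2,1,3,0,2,4,3,4,2,1,3,0,2,2,1,3,0,2,4,3,3,4,2,1,3,0,2,4,2,2,4,3,1,2,0,3,3,1,2,0,3,4,2,4,3,1,2,0,3,3,1,2,0,3,4,3,4,2,1,3,0,2,2,1,3,0,2,4,3,3,4,2,1,3,0,2,2,1,3,0,2,4,3,4,2,1,3,0,2,2,1,3,0,2,4,3,3,4,2,1,3,0,2,2,1,3,0,2,2,1,3,0,2,2,1,3,0,2,2,1,3,0,2,4,3,4,2,1,3,0,2,2,1,3,0,2,4,3,3,4,2,1,3,0,2,4,1,4]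 (by decide +kernel)
theorem f2810 : F [0,5,216] [19,232,67] := S.trans (f2808 S) (f2809 S)
theorem f2811 : F [904,1372,117] [497,447,892] := S.mapC (f2810 S) [3,4,3,4,2,2,2,4,3,3,3,4,2,4,2] (by decide +kernel)
theorem f2812 : F [116,99,32,472] [497,447,892] := S.trans (f2796 S) (f2811 S)
theorem f2813 : F [0,5,7,1084] [970,635,1080] := S.mapC (f2812 S) [4,3,3,4,0,0,3,4,3,1,2,0,3,3,1,2,0,3,4,2,2,2,4,3,1,2,0,3,4,2,2,4,3,1,2,0,3,3,1,2,0,3,4,2,2,2,4,3,1,2,0,3,3,1,2,0,3,4,2,4,3,1,2,0,3,3,1,2,0,3,4,2,2,4,3,1,2,0,3,3,1,2,0,3,4,2,4,3,1,2,0,3,3,1,2,0,3,4,2,2,4,3,1,2,0,3,3,1,2,0,3,4,2,4,2,1,3,0,2,2,1,3,0,2,4,3,4,2,1,3,0,2,2,1,3,0,2,4,3,3,4,3,1,2,0,3,4,2,2,4,3,1,2,0,3,3,1,2,0,3,4,2,4,3,1,2,0,3,3,1,2,0,3,3,1,2,0,3,4,3,4,2,1,3,0,2,2,1,3,0,2,4,3,3,4,2,1,3,0,2,4,2,2,4,3,1,2,0,3,3,1,2,0,3,4,2,4,3,1,2,0,3,4,2,2,4,3,1,2,0,3,3,1,2,0,3,4,2,4,3,1,2,0,3,3,1,2,0,3,4,2,2,4,3,1,2,0,3,3,1,2,0,3,4,2]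 (by decide +kernel)
theorem f2814 : F [257,79,54,52] [1315,1328,651] := S.mapC (f2813 S) [4,3,4,2,4,0,0,3,4,3,1,2,0,3,3,1,2,0,3,3,1,2,0,3,4,2,2,4,3,1,2,0,3,3,1,2,0,3,4,2,4,3,1,2,0,3,3,1,2,0,3,3,1,2,0,3,3,1,2,0,3,4,2,2,4,3,1,2,0,3,3,1,2,0,3,4,2,4,3,1,2,0,3,4,2,2,4,3,1,2,0,3,3,1,2,0,3,4,2,4,3,1,2,0,3,4,2,2,4,3,1,2,0,3,3,1,2,0,3,4,2] (by decide +kernel)
theorem f2815 : F [0,5,7,52] [1315,1328,651] := S.trans (f2783 S) (f2814 S)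
theorem f2821 : F [0,5,7] [257,79,54] := S.mapC (f450 S) [4,3,4,2,4,0,0,3,4,3,1,2,0,3,3,1,2,0,3,3,1,2,0,3,3,1,2,0,3,4,2,2,4,3,1,2,0,3,3,1,2,0,3,4,2,4,3,1,2,0,3,3,1,2,0,3,3,1,2,0,3,4,3,4,2,1,3,0,2,2,1,3,0,2,4,3,3,4,2,1,3,0,2,4,2,2,4,3,1,2,0,3,3,1,2,0,3,4,2,4,3,1,2,0,3,4,2,2,4,3,1,2,0,3,3,1,2,0,3,4,2,4,3,1,2,0,3,4,2,2,4,3,1,2,0,3,3,1,2,0,3,4,2,4,3,1,2,0,3,4,2,2,4,3,1,2,0,3,3,1,2,0,3,4,2] (by decide +kernel)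
theorem f2822 : F [257,79,54] [0,5,7] := S.symm (f2821 S)
theorem f2823 : F [0,5,7] [257,79,54] := S.symm (f2822 S)
theorem f2824 : F [0,5,7,56] [257,79,54,56] := S.appC (f2823 S) 56 (by decide +kernel)
theorem f2827 : F [99,0] [0,99] := S.mapC (f911 S) [3,4,2,1,3,0,2,2,1,3,0,2,4,3,3,4,2,1,3,0,2,4,3,4,2,1,3,0,2,2,1,3,0,2,4,3,3,4,2,1,3,0,2,4,3,4,2,1,3,0,2,2,1,3,0,2,4,3,3,4,2,1,3,0,2,4,3,4,2,1,3,0,2,2,1,3,0,2,4,3,3,3,4,2,1,3,0,2,2,1,3,0,2,4,3,3,4,3,1,2,0,3,4,2,2,4,3,1,2,0,3,3,1,2,0,3,4,2,4,2,1,3,0,2,2,1,3,0,2,2,1,3,0,2,4,3,4,2,1,3,0,2,2,1,3,0,2,4,3,3,4,2,1,3,0,2,4,2,2,4,3,1,2,0,3,3,1,2,0,3,4,2,4,3,1,2,0,3,4,3,4,2,1,3,0,2,2,1,3,0,2,4,3,3,4,2,1,3,0,2,2,1,3,0,2,2,1,3,0,2,4,2,4,2,1,3,0,2,4,2,4,2,1,3,0,2,2,1,3,0,2,4,2] (by decide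 +kernel)
theorem f2828 : F [0,99] [99,0] := S.mapC (f2827 S) [4,3,4,3,4,2,4,3,1,2,0,3,4,2,2,2,4,3,1,2,0,3,4,2,2,4,3,1,2,0,3,3,1,2,0,3,4,2,4,3,1,2,0,3,3,1,2,0,3,3,1,2,0,3,4,2,2,4,3,1,2,0,3,3,1,2,0,3,4,2,4,2,1,3,0,2,2,1,3,0,2,4,3,4,2,1,3,0,2,2,1,3,0,2,4,3,3,4,3,1,2,0,3,4,2,2,4,3,1,2,0,3,3,1,2,0,3,4,2,4,3,1,2,0,3,3,1,2,0,3,3,1,2,0,3,4] (by decide +kernel)
theorem f2829 : F [99,0] [0,99] := S.symm (f2828 S)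
theorem f2830 : F [0,99] [99,0] := S.symm (f2829 S)
theorem f2831 : F [0,99,10] [99,0,10] := S.appC (f2830 S) 10 (by decide +kernel)
theorem f2832 : F [99,0,10] [358,327,390] := S.mapC (f939 S) [4,3,4,3,4,2,4,3,1,2,0,3,4,2,2,2,4,3,1,2,0,3,4,2,2,4,3,1,2,0,3,3,1,2,0,3,4,2,4,3,1,2,0,3,3,1,2,0,3,3,1,2,0,3,4,2,2,4,3,1,2,0,3,3,1,2,0,3,4,2,4,2,1,3,0,2,2,1,3,0,2,4,3,4,2,1,3,0,2,2,1,3,0,2,4,3,3,4,3,1,2,0,3,4,2,2,4,3,1,2,0,3,3,1,2,0,3,4,2,4,3,1,2,0,3,3,1,2,0,3,3,1,2,0,3,4] (by decide +kernel)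
theorem f2833 : F [0,99,10] [358,327,390] := S.trans (f2831 S) (f2832 S)
theorem f2834 : F [0,99,10,79] [358,327,390,79] := S.appC (f2833 S) 79 (by decide +kernel)
theorem f2835 : F [358,327,390,79] [0,99,10,79] := S.symm (f2834 S)
theorem f2836 : F [15,256,0,3] [39,502,4] := S.rel0C [15,256] (by decide +kernel)
theorem f2837 : F [0,99,10,79] [257,116,12] := S.mapC (f2836 S) [0,3,4,2] (by decide +kernel)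
theorem f2838 : F [358,327,390,79] [257,116,12] := S.trans (f2835 S) (f2837 S)
theorem f2846 : F [0,99,72] [5,299,151] := S.mapC (f1043 S) [4,2,1,3,0,2,2,1,3,0,2,2,1,3,0,2,4,3,4,2,1,3,0,2,2,1,3,0,2,4,3,3,4,2,1,3,0,2,4,2,2,4,3,1,2,0,3,3,1,2,0,3,4,2,4,2,1,3,0,2,4,3,4,2,1,3,0,2,2,1,3,0,2,4,3,3,4,2,1,3,0,2,4,2,2,4,3,1,2,0,3,3,1,2,0,3,4,2,4,3,1,2,0,3,3,1,2,0,3,4,3,4,2,1,3,0,2,2,1,3,0,2,4,3,3,4,2,1,3,0,2,2,1,3,0,2,2,1,3,0,2,4,3,4,2,1,3,0,2,2,1,3,0,2,4,3,3,4,2,1,3,0,2,4,3,4,2,1,3,0,2,2,1,3,0,2,4,3,3,4,2,1,3,0,2,4,3,4,2,1,3,0,2,2,1,3,0,2,4,3,3,3,3,3,4,2,1,3,0,2,2,1,3,0,2,2,1,3,0,2,4] (by decide +kernel)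
theorem f2847 : F [257,116,12] [33,170,2] := S.mapC (f2846 S) [3,4,2,1,4,0,3,4,2] (by decide +kernel)
theorem f2848 : F [358,327,390,79] [33,170,2] := S.trans (f2838 S) (f2847 S)
theorem f2849 : F [0,5,7,1393] [609,523,692] := S.mapC (f2848 S) [1,3,4,3,4,2,4,2,4,3,1,2,0,3,3,1,2,0,3,4,2,2,2,4,3,1,2,0,3,3,1,2,0,3,4,2,4,3,1,2,0,3,3,1,2,0,3,3,1,2,0,3,4,2,2,4,3,1,2,0,3,3,1,2,0,3,4,2,4,3,1,2,0,3,4,3,4,2,1,3,0,2,2,1,3,0,2,4,3,3,4,2,1,3,0,2,4,2,2,4,3,1,2,0,3,3,1,2,0,3,4,2,4,3,1,2,0,3,4,2,2,4,3,1,2,0,3,3,1,2,0,3,4,2,4,3,1,2,0,3,3,1,2,0,3,4,2,2,4,3,1,2,0,3,3,1,2,0,3,4,2,4,2,1,3,0,2,2,1,3,0,2,4,3,4,2,1,3,0,2,2,1,3,0,2,4,3,3,4,3,1,2,0,3,4,2,2,4,3,1,2,0,3,3,1,2,0,3,4,2,4,3,1,2,0,3,3,1,2,0,3,3,1,2,0,3,4] (by decide +kernel)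
theorem f2850 : F [257,79,54,56] [68,175,118] := S.mapC (f2849 S) [4,3,4,2,4,0,0,3,4,3,1,2,0,3,3,1,2,0,3,3,1,2,0,3,3,1,2,0,3,4,2,2,4,3,1,2,0,3,3,1,2,0,3,4,2,4,3,1,2,0,3,3,1,2,0,3,3,1,2,0,3,4,3,4,2,1,3,0,2,2,1,3,0,2,4,3,3,4,2,1,3,0,2,4,2,2,4,3,1,2,0,3,3,1,2,0,3,4,2,4,3,1,2,0,3,4,2,2,4,3,1,2,0,3,3,1,2,0,3,4,2,4,3,1,2,0,3,4,2,2,4,3,1,2,0,3,3,1,2,0,3,4,2,4,3,1,2,0,3,4,2,2,4,3,1,2,0,3,3,1,2,0,3,4,2] (by decide +kernel)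
theorem f2851 : F [0,5,7,56] [68,175,118] := S.trans (f2824 S) (f2850 S)
theorem f2856 : F [0,5,7] [22,79,4] := S.mapC (f703 S) [3,4,0,0,2,4,2,1,3,0,2,2,1,3,0,2,4,3,4,2,1,3,0,2,2,1,3,0,2,4,3,3,4,3,1,2,0,3,4,2,2,4,3,1,2,0,3,3,1,2,0,3,4,2,4,3,1,2,0,3,4,3,4,2,1,3,0,2,2,1,3,0,2,4,3,3,4,3,1,2,0,3,4,2,2,4,3,1,2,0,3,3,1,2,0,3,4,2,4,3,1,2,0,3,3,1,2,0,3,3,1,2,0,3,4] (by decide +kernel)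
theorem f2857 : F [22,79,4] [0,5,7] := S.symm (f2856 S)
theorem f2858 : F [0,5,7] [22,79,4] := S.symm (f2857 S)
theorem f2859 : F [0,5,7,57] [22,79,4,57] := S.appC (f2858 S) 57 (by decide +kernel)
theorem f2867 : F [0,5,44] [116,99,32] := S.mapC (f794 S) [4,3,1,2,0,3,4,2,2,4,3,1,2,0,3,3,1,2,0,3,4,2,4,3,1,2,0,3,4,2,2,4,3,1,2,0,3,3,1,2,0,3,4,2,4,3,1,2,0,3,4,3,4,2,1,3,0,2,2,1,3,0,2,4,3,3,4,2,1,3,0,2,4,2,2,4,3,1,2,0,3,3,1,2,0,3,4,2,2,2,4,3,1,2,0,3,3,1,2,0,3,4,2,4,3,1,2,0,3,4,2,2,4,3,1,2,0,3,3,1,2,0,3,4,2,4,3,1,2,0,3,3,1,2,0,3,4,2,2,4,3,1,2,0,3,3,1,2,0,3,4,2] (by decide +kernel)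
theorem f2868 : F [0,5,44,44] [116,99,32,44] := S.appC (f2867 S) 44 (by decide +kernel)
theorem f2869 : F [116,99,32,44] [0,5,44,44] := S.symm (f2868 S)
theorem f2870 : F [21,155,0,0] [21,155,1] := S.pw0C [21,155] 1 1 (by decide +kernel)
theorem f2871 : F [0,5,44,44] [0,5,65] := S.mapC (f2870 S) [4,2,4,2] (by decide +kernel)
theorem f2872 : F [116,99,32,44] [0,5,65] := S.trans (f2869 S) (f2871 S)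
theorem f2879 : F [0,5,65] [38,64] := S.mapC (f907 S) [1,1,1,4,3,0,3,3,1,3,4,2,0,0,0,2,0,2,1,2,1,1,1,4,3,0,3,3,1,3,4,2,0,0,0,2,0,2,1,2,1,1,1,4,3,3,0,3,3,3,1,3,3,3,1,2,0,2,2,4,3,3,1,3,0,2,0,0,0,2,2,2,0,2,1,2,2,2,1,1,1,4,3,3,0,3,1,3,3,3,1,3,0,3,3,4,2,2,1,2,0,2,0,0,0,2,0,2,1,2,0,2,2,1] (by decide +kernel)
theorem f2880 : F [116,99,32,44] [38,64] := S.trans (f2872 S) (f2879 S)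
theorem f2881 : F [0,5,7,128] [681,2] := S.mapC (f2880 S) [4,3,3,4,0,0,3,4,3,1,2,0,3,3,1,2,0,3,4,2,2,2,4,3,1,2,0,3,4,2,2,4,3,1,2,0,3,3,1,2,0,3,4,2,2,2,4,3,1,2,0,3,3,1,2,0,3,4,2,4,3,1,2,0,3,3,1,2,0,3,4,2,2,4,3,1,2,0,3,3,1,2,0,3,4,2,4,3,1,2,0,3,3,1,2,0,3,4,2,2,4,3,1,2,0,3,3,1,2,0,3,4,2,4,2,1,3,0,2,2,1,3,0,2,4,3,4,2,1,3,0,2,2,1,3,0,2,4,3,3,4,3,1,2,0,3,4,2,2,4,3,1,2,0,3,3,1,2,0,3,4,2,4,3,1,2,0,3,3,1,2,0,3,3,1,2,0,3,4,3,4,2,1,3,0,2,2,1,3,0,2,4,3,3,4,2,1,3,0,2,4,2,2,4,3,1,2,0,3,3,1,2,0,3,4,2,4,3,1,2,0,3,4,2,2,4,3,1,2,0,3,3,1,2,0,3,4,2,4,3,1,2,0,3,3,1,2,0,3,4,2,2,4,3,1,2,0,3,3,1,2,0,3,4,2] (by decide +kernel)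
theorem f2882 : F [22,79,4,57] [81,10] := S.mapC (f2881 S) [3,4,0,0,2,4,2,1,3,0,2,2,1,3,0,2,4,3,4,2,1,3,0,2,2,1,3,0,2,4,3,3,4,3,1,2,0,3,4,2,2,4,3,1,2,0,3,3,1,2,0,3,4,2,4,3,1,2,0,3,4,3,4,2,1,3,0,2,2,1,3,0,2,4,3,3,4,3,1,2,0,3,4,2,2,4,3,1,2,0,3,3,1,2,0,3,4,2,4,3,1,2,0,3,3,1,2,0,3,3,1,2,0,3,4] (by decide +kernel)
theorem f2883 : F [0,5,7,57] [81,10] := S.trans (f2859 S) (f2882 S)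
theorem f2885 : F [0,5,7] [22,79,4] := S.mapC (f703 S) [3,4,0,0,2] (by decide +kernel)
theorem f2886 : F [22,79,4] [0,5,7] := S.symm (f2885 S)
theorem f2887 : F [0,5,7] [22,79,4] := S.symm (f2886 S)
theorem f2888 : F [0,5,7,59] [22,79,4,59] := S.appC (f2887 S) 59 (by decide +kernel)
theorem f2890 : F [28,313,0,3] [67,589,4] := S.rel0C [28,313] (by decide +kernel)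
theorem f2891 : F [0,5,7,123] [177,17,22] := S.mapC (f2890 S) [1,2,0,4,2] (by decide +kernel)
theorem f2895 : F [6,4] [0,5] := S.mapC (f148 S) [0,3,3,1,3,0,3,1,3,1,1,1,3,1,3,0,3,3,4,2,2,1,2,0,2,2,2,0,2,1,2,2,4,0,0,0] (by decide +kernel)
theorem f2896 : F [6,4] [0,5] := S.mapC (f2895 S) [3,0,3,1,3,1,1,1,3,4,2,0,2,2,1,2,4,0,0,0] (by decide +kernel)
theorem f2899 : F [0,5] [6,4] := S.symm (f2896 S)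
theorem f2900 : F [0,5,125] [6,4,125] := S.appC (f2899 S) 125 (by decide +kernel)
theorem f2901 : F [6,4,125] [57,81] := S.mapC (f731 S) [1,1,1,4,3,3,0,3,1,3,3,3,1,3,0,3,3,4,2,2,1,2,0,2,0,0,0,2,0,2,1,2,0,2,2,1,3,3,3,3,0,3,1,1,1,1,3,1,2,2,0,4,1,3,3,0,2,0,2,1,2,2,2,2,1,3,3,1,3,0,3,1,3,1,1,1,3,1,3,0,3,3,4,2,2,1,2,0,2,2,2,0,2,1,2,2,4,0,0,0,3,0,3,1,3,1,1,1,3,4,2,0,2,2,1,2,4,0,0,0] (by decide +kernel)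
theorem f2902 : F [0,5,125] [57,81] := S.trans (f2900 S) (f2901 S)
theorem f2903 : F [177,17,22] [109,110] := S.mapC (f2902 S) [3,4,1,3,0,4,1,2,0,4,2] (by decide +kernel)
theorem f2904 : F [0,5,7,123] [109,110] := S.trans (f2891 S) (f2903 S)
theorem f2905 : F [22,79,4,59] [173,54] := S.mapC (f2904 S) [3,4,0,0,2] (by decide +kernel)
theorem f2906 : F [0,5,7,59] [173,54] := S.trans (f2888 S) (f2905 S)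
theorem f2908 : F [0,5,7] [257,79,54] := S.mapC (f450 S) [0,3,3,1,3,0,3,1,3,1,1,1,3,1,3,0,3,3,4,2,2,1,2,0,2,2,2,0,2,1,2,2,1,1,4,3,4,1,4,0,4,2,4,0,3,3,3,1,3,3,0,3,1,3,3,3,1,1,4,2,1,2,0,4,1,3,0,3,4,2,2,2,0,2,1,2,2,0,2,2,2,1,4,2,2,1,2,2,0,2,0,2,2,2,4,3,3,3,1,3,1,3,3,0,3,3,3,4,1,4,0,4,2,4] (by decide +kernel)
theorem f2909 : F [257,79,54] [0,5,7] := S.symm (f2908 S)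
theorem f2910 : F [0,5,7] [257,79,54] := S.symm (f2909 S)
theorem f2911 : F [0,5,7,73] [257,79,54,73] := S.appC (f2910 S) 73 (by decide +kernel)
theorem f2916 : F [0,99,9] [559,124,75] := S.mapC (f984 S) [2,2,4,3,1,2,0,3,4,2,2,2,4,3,1,2,0,3,4,2,2,4,3,1,2,0,3,3,1,2,0,3,4,2,4,3,1,2,0,3,4,2,2,4,3,1,2,0,3,3,1,2,0,3,4,2,2,2,4,3,1,2,0,3,3,1,2,0,3,4,2,4,3,1,2,0,3,4,3,4,2,1,3,0,2,2,1,3,0,2,4,3,3,4,2,1,3,0,2,4,2,2,4,3,1,2,0,3,3,1,2,0,3,4,2,4,3,1,2,0,3,4,2,2,4,3,1,2,0,3,3,1,2,0,3,4,2,4,2,1,3,0,2,2,1,3,0,2,4,3,4,2,1,3,0,2,2,1,3,0,2,4,3,3,4,3,1,2,0,3,4,2,2,4,3,1,2,0,3,3,1,2,0,3,4,2,4,3,1,2,0,3,3,1,2,0,3,3,1,2,0,3,3,1,2,0,3,4,2,2,4,3,1,2,0,3,3,1,2,0,3,4,2,4,3,1,2,0,3,4,2,2,4,3,1,2,0,3,3,1,2,0,3,4,2] (by decide +kernel)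
theorem f2917 : F [0,99,9,546] [559,124,75,546] := S.appC (f2916 S) 546 (by decide +kernel)
theorem f2918 : F [559,124,75,546] [0,99,9,546] := S.symm (f2917 S)
theorem f2919 : F [22,1196,0,3] [54,1174,4] := S.rel0C [22,1196] (by decide +kernel)
theorem f2920 : F [0,99,9,546] [900,547,3] := S.mapC (f2919 S) [1,3,3,3,1,3,4] (by decide +kernel)
theorem f2921 : F [559,124,75,546] [900,547,3] := S.trans (f2918 S) (f2920 S)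
theorem f2932 : F [0,99,542] [1196,1297,1062] := S.mapC (f1324 S) [4,2,1,3,0,2,2,1,3,0,2,2,1,3,0,2,4,3,4,2,1,3,0,2,2,1,3,0,2,4,3,3,4,2,1,3,0,2,4,2,2,4,3,1,2,0,3,3,1,2,0,3,4,2,4,3,1,2,0,3,3,1,2,0,3,4,3,4,2,1,3,0,2,2,1,3,0,2,4,3,3,4,2,1,3,0,2,2,1,3,0,2,4,3,4,2,1,3,0,2,2,1,3,0,2,4,3,3,4,2,1,3,0,2,2,1,3,0,2,2,1,3,0,2,4,3,4,2,1,3,0,2,2,1,3,0,2,4,3,3,4,2,1,3,0,2,2,1,3,0,2,2,1,3,0,2,4,3,4,2,1,3,0,2,2,1,3,0,2,4,3,3,3,4,2,1,3,0,2,2,1,3,0,2,2,1,3,0,2,4,3,4,2,1,3,0,2,4] (by decide +kernel)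
theorem f2933 : F [900,547,3] [362,361,45] := S.mapC (f2932 S) [4,2,0,2,2,2,0,4,1,3,3,3,1,3,4] (by decide +kernel)
theorem f2934 : F [559,124,75,546] [362,361,45] := S.trans (f2921 S) (f2933 S)
theorem f2935 : F [0,5,7,839] [547,1077,55] := S.mapC (f2934 S) [4,3,3,4,2,2,4,1,3,4,3,1,2,0,3,3,1,2,0,3,3,1,2,0,3,4,2,2,2,4,3,1,2,0,3,3,1,2,0,3,3,1,2,0,3,4,2,2,4,3,1,2,0,3,3,1,2,0,3,4,2,4,3,1,2,0,3,3,1,2,0,3,4,2,2,4,3,1,2,0,3,3,1,2,0,3,4,2,4,3,1,2,0,3,4,2,2,4,3,1,2,0,3,3,1,2,0,3,4,2,4,2,1,3,0,2,2,1,3,0,2,4,3,4,2,1,3,0,2,2,1,3,0,2,4,3,3,4,3,1,2,0,3,4,2,2,4,3,1,2,0,3,3,1,2,0,3,4,2,4,3,1,2,0,3,3,1,2,0,3,3,1,2,0,3,3,1,2,0,3,4,2,2,4,3,1,2,0,3,3,1,2,0,3,4,2,4,3,1,2,0,3,4,2,2,4,3,1,2,0,3,3,1,2,0,3,4,2] (by decide +kernel)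
theorem f2936 : F [257,79,54,73] [408,402,1318] := S.mapC (f2935 S) [0,3,3,1,3,0,3,1,3,1,1,1,3,1,3,0,3,3,4,2,2,1,2,0,2,2,2,0,2,1,2,2,1,1,4,3,4,1,4,0,4,2,4,0,3,3,3,1,3,3,0,3,1,3,3,3,1,1,4,2,1,2,0,4,1,3,0,3,4,2,2,2,0,2,1,2,2,0,2,2,2,1,4,2,2,1,2,2,0,2,0,2,2,2,4,3,3,3,1,3,1,3,3,0,3,3,3,4,1,4,0,4,2,4] (by decide +kernel)
theorem f2937 : F [0,5,7,73] [408,402,1318] := S.trans (f2911 S) (f2936 S)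
theorem f2941 : F [0,5,7] [257,79,54] := S.mapC (f450 S) [4,3,4,2,4,0,0,3,4,3,1,2,0,3,3,1,2,0,3,3,1,2,0,3,4,2,2,4,3,1,2,0,3,3,1,2,0,3,4,2,4,3,1,2,0,3,3,1,2,0,3,3,1,2,0,3,3,1,2,0,3,4,2,2,4,3,1,2,0,3,3,1,2,0,3,4,2,4,2,1,3,0,2,2,1,3,0,2,4,3,4,2,1,3,0,2,2,1,3,0,2,4,3,3,4,3,1,2,0,3,4,2,2,4,3,1,2,0,3,3,1,2,0,3,4,2,4,3,1,2,0,3,3,1,2,0,3,3,1,2,0,3,3,1,2,0,3,3,1,2,0,3,4,2,2,4,3,1,2,0,3,3,1,2,0,3,4,2,4,3,1,2,0,3,4,2,2,4,3,1,2,0,3,3,1,2,0,3,4,2,4,3,1,2,0,3,4,2,2,4,3,1,2,0,3,3,1,2,0,3,4,2] (by decide +kernel)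
theorem f2942 : F [257,79,54] [0,5,7] := S.symm (f2941 S)
theorem f2943 : F [0,5,7] [257,79,54] := S.symm (f2942 S)
theorem f2944 : F [0,5,7,80] [257,79,54,80] := S.appC (f2943 S) 80 (by decide +kernel)
theorem f2949 : F [0,99,9] [559,124,75] := S.mapC (f984 S) [2,2,4,3,1,2,0,3,4,2,2,2,4,3,1,2,0,3,4,2,2,4,3,1,2,0,3,3,1,2,0,3,4,2,4,3,1,2,0,3,4,2,2,4,3,1,2,0,3,3,1,2,0,3,4,2,2,2,4,3,1,2,0,3,3,1,2,0,3,4,2,4,3,1,2,0,3,4,3,4,2,1,3,0,2,2,1,3,0,2,4,3,3,4,2,1,3,0,2,4,2,2,4,3,1,2,0,3,3,1,2,0,3,4,2,4,3,1,2,0,3,4,2,2,4,3,1,2,0,3,3,1,2,0,3,4,2,4,2,1,3,0,2,2,1,3,0,2,4,3,4,2,1,3,0,2,2,1,3,0,2,4,3,3,4,3,1,2,0,3,4,2,2,4,3,1,2,0,3,3,1,2,0,3,4,2,4,3,1,2,0,3,3,1,2,0,3,3,1,2,0,3,3,1,2,0,3,4,2,2,4,3,1,2,0,3,3,1,2,0,3,4,2,4,3,1,2,0,3,4,2,2,4,3,1,2,0,3,3,1,2,0,3,4,2]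 (by decide +kernel)
theorem f2950 : F [0,99,9,56] [559,124,75,56] := S.appC (f2949 S) 56 (by decide +kernel)
theorem f2951 : F [559,124,75,56] [0,99,9,56] := S.symm (f2950 S)
theorem f2952 : F [22,251,0,3] [54,498,4] := S.rel0C [22,251] (by decide +kernel)
theorem f2953 : F [0,99,9,56] [101,761,3] := S.mapC (f2952 S) [1,1,3,4] (by decide +kernel)
theorem f2954 : F [559,124,75,56] [101,761,3] := S.trans (f2951 S) (f2953 S)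

end Cfsg.Agent.Lib.TC.D.HND.Fa
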