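import Cfsg.Agent.Lib.TC.D.HND.Sys
import Cfsg.Agent.Lib.TC.D.HND.F6

namespace Cfsg.Agent.Lib.TC.D.HND.Fa

open Cfsg.Agent.Lib.TC.D.HND.Sys

set_option maxRecDepth 100000

variable {F : List Nat → List Nat → Prop} (S : Sys F)

include S

theorem f2960 : F [0,99,21] [303,778,863] := S.mapC (f1324 S) [2,2,4,3,1,2,0,3,3,1,2,0,3,4,2,4,3,1,2,0,3,3,1,2,0,3,3,1,2,0,3,4,2,2,4,3,1,2,0,3,3,1,2,0,3,4,2,4,3,1,2,0,3,4,3,4,2,1,3,0,2,2,1,3,0,2,4,3,3,4,3,1,2,0,3,4,2,2,4,3,1,2,0,3,3,1,2,0,3,4,2,4,3,1,2,0,3,3,1,2,0,3,3,1,2,0,3,3,1,2,0,3,4,2,2,4,3,1,2,0,3,3,1,2,0,3,4,2,4,3,1,2,0,3,4,2,2,4,3,1,2,0,3,3,1,2,0,3,4,2] (by decide +kernel)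
theorem f2961 : F [101,761,3] [1217,748,647] := S.mapC (f2960 S) [4,2,0,0,4,1,1,3,4] (by decide +kernel)
theorem f2962 : F [559,124,75,56] [1217,748,647] := S.trans (f2954 S) (f2961 S)
theorem f2963 : F [0,5,7,479] [1240,558,70] := S.mapC (f2962 S) [4,3,3,4,2,2,4,1,3,4,3,1,2,0,3,3,1,2,0,3,3,1,2,0,3,4,2,2,2,4,3,1,2,0,3,3,1,2,0,3,3,1,2,0,3,4,2,2,4,3,1,2,0,3,3,1,2,0,3,4,2,4,3,1,2,0,3,3,1,2,0,3,4,2,2,4,3,1,2,0,3,3,1,2,0,3,4,2,4,3,1,2,0,3,4,2,2,4,3,1,2,0,3,3,1,2,0,3,4,2,4,2,1,3,0,2,2,1,3,0,2,4,3,4,2,1,3,0,2,2,1,3,0,2,4,3,3,4,3,1,2,0,3,4,2,2,4,3,1,2,0,3,3,1,2,0,3,4,2,4,3,1,2,0,3,3,1,2,0,3,3,1,2,0,3,3,1,2,0,3,4,2,2,4,3,1,2,0,3,3,1,2,0,3,4,2,4,3,1,2,0,3,4,2,2,4,3,1,2,0,3,3,1,2,0,3,4,2] (by decide +kernel)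
theorem f2964 : F [257,79,54,80] [1139,1276,1135] := S.mapC (f2963 S) [4,3,4,2,4,0,0,3,4,3,1,2,0,3,3,1,2,0,3,3,1,2,0,3,4,2,2,4,3,1,2,0,3,3,1,2,0,3,4,2,4,3,1,2,0,3,3,1,2,0,3,3,1,2,0,3,3,1,2,0,3,4,2,2,4,3,1,2,0,3,3,1,2,0,3,4,2,4,2,1,3,0,2,2,1,3,0,2,4,3,4,2,1,3,0,2,2,1,3,0,2,4,3,3,4,3,1,2,0,3,4,2,2,4,3,1,2,0,3,3,1,2,0,3,4,2,4,3,1,2,0,3,3,1,2,0,3,3,1,2,0,3,3,1,2,0,3,3,1,2,0,3,4,2,2,4,3,1,2,0,3,3,1,2,0,3,4,2,4,3,1,2,0,3,4,2,2,4,3,1,2,0,3,3,1,2,0,3,4,2,4,3,1,2,0,3,4,2,2,4,3,1,2,0,3,3,1,2,0,3,4,2] (by decide +kernel)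
theorem f2965 : F [0,5,7,80] [1139,1276,1135] := S.trans (f2944 S) (f2964 S)
theorem f2971 : F [257,79,54] [0,5,7] := S.mapC (f450 S) [3,4,2,1,3,0,2,2,1,3,0,2,4,3,3,4,2,1,3,0,2,4,3,4,2,1,3,0,2,2,1,3,0,2,4,3,3,4,2,1,3,0,2,4,3,4,2,1,3,0,2,2,1,3,0,2,4,3,3,4,2,1,3,0,2,2,1,3,0,2,4,3,4,2,1,3,0,2,2,1,3,0,2,4,3,3,4,2,1,3,0,2,4,3,4,2,1,3,0,2,2,1,3,0,2,4,3,3,3,4,2,1,3,0,2,2,1,3,0,2,4,3,3,4,3,1,2,0,3,4,2,2,4,3,1,2,0,3,3,1,2,0,3,4,2] (by decide +kernel)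
theorem f2972 : F [0,5,7] [257,79,54] := S.mapC (f2971 S) [4,3,4,2,4,0,0,3,4,3,1,2,0,3,3,1,2,0,3,3,1,2,0,3,4,2,2,4,3,1,2,0,3,3,1,2,0,3,4,2,4,3,1,2,0,3,3,1,2,0,3,3,1,2,0,3,3,1,2,0,3,4,2,2,4,3,1,2,0,3,3,1,2,0,3,4,2,4,2,1,3,0,2,2,1,3,0,2,4,3,4,2,1,3,0,2,2,1,3,0,2,4,3,3,4,3,1,2,0,3,4,2,2,4,3,1,2,0,3,3,1,2,0,3,4,2,4,3,1,2,0,3,3,1,2,0,3,3,1,2,0,3,4,3,4,2,1,3,0,2,2,1,3,0,2,4,3,3,4,2,1,3,0,2,4,2,2,4,3,1,2,0,3,3,1,2,0,3,4,2,4,3,1,2,0,3,4,2,2,4,3,1,2,0,3,3,1,2,0,3,4,2,4,3,1,2,0,3,3,1,2,0,3,4,2,2,4,3,1,2,0,3,3,1,2,0,3,4,2] (by decide +kernel)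
theorem f2973 : F [257,79,54] [0,5,7] := S.symm (f2972 S)
theorem f2974 : F [0,5,7] [257,79,54] := S.symm (f2973 S)
theorem f2975 : F [0,5,7,100] [257,79,54,100] := S.appC (f2974 S) 100 (by decide +kernel)
theorem f2983 : F [0,5,44] [116,99,32] := S.mapC (f794 S) [4,3,1,2,0,3,4,2,2,4,3,1,2,0,3,3,1,2,0,3,4,2,4,3,1,2,0,3,4,2,2,4,3,1,2,0,3,3,1,2,0,3,4,2,4,3,1,2,0,3,4,3,4,2,1,3,0,2,2,1,3,0,2,4,3,3,4,2,1,3,0,2,4,2,2,4,3,1,2,0,3,3,1,2,0,3,4,2,2,2,4,3,1,2,0,3,3,1,2,0,3,4,2,4,3,1,2,0,3,4,2,2,4,3,1,2,0,3,3,1,2,0,3,4,2,4,3,1,2,0,3,3,1,2,0,3,4,2,2,4,3,1,2,0,3,3,1,2,0,3,4,2] (by decide +kernel)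
theorem f2984 : F [0,5,44,418] [116,99,32,418] := S.appC (f2983 S) 418 (by decide +kernel)
theorem f2985 : F [116,99,32,418] [0,5,44,418] := S.symm (f2984 S)
theorem f2986 : F [113,628,0,3] [245,884,4] := S.rel0C [113,628] (by decide +kernel)
theorem f2987 : F [0,5,44,418] [863,712,117] := S.mapC (f2986 S) [2,2,4,2,4,2] (by decide +kernel)
theorem f2988 : F [116,99,32,418] [863,712,117] := S.trans (f2985 S) (f2987 S)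
theorem f2998 : F [6,4] [0,5] := S.mapC (f148 S) [3,3,3,3,0,3,1,1,1,1,3,1,2,2,0,4,1,3,3,0,2,0,2,1,2,2,2,2,4,0,0,0] (by decide +kernel)
theorem f3001 : F [0,5] [6,4] := S.symm (f2998 S)
theorem f3002 : F [0,5,842] [6,4,842] := S.appC (f3001 S) 842 (by decide +kernel)
theorem f3003 : F [6,4,842] [1062,742,1369] := S.mapC (f794 S) [4,2,1,3,0,2,2,1,3,0,2,2,1,3,0,2,4,3,4,2,1,3,0,2,2,1,3,0,2,4,3,3,4,2,1,3,0,2,4,2,2,4,3,1,2,0,3,3,1,2,0,3,4,2,4,3,1,2,0,3,3,1,2,0,3,4,3,4,2,1,3,0,2,2,1,3,0,2,4,3,3,4,2,1,3,0,2,2,1,3,0,2,2,1,3,0,2,2,1,3,0,2,2,1,3,0,2,4,3,4,2,1,3,0,2,2,1,3,0,2,4,3,3,4,2,1,3,0,2,4,2,2,4,3,1,2,0,3,3,1,2,0,3,4,2,4,3,1,2,0,3,3,1,2,0,3,4,3,4,2,1,3,0,2,2,1,3,0,2,4,3,3,4,2,1,3,0,2,2,1,3,0,2,2,1,3,0,2,2,1,3,0,2,4,3,4,2,1,3,0,2,2,1,3,0,2,4,3,3,4,2,1,3,0,2,2,1,3,0,2,2,1,3,0,2,4,1,4]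 (by decide +kernel)
theorem f3004 : F [0,5,842] [1062,742,1369] := S.trans (f3002 S) (f3003 S)
theorem f3005 : F [863,712,117] [855,784,1266] := S.mapC (f3004 S) [3,4,3,4,3,3,4,2,2,4,2,4,2] (by decide +kernel)
theorem f3006 : F [116,99,32,418] [855,784,1266] := S.trans (f2988 S) (f3005 S)
theorem f3007 : F [0,5,7,974] [1252,899,487] := S.mapC (f3006 S) [4,3,3,4,0,0,3,4,3,1,2,0,3,3,1,2,0,3,4,2,2,2,4,3,1,2,0,3,4,2,2,4,3,1,2,0,3,3,1,2,0,3,4,2,2,2,4,3,1,2,0,3,3,1,2,0,3,4,2,4,3,1,2,0,3,3,1,2,0,3,4,2,2,4,3,1,2,0,3,3,1,2,0,3,4,2,4,3,1,2,0,3,3,1,2,0,3,4,2,2,4,3,1,2,0,3,3,1,2,0,3,4,2,4,2,1,3,0,2,2,1,3,0,2,4,3,4,2,1,3,0,2,2,1,3,0,2,4,3,3,4,3,1,2,0,3,4,2,2,4,3,1,2,0,3,3,1,2,0,3,4,2,4,3,1,2,0,3,3,1,2,0,3,3,1,2,0,3,4,3,4,2,1,3,0,2,2,1,3,0,2,4,3,3,4,2,1,3,0,2,4,2,2,4,3,1,2,0,3,3,1,2,0,3,4,2,4,3,1,2,0,3,4,2,2,4,3,1,2,0,3,3,1,2,0,3,4,2,4,3,1,2,0,3,3,1,2,0,3,4,2,2,4,3,1,2,0,3,3,1,2,0,3,4,2]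 (by decide +kernel)
theorem f3008 : F [257,79,54,100] [417,198,714] := S.mapC (f3007 S) [4,3,4,2,4,0,0,3,4,3,1,2,0,3,3,1,2,0,3,3,1,2,0,3,4,2,2,4,3,1,2,0,3,3,1,2,0,3,4,2,4,3,1,2,0,3,3,1,2,0,3,3,1,2,0,3,3,1,2,0,3,4,2,2,4,3,1,2,0,3,3,1,2,0,3,4,2,4,2,1,3,0,2,2,1,3,0,2,4,3,4,2,1,3,0,2,2,1,3,0,2,4,3,3,4,3,1,2,0,3,4,2,2,4,3,1,2,0,3,3,1,2,0,3,4,2,4,3,1,2,0,3,3,1,2,0,3,3,1,2,0,3,4,3,4,2,1,3,0,2,2,1,3,0,2,4,3,3,4,2,1,3,0,2,4,2,2,4,3,1,2,0,3,3,1,2,0,3,4,2,4,3,1,2,0,3,4,2,2,4,3,1,2,0,3,3,1,2,0,3,4,2,4,3,1,2,0,3,3,1,2,0,3,4,2,2,4,3,1,2,0,3,3,1,2,0,3,4,2] (by decide +kernel)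
theorem f3009 : F [0,5,7,100] [417,198,714] := S.trans (f2975 S) (f3008 S)
theorem f3011 : F [17,5,110,24] [257,37,54,120] := S.mapC (f1183 S) [3,4,2,1,3,0,2,2,1,3,0,2,4,3,3,4,2,1,3,0,2,4,3,4,2,1,3,0,2,2,1,3,0,2,4,3,3,3,4,2,1,3,0,2,2,1,3,0,2,4,3,3,4,3,1,2,0,3,4,2,2,4,3,1,2,0,3,4,1,1,4,3,4,2,4] (by decide +kernel)
theorem f3012 : F [17,5,110,24] [0,5,7,24] := S.trans (f3011 S) (f1207 S)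
theorem f3013 : F [25,33,120,4] [9,33,60,4] := S.mapC (f3012 S) [3,4,2,1,3,0,2,2,1,3,0,2,4,3,3,4,2,1,3,0,2,2,1,3,0,2,4,3,4,2,1,3,0,2,2,1,3,0,2,4,3,3,4,2,1,3,0,2,4,3,4,2,1,3,0,2,2,1,3,0,2,4,3,3,3,4,2,1,3,0,2,2,1,3,0,2,4,3,1,1,4] (by decide +kernel)
theorem f3014 : F [25,33,120,4] [0,5,7,24] := S.trans (f3013 S) (f1296 S)
theorem f3015 : F [15,17,79,2] [1,3,12,14] := S.mapC (f3014 S) [4,2,1,3,0,2,2,1,3,0,2,2,1,3,0,2,4,3,4,2,1,3,0,2,2,1,3,0,2,4,3,3,4,2,1,3,0,2,4,2,2,4,3,1,2,0,3,3,1,2,0,3,4,2,4,2,1,3,0,2,4,3,4,2,1,3,0,2,2,1,3,0,2,4,3,3,4,2,1,3,0,2,2,1,3,0,2,2,1,3,0,2,2,1,3,0,2,2,1,3,0,2,4,0] (by decide +kernel)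
theorem f3016 : F [15,17,79,2] [0,5,7,24] := S.trans (f3015 S) (f1392 S)
theorem f3017 : F [24,27,51,0] [1,3,12,14] := S.mapC (f3016 S) [4,2,1,3,0,2,2,1,3,0,2,2,1,3,0,2,4,3,4,2,1,3,0,2,2,1,3,0,2,4,3,3,4,2,1,3,0,2,4,2,2,4,3,1,2,0,3,3,1,2,0,3,4,2,4,2,1,3,0,2,4,3,4,2,1,3,0,2,2,1,3,0,2,4,3,3,4,2,1,3,0,2,2,1,3,0,2,2,1,3,0,2,2,1,3,0,2,2,1,3,0,2,4,0] (by decide +kernel)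
theorem f3018 : F [24,27,51,0] [0,5,7,24] := S.trans (f3017 S) (f1392 S)
theorem f3019 : F [0,5,7,24] [24,27,51,0] := S.mapC (f3018 S) [0,3,4,0,2,4,3,1,2,0,3,3,1,2,0,3,3,1,2,0,3,3,1,2,0,3,3,1,2,0,3,4,2,2,4,3,1,2,0,3,3,1,2,0,3,4,2,4,3,1,2,0,3,4,3,4,2,1,3,0,2,2,1,3,0,2,4,3,3,4,3,1,2,0,3,4,2,2,4,3,1,2,0,3,3,1,2,0,3,4,2,4,3,1,2,0,3,3,1,2,0,3,3,1,2,0,3,3,1,2,0,3,3,1,2,0,3,4,2,2,4,3,1,2,0,3,3,1,2,0,3,4,2] (by decide +kernel)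
theorem f3020 : F [24,27,51,0] [0,5,7,24] := S.symm (f3019 S)
theorem f3021 : F [0,5,7,24] [24,27,51,0] := S.symm (f3020 S)
theorem f3022 : F [0,5,7,24,0] [24,27,51,0,0] := S.appC (f3021 S) 0 (by decide +kernel)
theorem f3024 : F [3,47,21,0,0] [3,47,21,1] := S.pw0C [3,47,21] 1 1 (by decide +kernel)
theorem f3025 : F [0,5,7,24,24] [0,5,7,15] := S.mapC (f3024 S) [1,4,2,1] (by decide +kernel)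
theorem f3027 : F [17,5,110] [22,79,4] := S.mapC (f450 S) [3,1,1,4,2] (by decide +kernel)
theorem f3028 : F [17,5,110] [0,5,7] := S.trans (f3027 S) (f703 S)
theorem f3029 : F [0,5,7] [17,5,110] := S.mapC (f3028 S) [3,4,0,0,2,0,3,3,1,3,0,3,1,3,1,1,1,3,1,3,0,3,3,4,2,2,1,2,0,2,2,2,0,2,1,2,2,1,1,4,3,4,1,4,0,4,2,4,0,3,3,3,1,3,3,0,3,1,3,3,3,1,1,4,2,1,2,0,4,1,3,0,3,4,2,2,2,0,2,1,2,2,0,2,2,2,1,4,2,2,1,2,2,0,2,0,2,2,2,4,3,3,3,1,3,1,3,3,0,3,3,3,4,1,4,0,4,2,4] (by decide +kernel)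
theorem f3030 : F [17,5,110] [0,5,7] := S.symm (f3029 S)
theorem f3031 : F [0,5,7] [17,5,110] := S.symm (f3030 S)
theorem f3032 : F [0,5,7,15] [17,5,110,15] := S.appC (f3031 S) 15 (by decide +kernel)
theorem f3033 : F [17,5,110,15] [4,6,22] := S.mapC (f2506 S) [3,4,0,0,2,0,3,3,1,3,0,3,1,3,1,1,1,3,1,3,0,3,3,4,2,2,1,2,0,2,2,2,0,2,1,2,2,1,1,4,3,4,1,4,0,4,2,4,0,3,3,3,1,3,3,0,3,1,3,3,3,1,1,4,2,1,2,0,4,1,3,0,3,4,2,2,2,0,2,1,2,2,0,2,2,2,1,4,2,2,1,2,2,0,2,0,2,2,2,4,3,3,3,1,3,1,3,3,0,3,3,3,4,1,4,0,4,2,4] (by decide +kernel)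
theorem f3034 : F [0,5,7,15] [4,6,22] := S.trans (f3032 S) (f3033 S)
theorem f3035 : F [0,5,7,24,24] [4,6,22] := S.trans (f3025 S) (f3034 S)
theorem f3036 : F [24,27,51,0,0] [25,33,120] := S.mapC (f3035 S) [0,3,4,0,2,4,3,1,2,0,3,3,1,2,0,3,3,1,2,0,3,3,1,2,0,3,3,1,2,0,3,4,2,2,4,3,1,2,0,3,3,1,2,0,3,4,2,4,3,1,2,0,3,4,3,4,2,1,3,0,2,2,1,3,0,2,4,3,3,4,3,1,2,0,3,4,2,2,4,3,1,2,0,3,3,1,2,0,3,4,2,4,3,1,2,0,3,3,1,2,0,3,3,1,2,0,3,3,1,2,0,3,3,1,2,0,3,4,2,2,4,3,1,2,0,3,3,1,2,0,3,4,2] (by decide +kernel)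
theorem f3037 : F [0,5,7,24,0] [25,33,120] := S.trans (f3022 S) (f3036 S)
theorem f3039 : F [158,338,536,514] [531,206,136,21] := S.mapC (f1183 S) [3,4,2,1,3,0,2,2,1,3,0,2,4,3,3,4,2,1,3,0,2,4,3,4,2,1,3,0,2,2,1,3,0,2,4,3,3,4,3,1,2,0,3,4,2,2,4,3,1,2,0,3,3,1,2,0,3,4,2,4,2,1,3,0,2,2,1,3,0,2,2,1,3,0,2,4,3,4,2,1,3,0,2,2,1,3,0,2,4,3,3,4,2,1,3,0,2,4,2,2,4,3,1,2,0,3,3,1,2,0,3,4,2,4,2,1,3,0,2,4,3,4,2,1,3,0,2,2,1,3,0,2,4,3,3,4,2,1,3,0,2,2,1,3,0,2,2,1,3,0,2,2,1,3,0,2,2,1,3,0,2,4,2,1,4,3,3,1,4,2,4] (by decide +kernel)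
theorem f3040 : F [158,338,536,514] [0,5,7,24] := S.trans (f3039 S) (f1443 S)
theorem f3041 : F [0,5,7,24] [136,354,531,506] := S.mapC (f3040 S) [2,4,3,3,4,0,3,4,3,1,2,0,3,4,2,4,3,1,2,0,3,4,2,2,4,3,1,2,0,3,3,1,2,0,3,4,2,2,2,4,3,1,2,0,3,3,1,2,0,3,4,2,4,3,1,2,0,3,4,3,4,2,1,3,0,2,2,1,3,0,2,4,3,3,4,2,1,3,0,2,4,2,2,4,3,1,2,0,3,3,1,2,0,3,4,2,4,3,1,2,0,3,4,2,2,4,3,1,2,0,3,3,1,2,0,3,4,2,4,2,1,3,0,2,2,1,3,0,2,4,3,4,2,1,3,0,2,2,1,3,0,2,4,3,3,4,3,1,2,0,3,4,2,2,4,3,1,2,0,3,3,1,2,0,3,4,2,4,3,1,2,0,3,3,1,2,0,3,3,1,2,0,3,3,1,2,0,3,4,2,2,4,3,1,2,0,3,3,1,2,0,3,4,2,4,3,1,2,0,3,4,2,2,4,3,1,2,0,3,3,1,2,0,3,4,2] (by decide +kernel)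
theorem f3042 : F [136,354,531,506] [0,5,7,24] := S.symm (f3041 S)
theorem f3043 : F [0,5,7,24] [136,354,531,506] := S.symm (f3042 S)
theorem f3044 : F [0,5,7,24,98] [136,354,531,506,98] := S.appC (f3043 S) 98 (by decide +kernel)
theorem f3046 : F [7,39,810,0,3] [17,15,464,4] := S.rel0C [7,39,810] (by decide +kernel)
theorem f3047 : F [0,5,7,24,810] [110,72,17,25] := S.mapC (f3046 S) [3,4,3,1,3,0,3] (by decide +kernel)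
theorem f3049 : F [257,79,54] [0,5,7] := S.mapC (f450 S) [3,4,2,1,3,0,2,2,1,3,0,2,4,3,3,4,2,1,3,0,2,4,3,4,2,1,3,0,2,2,1,3,0,2,4,3,3,4,2,1,3,0,2,4,3,4,2,1,3,0,2,2,1,3,0,2,4,3,3,4,2,1,3,0,2,2,1,3,0,2,4,3,4,2,1,3,0,2,2,1,3,0,2,4,3,3,4,2,1,3,0,2,4,3,4,2,1,3,0,2,2,1,3,0,2,4,3,3,3,4,2,1,3,0,2,2,1,3,0,2,4,3,3,4,3,1,2,0,3,4,2,2,4,3,1,2,0,3,3,1,2,0,3,4,2] (by decide +kernel)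
theorem f3051 : F [0,5,7] [257,79,54] := S.symm (f3049 S)
theorem f3052 : F [0,5,7,807] [257,79,54,807] := S.appC (f3051 S) 807 (by decide +kernel)
theorem f3054 : F [110,72,17,25] [4,6,22,25] := S.mapC (f3052 S) [2,1,2,0,2,4,2,4,3,4,3,1,3,0,3] (by decide +kernel)
theorem f3055 : F [0,5,7,24,810] [4,6,22,25] := S.trans (f3047 S) (f3054 S)
theorem f3056 : F [136,354,531,506,98] [158,338,536,514] := S.mapC (f3055 S) [2,4,3,3,4,0,3,4,3,1,2,0,3,4,2,4,3,1,2,0,3,4,2,2,4,3,1,2,0,3,3,1,2,0,3,4,2,2,2,4,3,1,2,0,3,3,1,2,0,3,4,2,4,3,1,2,0,3,4,3,4,2,1,3,0,2,2,1,3,0,2,4,3,3,4,2,1,3,0,2,4,2,2,4,3,1,2,0,3,3,1,2,0,3,4,2,4,3,1,2,0,3,4,2,2,4,3,1,2,0,3,3,1,2,0,3,4,2,4,2,1,3,0,2,2,1,3,0,2,4,3,4,2,1,3,0,2,2,1,3,0,2,4,3,3,4,3,1,2,0,3,4,2,2,4,3,1,2,0,3,3,1,2,0,3,4,2,4,3,1,2,0,3,3,1,2,0,3,3,1,2,0,3,3,1,2,0,3,4,2,2,4,3,1,2,0,3,3,1,2,0,3,4,2,4,3,1,2,0,3,4,2,2,4,3,1,2,0,3,3,1,2,0,3,4,2]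 (by decide +kernel)
theorem f3057 : F [0,5,7,24,98] [158,338,536,514] := S.trans (f3044 S) (f3056 S)
theorem f3059 : F [0,27,21] [254,447,29] := S.mapC (f672 S) [4,2,4,3,4,0,0,2,4,3,1,2,0,3,4] (by decide +kernel)
theorem f3060 : F [254,447,29] [0,27,21] := S.symm (f3059 S)
theorem f3061 : F [0,27,21] [254,447,29] := S.symm (f3060 S)
theorem f3062 : F [0,27,21,0] [254,447,29,0] := S.appC (f3061 S) 0 (by decide +kernel)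
theorem f3067 : F [0,99,31] [11,778,142] := S.mapC (f1043 S) [2,4,3,1,2,0,3,4,3,3,4,3,1,2,0,3,3,1,2,0,3,3,1,2,0,3,4,2,2,4,3,1,2,0,3,3,1,2,0,3,4,2,4,3,1,2,0,3,3,1,2,0,3,3,1,2,0,3,4,3,4,2,1,3,0,2,2,1,3,0,2,4,3,3,4,2,1,3,0,2,4,2,2,4,3,1,2,0,3,3,1,2,0,3,4,2,4,3,1,2,0,3,4,2,2,4,3,1,2,0,3,3,1,2,0,3,4,2,4,3,1,2,0,3,4,2,2,4,3,1,2,0,3,3,1,2,0,3,4,2,4,3,1,2,0,3,4,2,2,4,3,1,2,0,3,3,1,2,0,3,4,2] (by decide +kernel)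
theorem f3068 : F [0,99,31,31] [11,778,142,31] := S.appC (f3067 S) 31 (by decide +kernel)
theorem f3069 : F [11,778,142,31] [0,99,31,31] := S.symm (f3068 S)
theorem f3070 : F [37,435,0,0] [37,435,1] := S.pw0C [37,435] 1 1 (by decide +kernel)
theorem f3071 : F [0,99,31,31] [0,99,56] := S.mapC (f3070 S) [0,4,3,4] (by decide +kernel)
theorem f3072 : F [11,778,142,31] [0,99,56] := S.trans (f3069 S) (f3071 S)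
theorem f3085 : F [0,99,56] [1242,147] := S.mapC (f2176 S) [3,4,2,1,3,0,2,2,1,3,0,2,4,3,3,4,2,1,3,0,2,2,1,3,0,2,4,3,4,2,1,3,0,2,2,1,3,0,2,4,3,3,4,2,1,3,0,2,4,3,4,2,1,3,0,2,2,1,3,0,2,4,3,3,3,4,2,1,3,0,2,2,1,3,0,2,4,3,3,4,3,1,2,0,3,4,2,2,4,3,1,2,0,3,3,1,2,0,3,4,2,4,2,1,3,0,2,4,3,4,2,1,3,0,2,2,1,3,0,2,4,3,3,3,4,2,1,3,0,2,2,1,3,0,2,4,3,3,4,2,1,3,0,2,2,1,3,0,2,4,2,4,2,1,3,0,2,2,1,3,0,2,4] (by decide +kernel)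
theorem f3086 : F [11,778,142,31] [1242,147] := S.trans (f3072 S) (f3085 S)
theorem f3087 : F [0,27,21,254] [18,189] := S.mapC (f3086 S) [2,4,1,3,4,3,1,2,0,3,3,1,2,0,3,4,2,4,3,1,2,0,3,3,1,2,0,3,4,2,4,3,1,2,0,3,4,2,2,4,3,1,2,0,3,3,1,2,0,3,4,2,4,2,1,3,0,2,4,2,2,4,3,1,2,0,3,3,1,2,0,3,4,2,4,3,1,2,0,3,4,2,2,4,3,1,2,0,3,3,1,2,0,3,4,2,4,3,1,2,0,3,3,1,2,0,3,4,2,2,4,3,1,2,0,3,3,1,2,0,3,4,2,4,2,1,3,0,2,2,1,3,0,2,4,3,4,2,1,3,0,2,2,1,3,0,2,4,3,3,4,3,1,2,0,3,4,2,2,4,3,1,2,0,3,3,1,2,0,3,4,2,4,3,1,2,0,3,3,1,2,0,3,3,1,2,0,3,3,1,2,0,3,4,2,2,4,3,1,2,0,3,3,1,2,0,3,4,2,4,3,1,2,0,3,4,2,2,4,3,1,2,0,3,3,1,2,0,3,4,2] (by decide +kernel)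
theorem f3088 : F [254,447,29,0] [31,365] := S.mapC (f3087 S) [4,2,4,3,4,0,0,2,4,3,1,2,0,3,4] (by decide +kernel)
theorem f3089 : F [0,27,21,0] [31,365] := S.trans (f3062 S) (f3088 S)
theorem f3091 : F [0,27,21] [254,447,29] := S.mapC (f672 S) [4,2,4,3,4,0,0,2,4,3,1,2,0,3,4] (by decide +kernel)
theorem f3092 : F [254,447,29] [0,27,21] := S.symm (f3091 S)
theorem f3093 : F [0,27,21] [254,447,29] := S.symm (f3092 S)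
theorem f3094 : F [0,27,21,1] [254,447,29,1] := S.appC (f3093 S) 1 (by decide +kernel)
theorem f3099 : F [0,99,31] [11,778,142] := S.mapC (f1043 S) [2,4,3,1,2,0,3,4,3,3,4,3,1,2,0,3,3,1,2,0,3,3,1,2,0,3,4,2,2,4,3,1,2,0,3,3,1,2,0,3,4,2,4,3,1,2,0,3,3,1,2,0,3,3,1,2,0,3,4,3,4,2,1,3,0,2,2,1,3,0,2,4,3,3,4,2,1,3,0,2,4,2,2,4,3,1,2,0,3,3,1,2,0,3,4,2,4,3,1,2,0,3,4,2,2,4,3,1,2,0,3,3,1,2,0,3,4,2,4,3,1,2,0,3,4,2,2,4,3,1,2,0,3,3,1,2,0,3,4,2,4,3,1,2,0,3,4,2,2,4,3,1,2,0,3,3,1,2,0,3,4,2] (by decide +kernel)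
theorem f3100 : F [0,99,31,56] [11,778,142,56] := S.appC (f3099 S) 56 (by decide +kernel)
theorem f3101 : F [11,778,142,56] [0,99,31,56] := S.symm (f3100 S)
theorem f3102 : F [37,435,0,1] [37,435,2] := S.pw0C [37,435] 1 2 (by decide +kernel)
theorem f3103 : F [0,99,31,56] [0,99,21] := S.mapC (f3102 S) [0,4,3,4] (by decide +kernel)
theorem f3104 : F [11,778,142,56] [0,99,21] := S.trans (f3101 S) (f3103 S)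
theorem f3110 : F [0,99,21] [303,778,863] := S.mapC (f1324 S) [2,2,4,3,1,2,0,3,3,1,2,0,3,4,2,4,3,1,2,0,3,3,1,2,0,3,3,1,2,0,3,4,2,2,4,3,1,2,0,3,3,1,2,0,3,4,2,4,3,1,2,0,3,4,3,4,2,1,3,0,2,2,1,3,0,2,4,3,3,4,3,1,2,0,3,4,2,2,4,3,1,2,0,3,3,1,2,0,3,4,2,4,3,1,2,0,3,3,1,2,0,3,3,1,2,0,3,3,1,2,0,3,4,2,2,4,3,1,2,0,3,3,1,2,0,3,4,2,4,3,1,2,0,3,4,2,2,4,3,1,2,0,3,3,1,2,0,3,4,2] (by decide +kernel)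
theorem f3111 : F [11,778,142,56] [303,778,863] := S.trans (f3104 S) (f3110 S)
theorem f3112 : F [0,27,21,162] [110,27,261] := S.mapC (f3111 S) [2,4,1,3,4,3,1,2,0,3,3,1,2,0,3,4,2,4,3,1,2,0,3,3,1,2,0,3,4,2,4,3,1,2,0,3,4,2,2,4,3,1,2,0,3,3,1,2,0,3,4,2,4,2,1,3,0,2,4,2,2,4,3,1,2,0,3,3,1,2,0,3,4,2,4,3,1,2,0,3,4,2,2,4,3,1,2,0,3,3,1,2,0,3,4,2,4,3,1,2,0,3,3,1,2,0,3,4,2,2,4,3,1,2,0,3,3,1,2,0,3,4,2,4,2,1,3,0,2,2,1,3,0,2,4,3,4,2,1,3,0,2,2,1,3,0,2,4,3,3,4,3,1,2,0,3,4,2,2,4,3,1,2,0,3,3,1,2,0,3,4,2,4,3,1,2,0,3,3,1,2,0,3,3,1,2,0,3,3,1,2,0,3,4,2,2,4,3,1,2,0,3,3,1,2,0,3,4,2,4,3,1,2,0,3,4,2,2,4,3,1,2,0,3,3,1,2,0,3,4,2] (by decide +kernel)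
theorem f3113 : F [254,447,29,1] [182,447,566] := S.mapC (f3112 S) [4,2,4,3,4,0,0,2,4,3,1,2,0,3,4] (by decide +kernel)
theorem f3114 : F [0,27,21,1] [182,447,566] := S.trans (f3094 S) (f3113 S)
theorem f3116 : F [54,2,21] [254,447,29] := S.mapC (f590 S) [4,2,1,3,0,2,4,3,1,1,4,2,4,3,4] (by decide +kernel)
theorem f3117 : F [54,2,21] [0,27,21] := S.trans (f3116 S) (f672 S)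
theorem f3118 : F [1111,696,914] [727,1274,914] := S.mapC (f3117 S) [3,4,2,1,3,0,2,2,1,3,0,2,4,3,3,4,2,1,3,0,2,4,3,4,2,1,3,0,2,2,1,3,0,2,4,3,3,3,4,2,1,3,0,2,2,1,3,0,2,4,3,3,4,3,1,2,0,3,4,2,2,4,3,1,2,0,3,3,1,2,0,3,4,2,4,2,1,3,0,2,2,1,3,0,2,2,1,3,0,2,4,3,4,2,1,3,0,2,2,1,3,0,2,4,3,3,4,2,1,3,0,2,4,2,2,4,3,1,2,0,3,3,1,2,0,3,4,2,4,3,1,2,0,3,3,1,2,0,3,4,3,4,2,1,3,0,2,2,1,3,0,2,4,3,3,4,2,1,3,0,2,2,1,3,0,2,4,3,4,2,1,3,0,2,2,1,3,0,2,4,3,3,3,4,2,1,3,0,2,2,1,3,0,2,4,3,3,4,2,1,3,0,2,4,2,4,2,1,3,0,2,4,2,4,2,1,3,0,2,2,1,3,0,3,3,4,3,0,2] (by decide +kernel)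
theorem f3119 : F [1111,696,914] [0,27,21] := S.trans (f3118 S) (f1129 S)
theorem f3120 : F [1137,978,1037] [350,142,29] := S.mapC (f3119 S) [3,4,2,1,3,0,2,2,1,3,0,2,4,3,3,4,2,1,3,0,2,2,1,3,0,2,2,1,3,0,2,2,1,3,0,2,2,1,3,0,2,4,3,4,2,1,3,0,2,2,1,3,0,2,4,3,3,4,2,1,3,0,2,4,2,2,4,3,1,2,0,3,3,1,2,0,3,4,2,4,2,1,3,0,2,4,3,4,2,1,3,0,2,2,1,3,0,2,4,3,3,4,2,1,3,0,2,2,1,3,0,2,2,1,3,0,2,2,1,3,0,2,2,1,3,0,2,4,3,4,2,1,3,0,2,4,2,1,4,3,3,4,2,4] (by decide +kernel)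
theorem f3121 : F [1137,978,1037] [0,27,21] := S.trans (f3120 S) (f619 S)
theorem f3122 : F [0,27,21] [337,1062,55] := S.mapC (f3121 S) [4,1,3,0,2,4,2,1,2,0,3,4,3,4,3,1,2,0,3,4,3,4,3,1,2,0,3,3,1,2,0,3,4,2,2,4,3,1,2,0,3,3,1,2,0,3,4,2,2,2,4,3,1,2,0,3,3,1,2,0,3,4,2,4,3,1,2,0,3,3,1,2,0,3,3,1,2,0,3,4,2,2,4,3,1,2,0,3,3,1,2,0,3,4,2,4,2,1,3,0,2,2,1,3,0,2,4,3,4,2,1,3,0,2,2,1,3,0,2,4,3,3,4,3,1,2,0,3,4,2,2,4,3,1,2,0,3,3,1,2,0,3,4,2,4,3,1,2,0,3,3,1,2,0,3,3,1,2,0,3,4] (by decide +kernel)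
theorem f3123 : F [337,1062,55] [0,27,21] := S.symm (f3122 S)
theorem f3124 : F [0,27,21] [337,1062,55] := S.symm (f3123 S)
theorem f3125 : F [0,27,21,8] [337,1062,55,8] := S.appC (f3124 S) 8 (by decide +kernel)
theorem f3130 : F [0,99,31] [11,778,142] := S.mapC (f1043 S) [2,4,3,1,2,0,3,4,3,3,4,3,1,2,0,3,3,1,2,0,3,3,1,2,0,3,4,2,2,4,3,1,2,0,3,3,1,2,0,3,4,2,4,3,1,2,0,3,3,1,2,0,3,3,1,2,0,3,4,3,4,2,1,3,0,2,2,1,3,0,2,4,3,3,4,2,1,3,0,2,4,2,2,4,3,1,2,0,3,3,1,2,0,3,4,2,4,3,1,2,0,3,4,2,2,4,3,1,2,0,3,3,1,2,0,3,4,2,4,3,1,2,0,3,4,2,2,4,3,1,2,0,3,3,1,2,0,3,4,2,4,3,1,2,0,3,4,2,2,4,3,1,2,0,3,3,1,2,0,3,4,2] (by decide +kernel)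
theorem f3131 : F [0,99,31,893] [11,778,142,893] := S.appC (f3130 S) 893 (by decide +kernel)
theorem f3132 : F [11,778,142,893] [0,99,31,893] := S.symm (f3131 S)
theorem f3133 : F [158,1301,0,3] [344,1250,4] := S.rel0C [158,1301] (by decide +kernel)
theorem f3134 : F [0,99,31,893] [454,111,35] := S.mapC (f3133 S) [1,3,3,1,3,1,4,3,4] (by decide +kernel)
theorem f3135 : F [11,778,142,893] [454,111,35] := S.trans (f3132 S) (f3134 S)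
theorem f3141 : F [99,0] [0,99] := S.mapC (f911 S) [3,4,2,1,3,0,2,2,1,3,0,2,4,3,3,4,2,1,3,0,2,4,3,4,2,1,3,0,2,2,1,3,0,2,4,3,3,4,2,1,3,0,2,4,3,4,2,1,3,0,2,2,1,3,0,2,4,3,3,4,2,1,3,0,2,2,1,3,0,2,4,3,4,2,1,3,0,2,2,1,3,0,2,4,3,3,4,2,1,3,0,2,4,3,4,2,1,3,0,2,2,1,3,0,2,4,3,3,4,3,1,2,0,3,4,2,2,4,3,1,2,0,3,3,1,2,0,3,4,2,4,2,1,3,0,2,2,1,3,0,2,2,1,3,0,2,4,3,4,2,1,3,0,2,2,1,3,0,2,4,3,3,4,2,1,3,0,2,4,2,2,4,3,1,2,0,3,3,1,2,0,3,4,2,4,3,1,2,0,3,3,1,2,0,3,4,3,4,2,1,3,0,2,2,1,3,0,2,4,3,3,4,2,1,3,0,2,2,1,3,0,2,4,3,4,2,1,3,0,2,2,1,3,0,2,4,3,3,4,2,1,3,0,2,2,1,3,0,2,2,1,3,0,2,2,1,3,0,2,4,3,4,2,1,3,0,2,2,1,3,0,2,4,3,3,4,2,1,3,0,2,2,1,3,0,2,2,1,3,0,2,2,1,3,0,2,4,3,3,3,4,2,1,3,0,2,2,1,3,0,2,2,1,3,0,2,2,1,3,0,2,4] (by decide +kernel)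
theorem f3144 : F [0,99] [99,0] := S.symm (f3141 S)
theorem f3145 : F [0,99,898] [99,0,898] := S.appC (f3144 S) 898 (by decide +kernel)
theorem f3146 : F [99,0,898] [485,316,894] := S.mapC (f1374 S) [3,4,2,1,3,0,2,2,1,3,0,2,4,3,3,4,2,1,3,0,2,4,3,4,2,1,3,0,2,2,1,3,0,2,4,3,3,4,2,1,3,0,2,2,1,3,0,2,2,1,3,0,2,2,1,3,0,2,4,3,4,2,1,3,0,2,2,1,3,0,2,4,3,3,4,2,1,3,0,2,4,2,2,4,3,1,2,0,3,3,1,2,0,3,4,2,4,2,1,3,0,2,4,3,4,2,1,3,0,2,2,1,3,0,2,4,3,3,4,2,1,3,0,2,4,2,2,4,3,1,2,0,3,3,1,2,0,3,4,2,4,3,1,2,0,3,4,3,4,2,1,3,0,2,2,1,3,0,2,4,3,3,4,2,1,3,0,2,2,1,3,0,2,2,1,3,0,2,4,3,4,2,1,3,0,2,2,1,3,0,2,2,1,3,0,2,4,3,3,3,4,2,4,2,4] (by decide +kernel)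
theorem f3147 : F [0,99,898] [485,316,894] := S.trans (f3145 S) (f3146 S)
theorem f3148 : F [454,111,35] [719,288,351] := S.mapC (f3147 S) [4,2,4,0,2,0,2,2,0,4,1,3,3,1,3,1,4,3,4] (by decide +kernel)
theorem f3149 : F [11,778,142,893] [719,288,351] := S.trans (f3135 S) (f3148 S)
theorem f3150 : F [0,27,21,340] [1229,392,979] := S.mapC (f3149 S) [2,4,1,3,4,3,1,2,0,3,3,1,2,0,3,4,2,4,3,1,2,0,3,3,1,2,0,3,4,2,4,3,1,2,0,3,4,2,2,4,3,1,2,0,3,3,1,2,0,3,4,2,4,2,1,3,0,2,4,2,2,4,3,1,2,0,3,3,1,2,0,3,4,2,4,3,1,2,0,3,4,2,2,4,3,1,2,0,3,3,1,2,0,3,4,2,4,3,1,2,0,3,3,1,2,0,3,4,2,2,4,3,1,2,0,3,3,1,2,0,3,4,2,4,2,1,3,0,2,2,1,3,0,2,4,3,4,2,1,3,0,2,2,1,3,0,2,4,3,3,4,3,1,2,0,3,4,2,2,4,3,1,2,0,3,3,1,2,0,3,4,2,4,3,1,2,0,3,3,1,2,0,3,3,1,2,0,3,3,1,2,0,3,4,2,2,4,3,1,2,0,3,3,1,2,0,3,4,2,4,3,1,2,0,3,4,2,2,4,3,1,2,0,3,3,1,2,0,3,4,2]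 (by decide +kernel)
theorem f3151 : F [337,1062,55,8] [22,47,33] := S.mapC (f3150 S) [4,1,3,0,2,4,2,1,2,0,3,4,3,4,3,1,2,0,3,4,3,4,3,1,2,0,3,3,1,2,0,3,4,2,2,4,3,1,2,0,3,3,1,2,0,3,4,2,2,2,4,3,1,2,0,3,3,1,2,0,3,4,2,4,3,1,2,0,3,3,1,2,0,3,3,1,2,0,3,4,2,2,4,3,1,2,0,3,3,1,2,0,3,4,2,4,2,1,3,0,2,2,1,3,0,2,4,3,4,2,1,3,0,2,2,1,3,0,2,4,3,3,4,3,1,2,0,3,4,2,2,4,3,1,2,0,3,3,1,2,0,3,4,2,4,3,1,2,0,3,3,1,2,0,3,3,1,2,0,3,4] (by decide +kernel)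
theorem f3152 : F [0,27,21,8] [22,47,33] := S.trans (f3125 S) (f3151 S)
theorem f3154 : F [479,910,285] [254,447,29] := S.mapC (f1129 S) [4,2,1,3,0,2,4,3,1,1,4,2,4,3,4] (by decide +kernel)
theorem f3155 : F [479,910,285] [0,27,21] := S.trans (f3154 S) (f672 S)
theorem f3156 : F [376,1281,741] [727,1274,914] := S.mapC (f3155 S) [3,4,2,1,3,0,2,2,1,3,0,2,4,3,3,4,2,1,3,0,2,4,3,4,2,1,3,0,2,2,1,3,0,2,4,3,3,3,4,2,1,3,0,2,2,1,3,0,2,4,3,3,4,3,1,2,0,3,4,2,2,4,3,1,2,0,3,3,1,2,0,3,4,2,4,2,1,3,0,2,2,1,3,0,2,2,1,3,0,2,4,3,4,2,1,3,0,2,2,1,3,0,2,4,3,3,4,2,1,3,0,2,4,2,2,4,3,1,2,0,3,3,1,2,0,3,4,2,4,3,1,2,0,3,3,1,2,0,3,4,3,4,2,1,3,0,2,2,1,3,0,2,4,3,3,4,2,1,3,0,2,2,1,3,0,2,4,3,4,2,1,3,0,2,2,1,3,0,2,4,3,3,3,4,2,1,3,0,2,2,1,3,0,2,4,3,3,4,2,1,3,0,2,4,2,4,2,1,3,0,2,4,2,4,2,1,3,0,2,2,1,3,0,3,3,4,3,0,2]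 (by decide +kernel)
theorem f3157 : F [376,1281,741] [0,27,21] := S.trans (f3156 S) (f1129 S)
theorem f3158 : F [586,745,194] [77,233,168] := S.mapC (f3157 S) [3,4,2,1,3,0,2,2,1,3,0,2,4,3,3,4,2,1,3,0,2,4,3,4,2,1,3,0,2,2,1,3,0,2,4,3,3,3,4,2,1,3,0,2,2,1,3,0,2,4,3,3,4,3,1,2,0,3,4,2,2,4,3,1,2,0,3,3,1,2,0,3,4,3,4,2,1,3,0,2,4,1,4,2,4,3] (by decide +kernel)
theorem f3159 : F [586,745,194] [0,27,21] := S.trans (f3158 S) (f1067 S)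
theorem f3160 : F [0,27,21] [500,106,1141] := S.mapC (f3159 S) [2,4,3,4,2,2,4,0,2,4,3,1,2,0,3,3,1,2,0,3,4,2,2,2,2,2,4,3,1,2,0,3,3,1,2,0,3,4,2,4,3,1,2,0,3,3,1,2,0,3,3,1,2,0,3,3,1,2,0,3,4,2,2,4,3,1,2,0,3,3,1,2,0,3,4,2,4,2,1,3,0,2,2,1,3,0,2,4,3,4,2,1,3,0,2,2,1,3,0,2,4,3,3,4,3,1,2,0,3,4,2,2,4,3,1,2,0,3,3,1,2,0,3,4,2,4,3,1,2,0,3,3,1,2,0,3,3,1,2,0,3,3,1,2,0,3,3,1,2,0,3,4,2,2,4,3,1,2,0,3,3,1,2,0,3,4,2,4,2,1,3,0,2,2,1,3,0,2,4,3,4,2,1,3,0,2,2,1,3,0,2,4,3,3,4,3,1,2,0,3,4,2,2,4,3,1,2,0,3,3,1,2,0,3,4,2,4,3,1,2,0,3,3,1,2,0,3,3,1,2,0,3,3,1,2,0,3,4,2,2,4,3,1,2,0,3,3,1,2,0,3,4,2,4,3,1,2,0,3,4,2,2,4,3,1,2,0,3,3,1,2,0,3,4,2] (by decide +kernel)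
theorem f3161 : F [500,106,1141] [0,27,21] := S.symm (f3160 S)
theorem f3162 : F [0,27,21] [500,106,1141] := S.symm (f3161 S)
theorem f3163 : F [0,27,21,11] [500,106,1141,11] := S.appC (f3162 S) 11 (by decide +kernel)
theorem f3168 : F [0,99,31] [11,778,142] := S.mapC (f1043 S) [2,4,3,1,2,0,3,4,3,3,4,3,1,2,0,3,3,1,2,0,3,3,1,2,0,3,4,2,2,4,3,1,2,0,3,3,1,2,0,3,4,2,4,3,1,2,0,3,3,1,2,0,3,3,1,2,0,3,4,3,4,2,1,3,0,2,2,1,3,0,2,4,3,3,4,2,1,3,0,2,4,2,2,4,3,1,2,0,3,3,1,2,0,3,4,2,4,3,1,2,0,3,4,2,2,4,3,1,2,0,3,3,1,2,0,3,4,2,4,3,1,2,0,3,4,2,2,4,3,1,2,0,3,3,1,2,0,3,4,2,4,3,1,2,0,3,4,2,2,4,3,1,2,0,3,3,1,2,0,3,4,2] (by decide +kernel)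
theorem f3169 : F [0,99,31,787] [11,778,142,787] := S.appC (f3168 S) 787 (by decide +kernel)
theorem f3170 : F [11,778,142,787] [0,99,31,787] := S.symm (f3169 S)
theorem f3171 : F [157,557,0,3] [342,938,4] := S.rel0C [157,557] (by decide +kernel)
theorem f3172 : F [0,99,31,787] [85,547,35] := S.mapC (f3171 S) [3,4,3,1,3,1,2,0,4] (by decide +kernel)
theorem f3173 : F [11,778,142,787] [85,547,35] := S.trans (f3170 S) (f3172 S)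
theorem f3182 : F [0,99] [99,0] := S.symm (f911 S)
theorem f3183 : F [0,99,786] [99,0,786] := S.appC (f3182 S) 786 (by decide +kernel)
theorem f3184 : F [99,0,786] [586,526,470] := S.mapC (f1324 S) [3,4,2,1,3,0,2,2,1,3,0,2,4,3,3,4,2,1,3,0,2,4,3,4,2,1,3,0,2,2,1,3,0,2,4,3,3,4,2,1,3,0,2,2,1,3,0,2,2,1,3,0,2,2,1,3,0,2,4,3,4,2,1,3,0,2,2,1,3,0,2,4,3,3,4,2,1,3,0,2,4,2,2,4,3,1,2,0,3,3,1,2,0,3,4,2,4,3,1,2,0,3,3,1,2,0,3,4,3,4,2,1,3,0,2,2,1,3,0,2,4,3,3,4,2,1,3,0,2,2,1,3,0,2,2,1,3,0,2,2,1,3,0,2,2,1,3,0,2,4,3,4,2,1,3,0,2,2,1,3,0,2,4,3,3,4,2,1,3,0,2,4,2,2,4,3,1,2,0,3,3,1,2,0,3,4,2,4,3,1,2,0,3,3,1,2,0,3,4,3,4,2,1,3,0,2,2,1,3,0,2,4,3,3,3,4,2,1,3,0,2,2,1,3,0,2,4,3,3,4,2,1,3,0,2,4,3,4,2,1,3,0,2,2,1,3,0,2,4,3,3,3,3,3,4,2,1,3,0,2,2,1,3,0,2,4,2,2,4,2,1,3,0,2,2,4,2,4]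 (by decide +kernel)
theorem f3185 : F [0,99,786] [586,526,470] := S.trans (f3183 S) (f3184 S)
theorem f3186 : F [85,547,35] [1361,853,963] := S.mapC (f3185 S) [4,1,3,0,2,0,2,4,2,4,3,4,3,1,3,1,2,0,4] (by decide +kernel)
theorem f3187 : F [11,778,142,787] [1361,853,963] := S.trans (f3173 S) (f3186 S)
theorem f3188 : F [0,27,21,1329] [628,262,1074] := S.mapC (f3187 S) [2,4,1,3,4,3,1,2,0,3,3,1,2,0,3,4,2,4,3,1,2,0,3,3,1,2,0,3,4,2,4,3,1,2,0,3,4,2,2,4,3,1,2,0,3,3,1,2,0,3,4,2,4,2,1,3,0,2,4,2,2,4,3,1,2,0,3,3,1,2,0,3,4,2,4,3,1,2,0,3,4,2,2,4,3,1,2,0,3,3,1,2,0,3,4,2,4,3,1,2,0,3,3,1,2,0,3,4,2,2,4,3,1,2,0,3,3,1,2,0,3,4,2,4,2,1,3,0,2,2,1,3,0,2,4,3,4,2,1,3,0,2,2,1,3,0,2,4,3,3,4,3,1,2,0,3,4,2,2,4,3,1,2,0,3,3,1,2,0,3,4,2,4,3,1,2,0,3,3,1,2,0,3,3,1,2,0,3,3,1,2,0,3,4,2,2,4,3,1,2,0,3,3,1,2,0,3,4,2,4,3,1,2,0,3,4,2,2,4,3,1,2,0,3,3,1,2,0,3,4,2]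 (by decide +kernel)
theorem f3189 : F [500,106,1141,11] [301,513,367] := S.mapC (f3188 S) [2,4,3,4,2,2,4,0,2,4,3,1,2,0,3,3,1,2,0,3,4,2,2,2,2,2,4,3,1,2,0,3,3,1,2,0,3,4,2,4,3,1,2,0,3,3,1,2,0,3,3,1,2,0,3,3,1,2,0,3,4,2,2,4,3,1,2,0,3,3,1,2,0,3,4,2,4,2,1,3,0,2,2,1,3,0,2,4,3,4,2,1,3,0,2,2,1,3,0,2,4,3,3,4,3,1,2,0,3,4,2,2,4,3,1,2,0,3,3,1,2,0,3,4,2,4,3,1,2,0,3,3,1,2,0,3,3,1,2,0,3,3,1,2,0,3,3,1,2,0,3,4,2,2,4,3,1,2,0,3,3,1,2,0,3,4,2,4,2,1,3,0,2,2,1,3,0,2,4,3,4,2,1,3,0,2,2,1,3,0,2,4,3,3,4,3,1,2,0,3,4,2,2,4,3,1,2,0,3,3,1,2,0,3,4,2,4,3,1,2,0,3,3,1,2,0,3,3,1,2,0,3,3,1,2,0,3,4,2,2,4,3,1,2,0,3,3,1,2,0,3,4,2,4,3,1,2,0,3,4,2,2,4,3,1,2,0,3,3,1,2,0,3,4,2] (by decide +kernel)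
theorem f3190 : F [0,27,21,11] [301,513,367] := S.trans (f3163 S) (f3189 S)
theorem f3192 : F [105,1024,150] [727,1274,914] := S.mapC (f1129 S) [3,4,2,1,3,0,2,2,1,3,0,2,4,3,3,4,2,1,3,0,2,4,3,4,2,1,3,0,2,2,1,3,0,2,4,3,3,3,4,2,1,3,0,2,2,1,3,0,2,4,3,3,4,3,1,2,0,3,4,2,2,4,3,1,2,0,3,3,1,2,0,3,4,2,4,2,1,3,0,2,2,1,3,0,2,2,1,3,0,2,4,3,4,2,1,3,0,2,2,1,3,0,2,4,3,3,4,2,1,3,0,2,4,2,2,4,3,1,2,0,3,3,1,2,0,3,4,2,4,3,1,2,0,3,3,1,2,0,3,4,3,4,2,1,3,0,2,2,1,3,0,2,4,3,3,4,2,1,3,0,2,2,1,3,0,2,4,3,4,2,1,3,0,2,2,1,3,0,2,4,3,3,3,4,2,1,3,0,2,2,1,3,0,2,4,3,3,4,2,1,3,0,2,4,2,4,2,1,3,0,2,4,2,4,2,1,3,0,2,2,1,3,0,3,3,4,3,0,2] (by decide +kernel)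
theorem f3193 : F [105,1024,150] [0,27,21] := S.trans (f3192 S) (f1129 S)
theorem f3194 : F [227,450,1355] [350,142,29] := S.mapC (f3193 S) [3,4,2,1,3,0,2,2,1,3,0,2,4,3,3,4,2,1,3,0,2,2,1,3,0,2,2,1,3,0,2,2,1,3,0,2,2,1,3,0,2,4,3,4,2,1,3,0,2,2,1,3,0,2,4,3,3,4,2,1,3,0,2,4,2,2,4,3,1,2,0,3,3,1,2,0,3,4,2,4,2,1,3,0,2,4,3,4,2,1,3,0,2,2,1,3,0,2,4,3,3,4,2,1,3,0,2,2,1,3,0,2,2,1,3,0,2,2,1,3,0,2,2,1,3,0,2,4,3,4,2,1,3,0,2,4,2,1,4,3,3,4,2,4] (by decide +kernel)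
theorem f3195 : F [227,450,1355] [0,27,21] := S.trans (f3194 S) (f619 S)

end Cfsg.Agent.Lib.TC.D.HND.Fa
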