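import Cfsg.Agent.Lib.TC.D.HND.Sys
import Cfsg.Agent.Lib.TC.D.HND.F8

namespace Cfsg.Agent.Lib.TC.D.HND.Fa

open Cfsg.Agent.Lib.TC.D.HND.Sys

set_option maxRecDepth 100000

variable {F : List Nat → List Nat → Prop} (S : Sys F)

include S

theorem f4604 : F [17,5,110] [257,79,54] := S.mapC (f703 S) [0,3,3,1,3,0,3,1,3,1,1,1,3,1,3,0,3,3,4,2,2,1,2,0,2,2,2,0,2,1,2,2,1,1,4,3,4,1,4,0,4,2,4,0,3,3,3,1,3,3,0,3,1,3,3,3,1,1,4,2,1,2,0,4,1,3,0,3,4,2,2,2,0,2,1,2,2,0,2,2,2,1,4,2,2,1,2,2,0,2,0,2,2,2,4,3,3,3,1,3,1,3,3,0,3,3,3,4,1,4,0,4,2,4] (by decide +kernel)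
theorem f4605 : F [17,5,110] [0,5,7] := S.trans (f4604 S) (f4603 S)
theorem f4606 : F [257,79,54] [0,5,7] := S.mapC (f450 S) [3,4,2,1,3,0,2,2,1,3,0,2,4,3,3,4,2,1,3,0,2,4,3,4,2,1,3,0,2,2,1,3,0,2,4,3,3,4,2,1,3,0,2,4,3,4,2,1,3,0,2,2,1,3,0,2,4,3,3,4,2,1,3,0,2,2,1,3,0,2,4,3,4,2,1,3,0,2,2,1,3,0,2,4,3,3,4,2,1,3,0,2,4,3,4,2,1,3,0,2,2,1,3,0,2,4,3,3,3,4,2,1,3,0,2,2,1,3,0,2,4,3,3,4,3,1,2,0,3,4,2,2,4,3,1,2,0,3,3,1,2,0,3,4,2] (by decide +kernel)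
theorem f4607 : F [0,5,7] [257,79,54] := S.mapC (f450 S) [0,3,3,1,3,0,3,1,3,1,1,1,3,1,3,0,3,3,4,2,2,1,2,0,2,2,2,0,2,1,2,2,1,1,4,3,4,1,4,0,4,2,4,0,3,3,3,1,3,3,0,3,1,3,3,3,1,1,4,2,1,2,0,4,1,3,0,3,4,2,2,2,0,2,1,2,2,0,2,2,2,1,4,2,2,1,2,2,0,2,0,2,2,2,4,3,3,3,1,3,1,3,3,0,3,3,3,4,1,4,0,4,2,4] (by decide +kernel)
theorem f4608 : F [257,79,54] [0,5,7] := S.symm (f4607 S)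
theorem f4609 : F [0,5,7] [257,79,54] := S.mapC (f4606 S) [0,3,3,1,3,0,3,1,3,1,1,1,3,1,3,0,3,3,4,2,2,1,2,0,2,2,2,0,2,1,2,2,1,1,4,3,4,1,4,0,4,2,4,0,3,3,3,1,3,3,0,3,1,3,3,3,1,1,4,2,1,2,0,4,1,3,0,3,4,2,2,2,0,2,1,2,2,0,2,2,2,1,4,2,2,1,2,2,0,2,0,2,2,2,4,3,3,3,1,3,1,3,3,0,3,3,3,4,1,4,0,4,2,4] (by decide +kernel)
theorem f4610 : F [0,5,7] [0,5,7] := S.trans (f4609 S) (f4608 S)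
theorem f4621 : F [0,5,7] [0,5,7] := S.mapC (f4592 S) [4,2,1,3,0,2,2,1,3,0,2,4,3,4,2,1,3,0,2,2,1,3,0,2,4,3,3,4,3,1,2,0,3,4,2,2,4,3,1,2,0,3,3,1,2,0,3,4,2,4,3,1,2,0,3,3,1,2,0,3,3,1,2,0,3,4] (by decide +kernel)
theorem f4628 : F [0,5,7] [0,5,7] := S.mapC (f4621 S) [3,4,2,1,3,0,2,2,1,3,0,2,4,3,3,4,2,1,3,0,2,4,2,2,4,3,1,2,0,3,3,1,2,0,3,4,2,4,3,1,2,0,3,4,2,2,4,3,1,2,0,3,3,1,2,0,3,4,2] (by decide +kernel)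
theorem f4658 : F [260,338,29,514] [531,206,136,21] := S.mapC (f1207 S) [3,4,2,1,3,0,2,2,1,3,0,2,4,3,3,4,2,1,3,0,2,4,3,4,2,1,3,0,2,2,1,3,0,2,4,3,3,4,3,1,2,0,3,4,2,2,4,3,1,2,0,3,3,1,2,0,3,4,2,4,2,1,3,0,2,2,1,3,0,2,2,1,3,0,2,4,3,4,2,1,3,0,2,2,1,3,0,2,4,3,3,4,2,1,3,0,2,4,2,2,4,3,1,2,0,3,3,1,2,0,3,4,2,4,2,1,3,0,2,4,3,4,2,1,3,0,2,2,1,3,0,2,4,3,3,4,2,1,3,0,2,2,1,3,0,2,2,1,3,0,2,2,1,3,0,2,2,1,3,0,2,4,2,1,4,3,3,1,4,2,4] (by decide +kernel)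
theorem f4659 : F [260,338,29,514] [0,5,7,24] := S.trans (f4658 S) (f1443 S)
theorem f4664 : F [51,151,24,7] [9,33,60,4] := S.mapC (f1227 S) [3,4,2,1,3,0,2,2,1,3,0,2,4,3,3,4,2,1,3,0,2,2,1,3,0,2,4,3,4,2,1,3,0,2,2,1,3,0,2,4,3,3,4,2,1,3,0,2,4,3,4,2,1,3,0,2,2,1,3,0,2,4,3,3,3,4,2,1,3,0,2,2,1,3,0,2,4,3,1,1,4] (by decide +kernel)
theorem f4665 : F [51,151,24,7] [0,5,7,24] := S.trans (f4664 S) (f1296 S)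
theorem f4666 : F [151,58,33,79] [1,3,12,14] := S.mapC (f1227 S) [4,2,1,3,0,2,2,1,3,0,2,2,1,3,0,2,4,3,4,2,1,3,0,2,2,1,3,0,2,4,3,3,4,2,1,3,0,2,4,2,2,4,3,1,2,0,3,3,1,2,0,3,4,2,4,2,1,3,0,2,4,3,4,2,1,3,0,2,2,1,3,0,2,4,3,3,4,2,1,3,0,2,2,1,3,0,2,2,1,3,0,2,2,1,3,0,2,2,1,3,0,2,4,0] (by decide +kernel)
theorem f4667 : F [151,58,33,79] [0,5,7,24] := S.trans (f4666 S) (f1392 S)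
theorem f4674 : F [5,17,37,2] [1,3,12,14] := S.mapC (f1296 S) [4,2,1,3,0,2,2,1,3,0,2,2,1,3,0,2,4,3,4,2,1,3,0,2,2,1,3,0,2,4,3,3,4,2,1,3,0,2,4,2,2,4,3,1,2,0,3,3,1,2,0,3,4,2,4,2,1,3,0,2,4,3,4,2,1,3,0,2,2,1,3,0,2,4,3,3,4,2,1,3,0,2,2,1,3,0,2,2,1,3,0,2,2,1,3,0,2,2,1,3,0,2,4,0] (by decide +kernel)
theorem f4675 : F [5,17,37,2] [0,5,7,24] := S.trans (f4674 S) (f1392 S)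
theorem f4702 : F [187,428,142,344] [257,37,54,120] := S.mapC (f1490 S) [3,4,2,1,3,0,2,2,1,3,0,2,4,3,3,4,2,1,3,0,2,2,1,3,0,2,4,3,4,2,1,3,0,2,2,1,3,0,2,4,3,3,4,2,1,3,0,2,4,3,4,2,1,3,0,2,2,1,3,0,2,4,3,3,4,3,1,2,0,3,4,2,2,4,3,1,2,0,3,4,1,1,4,3,4,2,4] (by decide +kernel)
theorem f4703 : F [187,428,142,344] [0,5,7,24] := S.trans (f4702 S) (f1227 S)
theorem f4704 : F [45,365,130,8] [9,33,60,4] := S.mapC (f1490 S) [3,4,2,1,3,0,2,2,1,3,0,2,4,3,3,4,2,1,3,0,2,2,1,3,0,2,4,3,4,2,1,3,0,2,2,1,3,0,2,4,3,3,4,2,1,3,0,2,4,3,4,2,1,3,0,2,2,1,3,0,2,4,3,3,3,4,2,1,3,0,2,2,1,3,0,2,4,3,1,1,4] (by decide +kernel)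
theorem f4705 : F [45,365,130,8] [0,5,7,24] := S.trans (f4704 S) (f1296 S)
theorem f4779 : F [173,171,256,64] [531,206,136,21] := S.mapC (f4659 S) [3,4,2,1,3,0,2,2,1,3,0,2,4,3,3,4,2,1,3,0,2,4,3,4,2,1,3,0,2,2,1,3,0,2,4,3,3,4,3,1,2,0,3,4,2,2,4,3,1,2,0,3,3,1,2,0,3,4,2,4,2,1,3,0,2,2,1,3,0,2,2,1,3,0,2,4,3,4,2,1,3,0,2,2,1,3,0,2,4,3,3,4,2,1,3,0,2,4,2,2,4,3,1,2,0,3,3,1,2,0,3,4,2,4,2,1,3,0,2,4,3,4,2,1,3,0,2,2,1,3,0,2,4,3,3,4,2,1,3,0,2,2,1,3,0,2,2,1,3,0,2,2,1,3,0,2,2,1,3,0,2,4,2,1,4,3,3,1,4,2,4] (by decide +kernel)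
theorem f4780 : F [173,171,256,64] [0,5,7,24] := S.trans (f4779 S) (f1443 S)
theorem f4797 : F [184,86,505,447] [11,45,201,108] := S.mapC (f4667 S) [3,4,2,1,3,0,2,2,1,3,0,2,4,3,3,4,2,1,3,0,2,4,3,4,2,1,3,0,2,2,1,3,0,2,4,3,3,4,2,1,3,0,2,2,1,3,0,2,2,1,3,0,2,2,1,3,0,2,4,3,4,2,1,3,0,2,2,1,3,0,2,4,3,3,4,2,1,3,0,2,4,2,2,4,3,1,2,0,3,3,1,2,0,3,4,2,4,3,1,2,0,3,4,3,4,2,1,3,0,2,2,1,3,0,2,4,3,3,4,2,1,3,0,2,2,1,3,0,2,2,1,3,0,2,4,3,4,2,1,3,0,2,2,1,3,0,2,4,3,3,4,2,1,3,0,2,4,3,4,2,1,3,0,2,4,0,4,3] (by decide +kernel)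
theorem f4798 : F [184,86,505,447] [0,5,7,24] := S.trans (f4797 S) (f1490 S)
theorem f4843 : F [1279,1009,1239,229] [11,45,201,108] := S.mapC (f4705 S) [3,4,2,1,3,0,2,2,1,3,0,2,4,3,3,4,2,1,3,0,2,4,3,4,2,1,3,0,2,2,1,3,0,2,4,3,3,4,2,1,3,0,2,2,1,3,0,2,2,1,3,0,2,2,1,3,0,2,4,3,4,2,1,3,0,2,2,1,3,0,2,4,3,3,4,2,1,3,0,2,4,2,2,4,3,1,2,0,3,3,1,2,0,3,4,2,4,3,1,2,0,3,4,3,4,2,1,3,0,2,2,1,3,0,2,4,3,3,4,2,1,3,0,2,2,1,3,0,2,2,1,3,0,2,4,3,4,2,1,3,0,2,2,1,3,0,2,4,3,3,4,2,1,3,0,2,4,3,4,2,1,3,0,2,4,0,4,3] (by decide +kernel)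
theorem f4844 : F [1279,1009,1239,229] [0,5,7,24] := S.trans (f4843 S) (f1490 S)
theorem f4869 : F [4,6,22,25] [1,3,12,14] := S.mapC (f1392 S) [4,2,1,3,0,2,2,1,3,0,2,2,1,3,0,2,4,3,4,2,1,3,0,2,2,1,3,0,2,4,3,3,4,2,1,3,0,2,4,2,2,4,3,1,2,0,3,3,1,2,0,3,4,2,4,2,1,3,0,2,4,3,4,2,1,3,0,2,2,1,3,0,2,4,3,3,4,2,1,3,0,2,2,1,3,0,2,2,1,3,0,2,2,1,3,0,2,2,1,3,0,2,4,0] (by decide +kernel)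
theorem f4870 : F [4,6,22,25] [0,5,7,24] := S.trans (f4869 S) (f1392 S)
theorem f4871 : F [0,5,7,24] [51,151,24,7] := S.mapC (f4665 S) [3,4,2,4,2,4,3,1,2,0,3,3,1,2,0,3,4,2,4,3,1,2,0,3,4,2,2,4,3,1,2,0,3,3,1,2,0,3,4,2] (by decide +kernel)
theorem f4872 : F [51,151,24,7] [0,5,7,24] := S.symm (f4871 S)
theorem f4873 : F [120,165,25,22] [51,151,24,7] := S.mapC (f4870 S) [3,4,2,4,2,4,3,1,2,0,3,3,1,2,0,3,4,2,4,3,1,2,0,3,4,2,2,4,3,1,2,0,3,3,1,2,0,3,4,2] (by decide +kernel)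
theorem f4874 : F [120,165,25,22] [0,5,7,24] := S.trans (f4873 S) (f4872 S)
theorem f4875 : F [858,280,905,1114] [11,45,201,108] := S.mapC (f4703 S) [3,4,2,1,3,0,2,2,1,3,0,2,4,3,3,4,2,1,3,0,2,4,3,4,2,1,3,0,2,2,1,3,0,2,4,3,3,4,2,1,3,0,2,2,1,3,0,2,2,1,3,0,2,2,1,3,0,2,4,3,4,2,1,3,0,2,2,1,3,0,2,4,3,3,4,2,1,3,0,2,4,2,2,4,3,1,2,0,3,3,1,2,0,3,4,2,4,3,1,2,0,3,4,3,4,2,1,3,0,2,2,1,3,0,2,4,3,3,4,2,1,3,0,2,2,1,3,0,2,2,1,3,0,2,4,3,4,2,1,3,0,2,2,1,3,0,2,4,3,3,4,2,1,3,0,2,4,3,4,2,1,3,0,2,4,0,4,3] (by decide +kernel)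
theorem f4876 : F [858,280,905,1114] [0,5,7,24] := S.trans (f4875 S) (f1490 S)
theorem f4877 : F [0,5,7,24] [386,298,250,31] := S.mapC (f4780 S) [4,3,4,1,3,4,2,2,4,3,1,2,0,3,4,2,4,3,1,2,0,3,3,1,2,0,3,4,2,4,3,1,2,0,3,4,2,2,4,3,1,2,0,3,3,1,2,0,3,4,2,4,3,1,2,0,3,4,2,2,4,3,1,2,0,3,3,1,2,0,3,4,2] (by decide +kernel)
theorem f4878 : F [386,298,250,31] [0,5,7,24] := S.symm (f4877 S)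
theorem f4879 : F [577,578,132,418] [386,298,250,31] := S.mapC (f4876 S) [4,3,4,1,3,4,2,2,4,3,1,2,0,3,4,2,4,3,1,2,0,3,3,1,2,0,3,4,2,4,3,1,2,0,3,4,2,2,4,3,1,2,0,3,3,1,2,0,3,4,2,4,3,1,2,0,3,4,2,2,4,3,1,2,0,3,3,1,2,0,3,4,2] (by decide +kernel)
theorem f4880 : F [577,578,132,418] [0,5,7,24] := S.trans (f4879 S) (f4878 S)
theorem f4881 : F [165,60,27,72] [257,37,54,120] := S.mapC (f1392 S) [3,4,2,1,3,0,2,2,1,3,0,2,4,3,3,4,2,1,3,0,2,2,1,3,0,2,4,3,4,2,1,3,0,2,2,1,3,0,2,4,3,3,4,2,1,3,0,2,4,3,4,2,1,3,0,2,2,1,3,0,2,4,3,3,4,3,1,2,0,3,4,2,2,4,3,1,2,0,3,4,1,1,4,3,4,2,4] (by decide +kernel)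
theorem f4882 : F [165,60,27,72] [0,5,7,24] := S.trans (f4881 S) (f1227 S)
theorem f4883 : F [0,5,7,24] [15,0,79,33] := S.mapC (f4675 S) [4,1,4,3,1,2,0,3,4,2,4,3,1,2,0,3,3,1,2,0,3,3,1,2,0,3,3,1,2,0,3,4,2,2,4,3,1,2,0,3,3,1,2,0,3,4,2,4,3,1,2,0,3,3,1,2,0,3,4,3,4,2,1,3,0,2,2,1,3,0,2,4,3,3,4,2,1,3,0,2,4,2,2,4,3,1,2,0,3,3,1,2,0,3,4,2,4,3,1,2,0,3,4,2,2,4,3,1,2,0,3,3,1,2,0,3,4,2,4,3,1,2,0,3,3,1,2,0,3,4,2,2,4,3,1,2,0,3,3,1,2,0,3,4,2,4,2,1,3,0,2,2,1,3,0,2,4,3,4,2,1,3,0,2,2,1,3,0,2,4,3,3,4,3,1,2,0,3,4,2,2,4,3,1,2,0,3,3,1,2,0,3,4,2,4,3,1,2,0,3,3,1,2,0,3,3,1,2,0,3,3,1,2,0,3,4,2,2,4,3,1,2,0,3,3,1,2,0,3,4,2,4,3,1,2,0,3,4,2,2,4,3,1,2,0,3,3,1,2,0,3,4,2] (by decide +kernel)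
theorem f4884 : F [15,0,79,33] [0,5,7,24] := S.symm (f4883 S)
theorem f4885 : F [60,12,9,257] [15,0,79,33] := S.mapC (f4882 S) [4,1,4,3,1,2,0,3,4,2,4,3,1,2,0,3,3,1,2,0,3,3,1,2,0,3,3,1,2,0,3,4,2,2,4,3,1,2,0,3,3,1,2,0,3,4,2,4,3,1,2,0,3,3,1,2,0,3,4,3,4,2,1,3,0,2,2,1,3,0,2,4,3,3,4,2,1,3,0,2,4,2,2,4,3,1,2,0,3,3,1,2,0,3,4,2,4,3,1,2,0,3,4,2,2,4,3,1,2,0,3,3,1,2,0,3,4,2,4,3,1,2,0,3,3,1,2,0,3,4,2,2,4,3,1,2,0,3,3,1,2,0,3,4,2,4,2,1,3,0,2,2,1,3,0,2,4,3,4,2,1,3,0,2,2,1,3,0,2,4,3,3,4,3,1,2,0,3,4,2,2,4,3,1,2,0,3,3,1,2,0,3,4,2,4,3,1,2,0,3,3,1,2,0,3,3,1,2,0,3,3,1,2,0,3,4,2,2,4,3,1,2,0,3,3,1,2,0,3,4,2,4,3,1,2,0,3,4,2,2,4,3,1,2,0,3,3,1,2,0,3,4,2] (by decide +kernel)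
theorem f4886 : F [60,12,9,257] [0,5,7,24] := S.trans (f4885 S) (f4884 S)
theorem f4887 : F [210,364,138,131] [257,37,54,120] := S.mapC (f4798 S) [3,4,2,1,3,0,2,2,1,3,0,2,4,3,3,4,2,1,3,0,2,4,3,4,2,1,3,0,2,2,1,3,0,2,4,3,3,3,4,2,1,3,0,2,2,1,3,0,2,4,3,3,4,3,1,2,0,3,4,2,2,4,3,1,2,0,3,4,1,1,4,3,4,2,4] (by decide +kernel)
theorem f4888 : F [210,364,138,131] [0,5,7,24] := S.trans (f4887 S) (f1207 S)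
theorem f4889 : F [0,5,7,24] [770,1112,415,1254] := S.mapC (f4844 S) [2,4,1,2,2,4,0,2,4,0,2,4,3,1,2,0,3,4,2,2,2,2,2,4,3,1,2,0,3,3,1,2,0,3,4,2,2,2,4,3,1,2,0,3,3,1,2,0,3,4,2,4,3,1,2,0,3,3,1,2,0,3,3,1,2,0,3,3,1,2,0,3,4,2,2,4,3,1,2,0,3,3,1,2,0,3,4,2,4,2,1,3,0,2,2,1,3,0,2,4,3,4,2,1,3,0,2,2,1,3,0,2,4,3,3,4,3,1,2,0,3,4,2,2,4,3,1,2,0,3,3,1,2,0,3,4,2,4,3,1,2,0,3,3,1,2,0,3,3,1,2,0,3,4,3,4,2,1,3,0,2,2,1,3,0,2,4,3,3,4,2,1,3,0,2,4,2,2,4,3,1,2,0,3,3,1,2,0,3,4,2,4,3,1,2,0,3,4,2,2,4,3,1,2,0,3,3,1,2,0,3,4,2,4,3,1,2,0,3,3,1,2,0,3,4,2,2,4,3,1,2,0,3,3,1,2,0,3,4,2] (by decide +kernel)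
theorem f4890 : F [770,1112,415,1254] [0,5,7,24] := S.symm (f4889 S)
theorem f4891 : F [268,1041,282,686] [770,1112,415,1254] := S.mapC (f4888 S) [2,4,1,2,2,4,0,2,4,0,2,4,3,1,2,0,3,4,2,2,2,2,2,4,3,1,2,0,3,3,1,2,0,3,4,2,2,2,4,3,1,2,0,3,3,1,2,0,3,4,2,4,3,1,2,0,3,3,1,2,0,3,3,1,2,0,3,3,1,2,0,3,4,2,2,4,3,1,2,0,3,3,1,2,0,3,4,2,4,2,1,3,0,2,2,1,3,0,2,4,3,4,2,1,3,0,2,2,1,3,0,2,4,3,3,4,3,1,2,0,3,4,2,2,4,3,1,2,0,3,3,1,2,0,3,4,2,4,3,1,2,0,3,3,1,2,0,3,3,1,2,0,3,4,3,4,2,1,3,0,2,2,1,3,0,2,4,3,3,4,2,1,3,0,2,4,2,2,4,3,1,2,0,3,3,1,2,0,3,4,2,4,3,1,2,0,3,4,2,2,4,3,1,2,0,3,3,1,2,0,3,4,2,4,3,1,2,0,3,3,1,2,0,3,4,2,2,4,3,1,2,0,3,3,1,2,0,3,4,2] (by decide +kernel)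
theorem f4892 : F [268,1041,282,686] [0,5,7,24] := S.trans (f4891 S) (f4890 S)
theorem f4895 : F [237,695,1339,871] [120,165,25,22] := S.mapC (f4880 S) [1,1,3,4,2,4,2,4,3,1,2,0,3,3,1,2,0,3,4,2,4,3,1,2,0,3,4,2,2,4,3,1,2,0,3,3,1,2,0,3,4,2] (by decide +kernel)
theorem f4896 : F [237,695,1339,871] [0,5,7,24] := S.trans (f4895 S) (f4874 S)
theorem f4897 : F [1404,1123,835,969] [268,1041,282,686] := S.mapC (f4880 S) [3,4,2,1,3,0,2,2,1,3,0,2,4,3,3,4,2,1,3,0,2,2,1,3,0,2,2,1,3,0,2,2,1,3,0,2,4,2,2,4,2,1,3,0,2,4,3,1,4,2,0,4,2,2] (by decide +kernel)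
theorem f4898 : F [1404,1123,835,969] [0,5,7,24] := S.trans (f4897 S) (f4892 S)
theorem f4901 : F [884,332,786,763] [577,578,132,418] := S.mapC (f4892 S) [3,4,2,1,3,0,2,2,1,3,0,2,4,3,3,4,2,1,3,0,2,4,3,4,2,1,3,0,2,2,1,3,0,2,4,3,3,3,3,3,1,4,3,3,1,3,4,2] (by decide +kernel)
theorem f4902 : F [884,332,786,763] [0,5,7,24] := S.trans (f4901 S) (f4880 S)
theorem f4903 : F [345,371,1263,1218] [268,1041,282,686] := S.mapC (f4896 S) [3,4,2,1,3,0,2,2,1,3,0,2,4,3,3,4,2,1,3,0,2,2,1,3,0,2,2,1,3,0,2,2,1,3,0,2,4,2,2,4,2,1,3,0,2,4,3,1,4,2,0,4,2,2] (by decide +kernel)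
theorem f4904 : F [345,371,1263,1218] [0,5,7,24] := S.trans (f4903 S) (f4892 S)
theorem f4905 : F [1363,1092,408,627] [268,1041,282,686] := S.mapC (f4902 S) [3,4,2,1,3,0,2,2,1,3,0,2,4,3,3,4,2,1,3,0,2,2,1,3,0,2,2,1,3,0,2,2,1,3,0,2,4,2,2,4,2,1,3,0,2,4,3,1,4,2,0,4,2,2] (by decide +kernel)
theorem f4906 : F [1363,1092,408,627] [0,5,7,24] := S.trans (f4905 S) (f4892 S)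
theorem f4911 : F [258,480,1199,868] [60,12,9,257] := S.mapC (f4906 S) [3,4,2,1,3,0,2,2,1,3,0,2,4,3,3,4,2,1,3,0,2,4,3,4,2,1,3,0,2,2,1,3,0,2,4,3,3,4,2,1,3,0,2,4,3,1,4,2,0,4] (by decide +kernel)
theorem f4912 : F [258,480,1199,868] [0,5,7,24] := S.trans (f4911 S) (f4886 S)
theorem f4913 : F [0,5,7,24] [387,846,417,34] := S.mapC (f4904 S) [3,3,4,1,3,4,0,2,4,3,1,2,0,3,4,3,3,4,3,1,2,0,3,3,1,2,0,3,3,1,2,0,3,4,3,4,2,1,3,0,2,2,1,3,0,2,4,3,4,3,4,2,0,0,3,4,2,0,2,2,4,0,2,2,2,2,2,4,3,1,2,0,3,3,1,2,0,3,4,2,4,3,1,2,0,3,4,2,2,4,3,1,2,0,3,3,1,2,0,3,4,2] (by decide +kernel)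
theorem f4914 : F [387,846,417,34] [0,5,7,24] := S.symm (f4913 S)
theorem f4915 : F [75,269,490,41] [387,846,417,34] := S.mapC (f4912 S) [3,3,4,1,3,4,0,2,4,3,1,2,0,3,4,3,3,4,3,1,2,0,3,3,1,2,0,3,3,1,2,0,3,4,3,4,2,1,3,0,2,2,1,3,0,2,4,3,4,3,4,2,0,0,3,4,2,0,2,2,4,0,2,2,2,2,2,4,3,1,2,0,3,3,1,2,0,3,4,2,4,3,1,2,0,3,4,2,2,4,3,1,2,0,3,3,1,2,0,3,4,2] (by decide +kernel)
theorem f4916 : F [75,269,490,41] [0,5,7,24] := S.trans (f4915 S) (f4914 S)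
theorem f4917 : F [1194,837,1355,994] [60,12,9,257] := S.mapC (f4898 S) [3,4,2,1,3,0,2,2,1,3,0,2,4,3,3,4,2,1,3,0,2,4,3,4,2,1,3,0,2,2,1,3,0,2,4,3,3,4,2,1,3,0,2,4,3,1,4,2,0,4] (by decide +kernel)
theorem f4918 : F [1194,837,1355,994] [0,5,7,24] := S.trans (f4917 S) (f4886 S)
theorem f4919 : F [0,5,7,24] [52,699,167,643] := S.mapC (f4898 S) [3,3,4,1,3,4,0,2,4,3,1,2,0,3,4,3,3,4,3,1,2,0,3,3,1,2,0,3,3,1,2,0,3,3,1,2,0,3,4,2,2,4,3,1,2,0,3,3,1,2,0,0,2,2,4,0,2,2,2,2,2,4,3,1,2,0,3,3,1,2,0,3,4,2,4,3,1,2,0,3,4,2,2,4,3,1,2,0,3,3,1,2,0,3,4,2] (by decide +kernel)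
theorem f4920 : F [52,699,167,643] [0,5,7,24] := S.symm (f4919 S)
theorem f4921 : F [256,474,173,411] [52,699,167,643] := S.mapC (f4918 S) [3,3,4,1,3,4,0,2,4,3,1,2,0,3,4,3,3,4,3,1,2,0,3,3,1,2,0,3,3,1,2,0,3,3,1,2,0,3,4,2,2,4,3,1,2,0,3,3,1,2,0,0,2,2,4,0,2,2,2,2,2,4,3,1,2,0,3,3,1,2,0,3,4,2,4,3,1,2,0,3,4,2,2,4,3,1,2,0,3,3,1,2,0,3,4,2] (by decide +kernel)
theorem f4922 : F [256,474,173,411] [0,5,7,24] := S.trans (f4921 S) (f4920 S)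
theorem f4942 : F [54,2,21] [254,447,29] := S.mapC (f590 S) [4,2,1,3,0,2,4,3,1,1,4,2,4,3,4] (by decide +kernel)
theorem f4943 : F [54,2,21] [0,27,21] := S.trans (f4942 S) (f672 S)
theorem f5181 : F [1111,696,914] [727,1274,914] := S.mapC (f4943 S) [3,4,2,1,3,0,2,2,1,3,0,2,4,3,3,4,2,1,3,0,2,4,3,4,2,1,3,0,2,2,1,3,0,2,4,3,3,3,4,2,1,3,0,2,2,1,3,0,2,4,3,3,4,3,1,2,0,3,4,2,2,4,3,1,2,0,3,3,1,2,0,3,4,2,4,2,1,3,0,2,2,1,3,0,2,2,1,3,0,2,4,3,4,2,1,3,0,2,2,1,3,0,2,4,3,3,4,2,1,3,0,2,4,2,2,4,3,1,2,0,3,3,1,2,0,3,4,2,4,3,1,2,0,3,3,1,2,0,3,4,3,4,2,1,3,0,2,2,1,3,0,2,4,3,3,4,2,1,3,0,2,2,1,3,0,2,4,3,4,2,1,3,0,2,2,1,3,0,2,4,3,3,3,4,2,1,3,0,2,2,1,3,0,2,4,3,3,4,2,1,3,0,2,4,2,4,2,1,3,0,2,4,2,4,2,1,3,0,2,2,1,3,0,3,3,4,3,0,2] (by decide +kernel)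
theorem f5182 : F [1111,696,914] [0,27,21] := S.trans (f5181 S) (f1129 S)
theorem f5183 : F [0,27,21] [54,2,21] := S.mapC (f4943 S) [4,3,4,0,0,4,3,1,2,0,3,4,2,2,4,3,1,2,0,3,4,3,4,2,1,3,0,2,2,1,3,0,2,4,3,3,4,2,1,3,0,2,4,2,2,4,3,1,2,0,3,3,1,2,0,3,4,2,2,2,4,3,1,2,0,3,3,1,2,0,3,4,2,4,3,1,2,0,3,4,2,2,4,3,1,2,0,3,3,1,2,0,3,4,2,4,3,1,2,0,3,3,1,2,0,3,4,2,2,4,3,1,2,0,3,3,1,2,0,3,4,2] (by decide +kernel)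
theorem f5184 : F [54,2,21] [0,27,21] := S.symm (f5183 S)
theorem f5185 : F [555,666,880] [54,2,21] := S.mapC (f5182 S) [4,3,4,0,0,4,3,1,2,0,3,4,2,2,4,3,1,2,0,3,4,3,4,2,1,3,0,2,2,1,3,0,2,4,3,3,4,2,1,3,0,2,4,2,2,4,3,1,2,0,3,3,1,2,0,3,4,2,2,2,4,3,1,2,0,3,3,1,2,0,3,4,2,4,3,1,2,0,3,4,2,2,4,3,1,2,0,3,3,1,2,0,3,4,2,4,3,1,2,0,3,3,1,2,0,3,4,2,2,4,3,1,2,0,3,3,1,2,0,3,4,2] (by decide +kernel)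
theorem f5186 : F [555,666,880] [0,27,21] := S.trans (f5185 S) (f5184 S)

end Cfsg.Agent.Lib.TC.D.HND.Fa
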